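import Cfsg.Agent.R2.Spec.F1.TopC

/-!
# The primes of the radical, rank at least 5 (helper23)

`BigS t'` is the only condition on `S` (`LS.bigS_five`, `LS.bigS_small` give it).

* `LS.kprime_cls` : rank at least 5, `3 ≤ q`: a prime `s ≠ v` of `|K|` has `cls t (p ^ f) s ≤ 2`;
* `LS.p_not_dvd_K` : rank at least 5, not (`psp`, `oodd` of even rank), `p ≠ v`: `p ∤ |K|`;
* `LS.bigS_small` : `BigS t'` for `psp`, `oodd` 5, 6, `ominus` 6; `LS.small_ne_v`.
-/

set_option autoImplicit false
set_option linter.unusedSectionVars false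
set_option linter.unusedVariables false

namespace Cfsg.Agent.R2.Spec.F1

open Subgroup Cfsg
open Cfsg.Agent.H426.LieFam Cfsg.Agent.R2.Spec Cfsg.Agent.R2.Spec.P1
open Cfsg.Agent.H420.QR

universe u w

/-- three big classes -/
theorem exists_two_big {t : Fam} (ht : Classical t) (hn : 5 ≤ rk t) (k : ℕ) :
    ∃ i j, Big t i ∧ Big t j ∧ i ≠ j ∧ i ≠ k ∧ j ≠ k := by
  have key : ∀ {a b c : ℕ}, Big t a → Big t b → Big t c → a ≠ b → a ≠ c → b ≠ c →
      ∃ i j, Big t i ∧ Big t j ∧ i ≠ j ∧ i ≠ k ∧ j ≠ k := by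
    intro a b c ha hb hc hab hac hbc
    by_cases h1 : a = k
    · exact ⟨b, c, hb, hc, hbc, by omega, by omega⟩
    · by_cases h2 : b = k
      · exact ⟨a, c, ha, hc, hac, h1, by omega⟩
      · exact ⟨a, b, ha, hb, hab, h1, h2⟩
  cases t with
  | psl n =>
    change 5 ≤ n at hn
    have B : ∀ j, j ≤ n → n < 2 * j → Big (.psl n) j := fun j h1 h2 => ⟨by omega, h1, h2⟩
    exact key (B n (by omega) (by omega)) (B (n - 1) (by omega) (by omega)) (B (n - 2) (by omega) (by omega)) (by omega)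
      (by omega) (by omega)
  | psu n =>
    change 5 ≤ n at hn
    have B : ∀ j, j ≤ n → n < 2 * j → Big (.psu n) j := fun j h1 h2 => ⟨by omega, h1, h2⟩
    exact key (B n (by omega) (by omega)) (B (n - 1) (by omega) (by omega)) (B (n - 2) (by omega) (by omega)) (by omega)
      (by omega) (by omega)
  | psp n =>
    change 5 ≤ n at hn
    have keye : ∀ j, n < 2 * j → j ≤ n → Big (.psp n) (2 * j) := fun j h1 h2 =>
      ⟨by omega, by
        change eta (2 * j) ≤ n
        rw [eta_two_mul']; exact h2, by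
        change n < 2 * eta _
        rw [eta_two_mul']; exact h1⟩
    exact key (keye n (by omega) (by omega)) (keye (n - 1) (by omega) (by omega)) (keye (n - 2) (by omega) (by omega))
      (by omega) (by omega) (by omega)
  | oodd n =>
    change 5 ≤ n at hn
    have keye : ∀ j, n < 2 * j → j ≤ n → Big (.oodd n) (2 * j) := fun j h1 h2 =>
      ⟨by omega, by
        change eta (2 * j) ≤ n
        rw [eta_two_mul']; exact h2, by
        change n < 2 * eta _
        rw [eta_two_mul']; exact h1⟩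
    exact key (keye n (by omega) (by omega)) (keye (n - 1) (by omega) (by omega)) (keye (n - 2) (by omega) (by omega))
      (by omega) (by omega) (by omega)
  | oplus n =>
    change 5 ≤ n at hn
    have keye : ∀ j, n < 2 * j → j + 1 ≤ n → Big (.oplus n) (2 * j) := fun j h1 h2 =>
      ⟨by omega, Or.inl (by rw [eta_two_mul']; exact h2), by
        change n < 2 * eta _
        rw [eta_two_mul']; exact h1⟩
    have keyo : ∀ j, j % 2 = 1 → n < 2 * j → j + 1 ≤ n ∨ (j = n ∧ n % 2 = 1) → Big (.oplus n) j := fun j hj h1 h2 =>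
      ⟨by omega, by
        rcases h2 with h2 | h2
        · exact Or.inl (by rw [eta_odd hj]; exact h2)
        · exact Or.inr h2, by
        change n < 2 * eta _
        rw [eta_odd hj]; exact h1⟩
    obtain ⟨o, ho1, ho2⟩ : ∃ o, o % 2 = 1 ∧ ((o = n ∧ n % 2 = 1) ∨ o + 1 = n) := by
      rcases Nat.mod_two_eq_zero_or_one n with h | h
      · exact ⟨n - 1, by omega, by omega⟩
      · exact ⟨n, h, by omega⟩
    exact key (keye (n - 1) (by omega) (by omega)) (keye (n - 2) (by omega) (by omega)) (keyo o ho1 (by omega) (by omega))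
      (by omega) (by omega) (by omega)
  | ominus n =>
    change 5 ≤ n at hn
    have keye : ∀ j, n < 2 * j → j ≤ n → Big (.ominus n) (2 * j) := fun j h1 h2 =>
      ⟨by omega, by
        change eta (2 * j) + 1 ≤ n ∨ 2 * j = 2 * n
        rw [eta_two_mul']; omega, by
        change n < 2 * eta _
        rw [eta_two_mul']; exact h1⟩
    exact key (keye n (by omega) (by omega)) (keye (n - 1) (by omega) (by omega)) (keye (n - 2) (by omega) (by omega))
      (by omega) (by omega) (by omega)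
  | _ => exact ht.elim

/-- **Every regular class is nonadjacent to two big classes** (rank at least 5). -/
theorem top_two' {t : Fam} (ht : Classical t) (hn : 5 ≤ rk t) {k : ℕ} (h3 : 3 ≤ k) (hkm : mem t k) :
    ∃ i j, Big t i ∧ Big t j ∧ i ≠ j ∧ na t k i ∧ na t k j := by
  by_cases hk : Big t k
  · obtain ⟨i, j, hi, hj, hij, hik, hjk⟩ := exists_two_big ht hn k
    exact ⟨i, j, hi, hj, hij, na_of_big ht hk hi hik.symm, na_of_big ht hk hj hjk.symm⟩
  · exact top_two ht hn h3 hkm hk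

variable {t : Fam} {p f : ℕ} {L : Type w} [Group L] [Finite L] {G : Type u} [Group G] [Finite G]
variable {K : Subgroup G} [K.Normal] {S : Subgroup (G ⧸ K)} [S.Normal]
variable {t' : Fam} {v f' : ℕ}

theorem exists_in (h : LS t p f L G) (hq : 3 ≤ p ^ f) {i : ℕ} (h3 : 3 ≤ i) (hm : mem t i) :
    ∃ r : ℕ, In t (p ^ f) i r := by
  obtain ⟨r, hr, hc⟩ := exists_cls (t := t) h.q_pos h3 (fun h2 => by omega)
  exact ⟨r, hr, hc, h3, hm⟩

/-- **The primes of the radical have class at most two**, rank at least 5. -/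
theorem LS.kprime_cls (h : LS t p f L G) (hR : Red G K S) (hF : Frm G K S t' v f') (hS : BigS t') (hn : 5 ≤ rk t)
    (hq : 3 ≤ p ^ f) {s : ℕ} (hs : s.Prime) (hsv : s ≠ v) (hsK : s ∣ Nat.card K) : cls t (p ^ f) s ≤ 2 := by
  by_contra hcon
  have h3 : 3 ≤ cls t (p ^ f) s := by omega
  obtain ⟨hs5, hsq, -⟩ := cls_facts hs h3
  have hsp : ¬ s ∣ p := fun hd => hsq (hd.trans (dvd_pow_self p (by have := h.fpos; omega)))
  have hsG : s ∣ Nat.card G := by
    rw [card_eq_mul (K := K) (S := S)]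
    exact Dvd.dvd.mul_left (hsK.mul_right _) _
  have hm : mem t (cls t (p ^ f) s) :=
    (h.adj.dvd s hs (by omega) hsp h3).1 ((h.dvd_iff hs).1 hsG)
  have hsI : In t (p ^ f) (cls t (p ^ f) s) s := ⟨hs, rfl, h3, hm⟩
  obtain ⟨i, j, hi, hj, hij, hki, hkj⟩ := top_two' h.cla hn h3 hm
  obtain ⟨x, hx⟩ := exists_in h hq hi.1 hi.2.1
  obtain ⟨y, hy⟩ := exists_in h hq hj.1 hj.2.1
  exact h.cls_kprime hR hF hS hsI hsv hx hy (na_of_big h.cla hi hj hij) hki hkj hsK

/-- two isolated classes -/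
theorem exists_two_iso {t : Fam} (ht : Classical t) (hn : 5 ≤ rk t)
    (hex : ∀ n, (t = .psp n ∨ t = .oodd n) → n % 2 = 1) :
    ∃ i j, (3 ≤ i ∧ mem t i ∧ nap t i) ∧ (3 ≤ j ∧ mem t j ∧ nap t j) ∧ na t i j := by
  cases t with
  | psl n =>
    change 5 ≤ n at hn
    refine ⟨n, n - 1, ⟨by omega, le_rfl, show n < n + 2 by omega⟩, ⟨by omega, show n - 1 ≤ n by omega,
      show n < n - 1 + 2 by omega⟩, ?_⟩
    exact na_of_big ht ⟨by omega, le_rfl, show n < 2 * n by omega⟩
      ⟨by omega, show n - 1 ≤ n by omega, show n < 2 * (n - 1) by omega⟩ (by omega)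
  | psu n =>
    change 5 ≤ n at hn
    refine ⟨n, n - 1, ⟨by omega, le_rfl, show n < n + 2 by omega⟩, ⟨by omega, show n - 1 ≤ n by omega,
      show n < n - 1 + 2 by omega⟩, ?_⟩
    exact na_of_big ht ⟨by omega, le_rfl, show n < 2 * n by omega⟩
      ⟨by omega, show n - 1 ≤ n by omega, show n < 2 * (n - 1) by omega⟩ (by omega)
  | psp n =>
    change 5 ≤ n at hn
    have ho := hex n (Or.inl rfl)
    have e1 := eta_two_mul' n
    have e2 := eta_odd ho
    refine ⟨2 * n, n, ⟨by omega, show eta (2 * n) ≤ n by omega, show n < eta (2 * n) + 1 by omega⟩,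
      ⟨by omega, show eta n ≤ n by omega, show n < eta n + 1 by omega⟩, ?_⟩
    exact na_of_big ht ⟨by omega, show eta (2 * n) ≤ n by omega, show n < 2 * eta (2 * n) by omega⟩
      ⟨by omega, show eta n ≤ n by omega, show n < 2 * eta n by omega⟩ (by omega)
  | oodd n =>
    change 5 ≤ n at hn
    have ho := hex n (Or.inr rfl)
    have e1 := eta_two_mul' n
    have e2 := eta_odd ho
    refine ⟨2 * n, n, ⟨by omega, show eta (2 * n) ≤ n by omega, show n < eta (2 * n) + 1 by omega⟩,
      ⟨by omega, show eta n ≤ n by omega, show n < eta n + 1 by omega⟩, ?_⟩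
    exact na_of_big ht ⟨by omega, show eta (2 * n) ≤ n by omega, show n < 2 * eta (2 * n) by omega⟩
      ⟨by omega, show eta n ≤ n by omega, show n < 2 * eta n by omega⟩ (by omega)
  | oplus n =>
    change 5 ≤ n at hn
    have e2 := eta_two_mul' (n - 1)
    obtain ⟨o, ho1, ho2⟩ : ∃ o, o % 2 = 1 ∧ ((o = n ∧ n % 2 = 1) ∨ o + 1 = n) := by
      rcases Nat.mod_two_eq_zero_or_one n with h | h
      · exact ⟨n - 1, by omega, by omega⟩
      · exact ⟨n, h, by omega⟩
    have e3 := eta_odd ho1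
    have m1 : mem (.oplus n) (2 * (n - 1)) := show eta (2 * (n - 1)) + 1 ≤ n ∨ (2 * (n - 1) = n ∧ n % 2 = 1) by omega
    have m2 : mem (.oplus n) o := show eta o + 1 ≤ n ∨ (o = n ∧ n % 2 = 1) by omega
    refine ⟨2 * (n - 1), o, ⟨by omega, m1, show n < eta (2 * (n - 1)) + 2 by omega⟩,
      ⟨by omega, m2, show n < eta o + 2 by omega⟩, ?_⟩
    exact na_of_big ht ⟨by omega, m1, show n < 2 * eta (2 * (n - 1)) by omega⟩
      ⟨by omega, m2, show n < 2 * eta o by omega⟩ (by omega)
  | ominus n =>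
    change 5 ≤ n at hn
    have e1 := eta_two_mul' n
    have e2 := eta_two_mul' (n - 1)
    have m1 : mem (.ominus n) (2 * (n - 1)) := show eta (2 * (n - 1)) + 1 ≤ n ∨ 2 * (n - 1) = 2 * n by omega
    have m2 : mem (.ominus n) (2 * n) := Or.inr rfl
    refine ⟨2 * (n - 1), 2 * n, ⟨by omega, m1, show n < eta (2 * (n - 1)) + 2 by omega⟩,
      ⟨by omega, m2, show n < eta (2 * n) + 2 by omega⟩, ?_⟩
    exact na_of_big ht ⟨by omega, m1, show n < 2 * eta (2 * (n - 1)) by omega⟩
      ⟨by omega, m2, show n < 2 * eta (2 * n) by omega⟩ (by omega)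
  | _ => exact ht.elim

/-- **`p` is not a prime of the radical.** -/
theorem LS.p_not_dvd_K (h : LS t p f L G) (hR : Red G K S) (hF : Frm G K S t' v f') (hS : BigS t') (hn : 5 ≤ rk t)
    (hq : 3 ≤ p ^ f) (hpv : p ≠ v) (hex : ∀ n, (t = .psp n ∨ t = .oodd n) → n % 2 = 1) : ¬ p ∣ Nat.card K := by
  obtain ⟨i, j, ⟨hi3, him, hin⟩, ⟨hj3, hjm, hjn⟩, hij⟩ := exists_two_iso h.cla hn hex
  obtain ⟨x, hx⟩ := exists_in h hq hi3 him
  obtain ⟨y, hy⟩ := exists_in h hq hj3 hjm
  exact h.p_kprime hR hF hS hpv hx hy hij hin hjn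

/-- `BigS` from a coclique of five classes -/
theorem LS.bigS_list (h : LS t p f L G) (hR : Red G K S) (hF : Frm G K S t' v f') (hq : 3 ≤ p ^ f) {I : List ℕ}
    (hc : coqB t I = true) (hlen : 5 ≤ I.toFinset.card) : BigS t' := by
  obtain ⟨h1, h2⟩ := coqB_of hc
  exact h.bigS hR hF h1 h2 (fun j hj => exists_cls h.q_pos (h1 j hj).1 fun hq2 => by omega) hlen

/-- the ranks 5, 6 of `psp`, `oodd`, the rank 6 of `ominus` -/
def SmallT : Fam → Prop
  | .psp n => n = 5 ∨ n = 6
  | .oodd n => n = 5 ∨ n = 6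
  | .ominus n => n = 6
  | _ => False

theorem smallT_coq {t : Fam} (ht : SmallT t) : coqB t (smallI t) = true ∧ 5 ≤ (smallI t).toFinset.card := by
  cases t with
  | psp n =>
    rcases ht with rfl | rfl
    · exact ⟨by decide, by decide⟩
    · exact ⟨by decide, by decide⟩
  | oodd n =>
    rcases ht with rfl | rfl
    · exact ⟨by decide, by decide⟩
    · exact ⟨by decide, by decide⟩
  | ominus n =>
    have h : n = 6 := ht
    subst h
    exact ⟨by decide, by decide⟩
  | _ => exact ht.elim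

theorem LS.bigS_small (h : LS t p f L G) (hR : Red G K S) (hF : Frm G K S t' v f') (hq : 3 ≤ p ^ f) (ht : SmallT t) :
    BigS t' :=
  h.bigS_list hR hF hq (smallT_coq ht).1 (smallT_coq ht).2

theorem LS.list_ne_v (h : LS t p f L G) (hR : Red G K S) (hF : Frm G K S t' v f') (hq : 3 ≤ p ^ f) {I : List ℕ}
    (hc : coqB t I = true) (hlen : 5 ≤ I.toFinset.card) {i r : ℕ} (hi : i ∈ I) (hr : r.Prime)
    (hri : cls t (p ^ f) r = i) : r ≠ v := by
  obtain ⟨h1, h2⟩ := coqB_of hc
  exact h.ne_v_of_five hR hF h1 h2 (fun j hj => exists_cls h.q_pos (h1 j hj).1 fun hq2 => by omega) hlen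
    (List.mem_toFinset.2 hi) hr hri

/-- the primes of the classes of `smallI` are different from `v` -/
theorem LS.small_ne_v (h : LS t p f L G) (hR : Red G K S) (hF : Frm G K S t' v f') (hq : 3 ≤ p ^ f) (ht : SmallT t)
    {i r : ℕ} (hi : i ∈ smallI t) (hr : r.Prime) (hri : cls t (p ^ f) r = i) : r ≠ v :=
  h.list_ne_v hR hF hq (smallT_coq ht).1 (smallT_coq ht).2 hi hr hri

end Cfsg.Agent.R2.Spec.F1
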