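import Cfsg.Agent.R2.Spec.F1.Fld

/-!
# Field automorphisms of the classical groups, the families (helper23)

`fldDat_cls` : `FldDat v r S` for the six classical families, `r ≥ 5` a prime not dividing the index of the
inner-diagonal part.
-/

set_option autoImplicit false
set_option linter.unusedSectionVars false

namespace Cfsg.Agent.R2.Spec.F1

open Subgroup Cfsg
open Cfsg.Agent.H426.LieFam Cfsg.Agent.H414.LieShape Cfsg.Agent.H254 Cfsg.Agent.H967.CopMat Cfsg.Agent.H967.CopSec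

universe u v

theorem center_bot_of_equiv {M M' : Type*} [Group M] [Group M'] (e : M ≃* M') (h : center M' = ⊥) : center M = ⊥ := by
  rw [eq_bot_iff]
  intro z hz
  have h1 : e z ∈ center M' := by
    rw [mem_center_iff] at hz ⊢
    intro y
    have h2 := hz (e.symm y)
    have h3 := congrArg e h2
    rwa [map_mul, map_mul, MulEquiv.apply_symm_apply] at h3
  rw [h, mem_bot] at h1
  rw [mem_bot]
  exact e.injective (by rw [h1, map_one])

section sub

variable {F : Type} [Field F] [Finite F]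

/-- the subfield fixed by an automorphism of order `r` -/
theorem sub_data {v f r : ℕ} (hv : v.Prime) [CharP F v] (hF : Nat.card F = v ^ f) (hr : r ≠ 0) (σ : F ≃+* F)
    (hσ : orderOf σ = r) : ∃ f₀ : ℕ, 1 ≤ f₀ ∧ Nat.card (Fx σ) = v ^ f₀ ∧ f = f₀ * r := by
  have h1 := card_Fx σ
  rw [hσ, hF] at h1
  have h2 : Nat.card (Fx σ) ∣ v ^ f := by
    rw [h1]
    exact dvd_pow_self _ hr
  obtain ⟨f₀, -, hf₀⟩ := (Nat.dvd_prime_pow hv).1 h2
  refine ⟨f₀, ?_, hf₀, ?_⟩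
  · rcases Nat.eq_zero_or_pos f₀ with h0 | h0
    · exfalso
      rw [h0, pow_zero] at hf₀
      have : 1 < Nat.card (Fx σ) := Finite.one_lt_card
      omega
    · exact h0
  · rw [hf₀, ← pow_mul] at h1
    exact Nat.pow_right_injective hv.two_le h1

theorem one_le_of_card {F : Type*} [Field F] [Finite F] {v f : ℕ} (hF : Nat.card F = v ^ f) : 1 ≤ f := by
  rcases Nat.eq_zero_or_pos f with h0 | h0
  · exfalso
    rw [h0, pow_zero] at hF
    have : 1 < Nat.card F := Finite.one_lt_card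
    omega
  · exact h0

end sub

section psl

open Cfsg.Agent.ClassicalGeometry.AutPSL.Auto Cfsg.Agent.ClassicalGeometry.AutPSL.Main

theorem fldDat_psl {F : Type} [Field F] [Fintype F] {v f n r : ℕ} (hv : v.Prime) [CharP F v]
    (hF : Fintype.card F = v ^ f) (hn : 2 ≤ n) (h4 : n = 2 → 4 ≤ v ^ f) (hr : r.Prime) (hr5 : 5 ≤ r)
    (hrd : ¬ r ∣ Nat.gcd n (v ^ f - 1)) : FldDat v r (Matrix.ProjectiveSpecialLinearGroup (Fin n) F) := by
  have hvf := Fact.mk hv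
  have : Nontrivial (Fin n) := Fin.nontrivial_iff_two_le.2 hn
  have hF' : Nat.card F = v ^ f := by rw [Nat.card_eq_fintype_card, hF]
  have hf := one_le_of_card hF'
  obtain ⟨ρ, hρ, -⟩ := exists_ringAut F
  rw [Lib.FieldAutCard.card_ringAut hf hF] at hρ
  have hZ := Cfsg.Agent.H183.OutPSL.center_psl (F := F) hn (fun h => by rw [hF]; exact h4 h)
  refine fldDat_of (lift (fld ρ)) ρ ?_ ?_ ?_ ?_
  · intro k
    rw [← map_pow, ← map_pow]
    exact H961.FixLin.orderOf_lift_fld hn _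
  · intro k hk
    rw [← map_pow, ← map_pow] at hk
    obtain ⟨A, hA⟩ := Cfsg.Agent.H183.OutPSL.inn_le_NN hk
    have h1 : lift (cj A * fld (1 : F ≃+* F)) = lift (fld (ρ ^ k)) := by
      rw [map_one, mul_one]
      exact hA
    exact ((injective_aux h1).2).symm
  · intro k hk
    have hcard := S0813.result v f hf hF n hn h4
    rw [Cfsg.Agent.H183.OutPSL.card_pgl_eq hn, hF] at hcard
    rw [hρ]
    refine out_pow_dvd hZ (c := 2 * Nat.gcd n (v ^ f - 1)) ?_ hr ?_ hk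
    · rw [hcard]
      by_cases hn2 : n = 2
      · rw [if_pos hn2]
        exact ⟨2, by ring⟩
      · rw [if_neg hn2]
        exact ⟨1, by ring⟩
    · intro h
      rcases hr.dvd_mul.1 h with h | h
      · have := Nat.le_of_dvd (by norm_num) h
        omega
      · exact hrd h
  · intro k hk x hx hxc hd
    have hfE : Fintype (Fx (ρ ^ k)) := Fintype.ofFinite _
    obtain ⟨f₀, hf₀, hE, hff⟩ := sub_data hv hF' hr.ne_zero (ρ ^ k) hk
    refine ⟨Matrix.ProjectiveSpecialLinearGroup (Fin n) (Fx (ρ ^ k)), inferInstance, ?_, ?_⟩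
    · rw [← map_pow, ← map_pow]
      exact H961.FixLin.sec_psl n (ρ ^ k) (Fx (ρ ^ k)).subtype fun b => b.2
    · obtain ⟨d, N, h1⟩ := sh_psl (F := F) hf hF hn hv
      obtain ⟨d₀, N₀, h2⟩ := sh_psl (F := Fx (ρ ^ k)) hf₀ (by rw [← Nat.card_eq_fintype_card, hE]) hn hv
      rw [hff] at h1
      refine dvd_small hv hr hr5 ?_ h1 h2 hx hxc hd
      intro h
      obtain ⟨i, -, hi⟩ := List.mem_map.1 h
      cases hi

end psl

section psp

open Cfsg.Agent.ClassicalGeometry.SympAutSemi Cfsg.Agent.ClassicalGeometry.SympGamma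

/-- an automorphism in the image of the similitudes over `F` -/
theorem psp_inn {F : Type*} [Field F] {m : ℕ} (hm : 1 ≤ m) (σ : F ≃+* F) (h : PSP.fld m σ ∈ Cfsg.Inn (PSp m F)) :
    σ = 1 := by
  obtain ⟨g, hg⟩ := h
  obtain ⟨A, rfl⟩ := QuotientGroup.mk_surjective g
  -- conjugation by `A` as a semisimilitude
  let a : semiSim m F := ⟨rho m F A, RingEquiv.refl F, 1, one_ne_zero, isSemi_rho A⟩
  have ha : Psi m F a = MulAut.conj (QuotientGroup.mk A : PSp m F) := by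
    ext x
    obtain ⟨B, rfl⟩ := QuotientGroup.mk_surjective x
    rw [Psi_mk]
    change _ = (QuotientGroup.mk (A * B * A⁻¹) : PSp m F)
    congr 1
    apply rho_injective
    rw [rho_conjHom, map_mul, map_mul, map_inv]
  have h1 : Psi m F (a⁻¹ * PSP.frobSS m σ) = 1 := by
    rw [map_mul, map_inv, ha, hg]
    exact inv_mul_cancel _
  obtain ⟨c, hc⟩ := exists_scal_of_Psi_eq_one hm _ h1
  have h2 : frobPerm m σ = rho m F A * scal m F c := by
    have h3 : (rho m F A)⁻¹ * frobPerm m σ = scal m F c := hc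
    rw [← h3, mul_inv_cancel_left]
  have h4 := (isSemi_rho A).mul (isSemi_scal (m := m) c)
  rw [← h2] at h4
  exact (IsSemi.unique hm (isSemi_frobPerm σ) h4).1

theorem fldDat_psp {F : Type} [Field F] [Fintype F] {v f m r : ℕ} (hv : v.Prime) [CharP F v]
    (hF : Fintype.card F = v ^ f) (hm : 2 ≤ m) (h3 : m = 2 → 3 ≤ v ^ f) (hr : r.Prime) (hr5 : 5 ≤ r)
    (hZ : center (PSp m F) = ⊥) : FldDat v r (PSp m F) := by
  have hvf := Fact.mk hv
  have hF' : Nat.card F = v ^ f := by rw [Nat.card_eq_fintype_card, hF]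
  have hf := one_le_of_card hF'
  have : Finite (Matrix.symplecticGroup (Fin m) F) := Finite.of_injective _ Subtype.val_injective
  obtain ⟨ρ, hρ, -⟩ := exists_ringAut F
  rw [Lib.FieldAutCard.card_ringAut hf hF] at hρ
  refine fldDat_of (PSP.fld m ρ) ρ ?_ ?_ ?_ ?_
  · intro k
    rw [← map_pow]
    exact H24.FixPSp.orderOf_fld (by omega) _
  · intro k hk
    rw [← map_pow] at hk
    exact psp_inn (by omega) _ hk
  · intro k hk
    have hcard := S0814.result v f hf hF m hm h3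
    rw [hρ]
    refine out_pow_dvd hZ (c := 4) ?_ hr ?_ hk
    · rw [hcard]
      have h6 : Nat.gcd 2 (v ^ f - 1) ∣ 2 := Nat.gcd_dvd_left _ _
      have h7 : (if m = 2 ∧ v = 2 then 2 else 1) ∣ 2 := by
        split_ifs
        · exact dvd_rfl
        · exact one_dvd _
      have h8 : (4 : ℕ) = 2 * 2 := by norm_num
      rw [h8]
      exact Nat.mul_dvd_mul_right (Nat.mul_dvd_mul (Nat.mul_dvd_mul h7 h6) dvd_rfl) _
    · intro h
      have := Nat.le_of_dvd (by norm_num) h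
      omega
  · intro k hk x hx hxc hd
    have hfE : Fintype (Fx (ρ ^ k)) := Fintype.ofFinite _
    obtain ⟨f₀, hf₀, hE, hff⟩ := sub_data hv hF' hr.ne_zero (ρ ^ k) hk
    refine ⟨PSp m (Fx (ρ ^ k)), inferInstance, ?_, ?_⟩
    · rw [← map_pow]
      exact H24.FixPSp.sec_psp (Fx (ρ ^ k)).subtype fun b => b.2
    · obtain ⟨d, N, h1⟩ := sh_psp (F := F) hf hF hm hv
      obtain ⟨d₀, N₀, h2⟩ := sh_psp (F := Fx (ρ ^ k)) hf₀ (by rw [← Nat.card_eq_fintype_card, hE]) hm hv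
      rw [hff] at h1
      refine dvd_small hv hr hr5 ?_ h1 h2 hx hxc hd
      intro h
      obtain ⟨i, -, hi⟩ := List.mem_map.1 h
      cases hi

end psp

section psu

open Cfsg.Agent.ClassicalGeometry.PSUAutCount Cfsg.Agent.Schreier.PSU

theorem psu_inn {F : Type*} [Field F] [Fintype F] {n q : ℕ} (hF : Fintype.card F = q ^ 2) (hn : 3 ≤ n) (σ : F ≃+* F)
    (h : PSUn.fld n q σ ∈ Cfsg.Inn (PSU n F q)) : σ = 1 := by
  obtain ⟨x, hx⟩ := h
  obtain ⟨g, rfl⟩ := QuotientGroup.mk_surjective x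
  let A : Cfsg.GU n F q := ⟨Matrix.SpecialLinearGroup.toGL (g : Matrix.SpecialLinearGroup (Fin n) F), g.2⟩
  have h1 : f₁ A = MulAut.conj (QuotientGroup.mk g : PSU n F q) := f₁_eq_conj A g rfl
  have h2 : toAut (1 : Cfsg.GU n F q) σ = toAut A 1 := by
    rw [← PSUn.fld_apply, toAut_eq, map_one, mul_one, h1]
    exact hx.symm
  exact ((eq_of_toAut_eq hF hn h2).1).symm

theorem fldDat_psu {F : Type} [Field F] [Fintype F] {v f n r : ℕ} (hv : v.Prime) [CharP F v]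
    (hF : Fintype.card F = (v ^ f) ^ 2) (hn : 3 ≤ n) (h32 : ¬ (n = 3 ∧ v ^ f = 2)) (hr : r.Prime) (hr5 : 5 ≤ r)
    (hrd : ¬ r ∣ Nat.gcd n (v ^ f + 1)) (hZ : center (PSU n F (v ^ f)) = ⊥) : FldDat v r (PSU n F (v ^ f)) := by
  have hvf := Fact.mk hv
  have hF' : Nat.card F = v ^ (2 * f) := by rw [Nat.card_eq_fintype_card, hF, ← pow_mul, mul_comm]
  have hf2 := one_le_of_card hF'
  have hf : 1 ≤ f := by omega
  obtain ⟨ρ, hρ, -⟩ := exists_ringAut F
  rw [Lib.FieldAutCard.card_ringAut hf2 (by rw [← Nat.card_eq_fintype_card, hF'])] at hρ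
  have hodd : Odd r := hr.odd_of_ne_two (by omega)
  refine fldDat_of (PSUn.fld n (v ^ f) ρ) ρ ?_ ?_ ?_ ?_
  · intro k
    rw [← map_pow]
    exact PSUn.orderOf_eq hF hn _
  · intro k hk
    rw [← map_pow] at hk
    exact psu_inn hF hn _ hk
  · intro k hk
    have hcard := S0815.result v f hf rfl hF n hn h32
    rw [hρ]
    refine out_pow_dvd hZ (c := Nat.gcd n (v ^ f + 1)) ?_ hr hrd hk
    rw [hcard]
  · intro k hk x hx hxc hd
    have hfE : Fintype (Fx (ρ ^ k)) := Fintype.ofFinite _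
    obtain ⟨f₁', hf₁, hE, hff⟩ := sub_data hv hF' hr.ne_zero (ρ ^ k) hk
    obtain ⟨f₀, hf₀⟩ : ∃ f₀, f₁' = 2 * f₀ := by
      have h1 : 2 ∣ f₁' * r := ⟨f, hff.symm⟩
      exact (Nat.Coprime.dvd_of_dvd_mul_right (Nat.coprime_two_left.2 hodd) h1)
    subst hf₀
    have hf0 : f = f₀ * r := by
      have h2 : 2 * f = 2 * (f₀ * r) := by rw [hff]; ring
      omega
    have hE' : Fintype.card (Fx (ρ ^ k)) = (v ^ f₀) ^ 2 := by
      rw [← Nat.card_eq_fintype_card, hE, ← pow_mul, mul_comm]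
    refine ⟨PSU n (Fx (ρ ^ k)) (v ^ f₀), inferInstance, ?_, ?_⟩
    · rw [← map_pow]
      exact H961.FixLin.sec_psu hF hE' hodd (by rw [← pow_mul, ← hf0]) (Fx (ρ ^ k)).subtype (ρ ^ k) fun b => b.2
    · obtain ⟨d, N, h1⟩ := sh_psu (F := F) hf hF hn hv
      obtain ⟨d₀, N₀, h2⟩ := sh_psu (F := Fx (ρ ^ k)) (by omega : 1 ≤ f₀) hE' hn hv
      have h3 : Sh v (Nat.card (PSU n F (v ^ f))) (f₀ * r) d N (Fam.psu n).facs := by
        rw [← hf0]
        exact h1
      refine dvd_small hv hr hr5 ?_ h3 h2 hx hxc hd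
      intro h
      obtain ⟨i, -, hi⟩ := List.mem_map.1 h
      split_ifs at hi

end psu

section orth

open QuadraticMap Matrix
open Cfsg.Agent.LieClassical.OrthTrans Cfsg.Agent.ClassicalGeometry.OrthSemi Cfsg.Agent.LieClassical.OrthSimple
  Cfsg.Agent.H198.OrthFrame Cfsg.Agent.H198.ExtForm Cfsg.Agent.H198.Carriers Cfsg.Agent.H185.OrthCent
  Cfsg.Agent.H185.MinusField

variable {ι : Type} [Fintype ι] [DecidableEq ι]

theorem frobG_pow {F : Type*} [Field F] {Q : QuadraticForm F (ι → F)} {σ : F ≃+* F} (h : Fix σ Q) (k : ℕ) :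
    ∃ hk : Fix (σ ^ k) Q, frobG h ^ k = frobG hk := by
  have hk : Fix (σ ^ k) Q := by
    induction k with
    | zero => intro v; rfl
    | succ k ih =>
      intro v
      rw [pow_succ]
      change Q (fun i => (σ ^ k) (σ (v i))) = (σ ^ k) (σ (Q v))
      rw [← h v]
      exact ih (fun i => σ (v i))
  refine ⟨hk, ?_⟩
  apply Subtype.ext
  ext1 v
  rw [frobG_pow_apply, frobG_apply]

theorem orth_inn {F : Type*} [Field F] {Q : QuadraticForm F (ι → F)} (hG : Good Q) [Nonempty ι] {σ : F ≃+* F}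
    (hσ : Fix σ Q) (h : Phi hG (frobG hσ) ∈ Cfsg.Inn (POmega F ⇑Q)) : σ = 1 := by
  obtain ⟨x, hx⟩ := h
  obtain ⟨s, rfl⟩ := QuotientGroup.mk_surjective x
  have hs : IsSemisimilarityPair (⇑Q) ((s : isometryGroup F ⇑Q) : GL ι F) (RingEquiv.refl F) :=
    ⟨1, fun v => by
      rw [Units.val_one, one_mul]
      exact (Cfsg.Agent.LieClassical.OmegaReindex.mem_isometryGroup _ _).1 s.1.2 v⟩
  let M : Gam Q := ⟨perm ((s : isometryGroup F ⇑Q) : GL ι F) (RingEquiv.refl F), perm_mem_Gam hs⟩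
  have hMv : ∀ v : ι → F, M.1 v = ((((s : isometryGroup F ⇑Q) : GL ι F) : Matrix ι ι F)) *ᵥ v := fun v => by
    change perm ((s : isometryGroup F ⇑Q) : GL ι F) (RingEquiv.refl F) v = _
    rw [perm_apply]
    rfl
  have hM : Phi hG M = MulAut.conj (QuotientGroup.mk s : POmega F ⇑Q) := by
    ext y
    obtain ⟨t, rfl⟩ := QuotientGroup.mk_surjective y
    change _ = (QuotientGroup.mk (s * t * s⁻¹) : POmega F ⇑Q)
    apply Phi_mk
    intro v
    rw [hMv, hMv]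
    change ((((s : isometryGroup F ⇑Q) : GL ι F) : Matrix ι ι F) * (((t : isometryGroup F ⇑Q) : GL ι F) : Matrix ι ι F) *
      ((((s : isometryGroup F ⇑Q) : GL ι F)⁻¹ : GL ι F) : Matrix ι ι F)) *ᵥ _ = _
    rw [mulVec_mulVec, Matrix.mul_assoc, Matrix.mul_assoc, ← Units.val_mul, inv_mul_cancel, Units.val_one,
      Matrix.mul_one, mulVec_mulVec]
  have h1 : Phi hG (M⁻¹ * frobG hσ) = 1 := by
    rw [map_mul, map_inv, hM, ← hx]
    exact inv_mul_cancel _
  rw [Phi_eq_one_iff] at h1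
  obtain ⟨a, -, ha⟩ := h1
  have h2 : ∀ v : ι → F, (fun i => σ (v i)) = a • ((((s : isometryGroup F ⇑Q) : GL ι F) : Matrix ι ι F) *ᵥ v) := by
    intro v
    have h3 := congrArg M.1 (ha v)
    have h4 : M.1 ((M⁻¹ * frobG hσ).1 v) = (frobG hσ).1 v := by
      change M.1 (M.1⁻¹ ((frobG hσ).1 v)) = _
      exact M.1.apply_symm_apply _
    rw [h4, frobG_apply, hMv, mulVec_smul] at h3
    exact h3
  obtain ⟨i⟩ := ‹Nonempty ι›
  ext c
  have h3 := congrFun (h2 (Pi.single i c)) i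
  have h4 := congrFun (h2 (Pi.single i 1)) i
  simp only [Pi.single_eq_same, map_one, Pi.smul_apply, smul_eq_mul, mulVec_single, MulOpposite.op_one,
    one_smul] at h3 h4
  change σ c = c
  rw [h3]
  simp only [Matrix.col_apply, MulOpposite.smul_eq_mul_unop, MulOpposite.unop_op] at h4 ⊢
  rw [← mul_assoc, ← h4, one_mul]

theorem fldDat_orth {F : Type} [Field F] [Fintype F] {v f r c : ℕ} [Nonempty ι] {Q : QuadraticForm F (ι → F)} (hG : Good Q) (hr : r.Prime)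
    (hrc : ¬ r ∣ c) (hcard : Nat.card (MulAut (POmega F ⇑Q)) ∣ c * f * Nat.card (POmega F ⇑Q))
    (hZ : center (POmega F ⇑Q) = ⊥) {ρ : F ≃+* F} (hρ : ∀ k : ℕ, r ^ k ∣ f → r ^ k ∣ orderOf ρ) (hfix : Fix ρ Q)
    (hQ : ∀ k : ℕ, orderOf (ρ ^ k) = r → ∃ Q₀ : QuadraticForm (Fx (ρ ^ k)) (ι → Fx (ρ ^ k)),
      Ext (Fx (ρ ^ k)).subtype Q₀ Q ∧
      ∀ x : ℕ, x.Prime → (x = v ∨ 5 ≤ x ∧ x % r ≠ 1) → x ∣ Nat.card (POmega F ⇑Q) →
        x ∣ Nat.card (POmega (Fx (ρ ^ k)) ⇑Q₀)) : FldDat v r (POmega F ⇑Q) := by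
  have hfin : Finite (Omega F ⇑Q) := inferInstance
  have hpow : ∀ k : ℕ, ∃ hk : Fix (ρ ^ k) Q, Phi hG (frobG hfix) ^ k = Phi hG (frobG hk) := by
    intro k
    obtain ⟨hk, h1⟩ := frobG_pow hfix k
    exact ⟨hk, by rw [← map_pow, h1]⟩
  refine fldDat_of (Phi hG (frobG hfix)) ρ ?_ ?_ ?_ ?_
  · intro k
    obtain ⟨hk, h1⟩ := hpow k
    rw [h1]
    exact orderOf_Phi_frob hG hk
  · intro k hin
    obtain ⟨hk, h1⟩ := hpow k
    rw [h1] at hin
    exact orth_inn hG hk hin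
  · intro k hk
    exact hρ k (out_pow_dvd hZ hcard hr hrc hk)
  · intro k hk x hx hxc hd
    obtain ⟨Q₀, h1, h2⟩ := hQ k hk
    obtain ⟨hk', h3⟩ := hpow k
    refine ⟨POmega (Fx (ρ ^ k)) ⇑Q₀, inferInstance, ?_, h2 x hx hxc hd⟩
    rw [h3]
    exact H24.FixOrth.sec_orth h1 hG hk' fun b => b.2

theorem fldDat_odd {F : Type} [Field F] [Fintype F] {v f m r : ℕ} (hv : v.Prime) [CharP F v]
    (hF : Fintype.card F = v ^ f) (hm : 3 ≤ m) (hodd : Odd (v ^ f)) (hr : r.Prime) (hr5 : 5 ≤ r)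
    (hZ : center (POmega F (quadFormOdd m F)) = ⊥) : FldDat v r (POmega F (quadFormOdd m F)) := by
  have hvf := Fact.mk hv
  have hF' : Nat.card F = v ^ f := by rw [Nat.card_eq_fintype_card, hF]
  have hf := one_le_of_card hF'
  have hodd' : Odd (Fintype.card F) := by rw [hF]; exact hodd
  have hvo : Odd v := (Nat.odd_pow_iff (by omega)).1 hodd
  have h20 : (2 : F) ≠ 0 := Cfsg.Agent.LieClassical.PomegaCard.odd_card_iff.1 hodd'
  obtain ⟨ρ, hρ, -⟩ := exists_ringAut F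
  rw [Lib.FieldAutCard.card_ringAut hf hF] at hρ
  have hne : Nonempty (Unit ⊕ (Fin m ⊕ Fin m)) := ⟨.inl ()⟩
  refine fldDat_orth (Q := oddQ m F) (f := f) (c := 2) (good_oddQ (by omega) h20) hr ?_ ?_ hZ (ρ := ρ) ?_
    (H24.FixOrth.fix_oddQ ρ m) ?_
  · intro h
    have := Nat.le_of_dvd (by norm_num) h
    omega
  · exact (S0816.result v f hf hF hvo m hm).dvd
  · intro k hk
    rw [hρ]
    exact hk
  · intro k hk
    refine ⟨oddQ m (Fx (ρ ^ k)), H24.FixOrth.ext_oddQ _ m, ?_⟩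
    intro x hx hxc hd
    have hfE : Fintype (Fx (ρ ^ k)) := Fintype.ofFinite _
    obtain ⟨f₀, hf₀, hE, hff⟩ := sub_data hv hF' hr.ne_zero (ρ ^ k) hk
    have hE' : Fintype.card (Fx (ρ ^ k)) = v ^ f₀ := by rw [← Nat.card_eq_fintype_card, hE]
    obtain ⟨d, N, h1⟩ := sh_oodd (F := F) hf hF hm hodd' hv
    obtain ⟨d₀, N₀, h2⟩ := sh_oodd (F := Fx (ρ ^ k)) hf₀ hE' hm (by rw [hE']; exact hvo.pow) hv
    rw [hff] at h1
    refine dvd_small hv hr hr5 ?_ h1 h2 hx hxc hd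
    intro h
    obtain ⟨i, -, hi⟩ := List.mem_map.1 h
    cases hi

theorem not_dvd_24 {r : ℕ} (hr : r.Prime) (hr5 : 5 ≤ r) : ¬ r ∣ 3 * 8 := by
  intro h
  rcases hr.dvd_mul.1 h with h | h
  · have := Nat.le_of_dvd (by norm_num) h
    omega
  · have h1 : r ∣ 2 ^ 3 := h
    have := Nat.le_of_dvd (by norm_num) (hr.dvd_of_dvd_pow h1)
    omega

theorem fldDat_plus {F : Type} [Field F] [Fintype F] {v f m r : ℕ} (hv : v.Prime) [CharP F v]
    (hF : Fintype.card F = v ^ f) (hm : 4 ≤ m) (hr : r.Prime) (hr5 : 5 ≤ r)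
    (hZ : center (POmega F (quadFormPlus m F)) = ⊥) : FldDat v r (POmega F (quadFormPlus m F)) := by
  have hvf := Fact.mk hv
  have hF' : Nat.card F = v ^ f := by rw [Nat.card_eq_fintype_card, hF]
  have hf := one_le_of_card hF'
  obtain ⟨ρ, hρ, -⟩ := exists_ringAut F
  rw [Lib.FieldAutCard.card_ringAut hf hF] at hρ
  have hne : Nonempty (Fin m ⊕ Fin m) := ⟨.inl ⟨0, by omega⟩⟩
  refine fldDat_orth (Q := plusQ m F) (f := f) (c := 3 * 8) (good_plusQ (by omega)) hr (not_dvd_24 hr hr5) ?_ hZ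
    (ρ := ρ) ?_ (H24.FixOrth.fix_plusQ ρ m) ?_
  · have hcard := S0817.result v f hf hF m hm
    have h5 : Nat.card (MulAut (POmega F ⇑(plusQ m F))) = Nat.card (MulAut (POmega F (quadFormPlus m F))) := rfl
    rw [h5, hcard]
    have h6 : (if m = 4 then 3 else 1) ∣ 3 := by
      split_ifs
      · exact dvd_rfl
      · exact one_dvd _
    have h7 : (if v = 2 then 2 else (if Even (m * (v ^ f - 1) / 2) then 8 else 4)) ∣ 8 := by
      split_ifs
      · exact ⟨4, by norm_num⟩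
      · exact dvd_rfl
      · exact ⟨2, by norm_num⟩
    exact Nat.mul_dvd_mul_right (Nat.mul_dvd_mul (Nat.mul_dvd_mul h6 h7) dvd_rfl) _
  · intro k hk
    rw [hρ]
    exact hk
  · intro k hk
    refine ⟨plusQ m (Fx (ρ ^ k)), H24.FixOrth.ext_plusQ _ m, ?_⟩
    intro x hx hxc hd
    have hfE : Fintype (Fx (ρ ^ k)) := Fintype.ofFinite _
    obtain ⟨f₀, hf₀, hE, hff⟩ := sub_data hv hF' hr.ne_zero (ρ ^ k) hk
    have hE' : Fintype.card (Fx (ρ ^ k)) = v ^ f₀ := by rw [← Nat.card_eq_fintype_card, hE]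
    obtain ⟨d, N, h1⟩ := sh_oplus (F := F) hf hF hm hv
    obtain ⟨d₀, N₀, h2⟩ := sh_oplus (F := Fx (ρ ^ k)) hf₀ hE' hm hv
    rw [hff] at h1
    refine dvd_small hv hr hr5 ?_ h1 h2 hx hxc hd
    intro h
    rcases List.mem_cons.1 h with h | h
    · cases h
    · obtain ⟨i, -, hi⟩ := List.mem_map.1 h
      cases hi

theorem fldDat_minus {F : Type} [Field F] [Fintype F] {v f m r : ℕ} (hv : v.Prime) [CharP F v]
    (hF : Fintype.card F = v ^ f) (hm : 4 ≤ m) (a b : F)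
    (hab : ∀ z₁ z₂ : F, z₁ ^ 2 + a * z₁ * z₂ + b * z₂ ^ 2 = 0 → z₁ = 0 ∧ z₂ = 0) (hr : r.Prime) (hr5 : 5 ≤ r)
    (hZ : center (POmega F (quadFormMinus (m - 1) F a b)) = ⊥) :
    FldDat v r (POmega F (quadFormMinus (m - 1) F a b)) := by
  have hvf := Fact.mk hv
  have hF' : Nat.card F = v ^ f := by rw [Nat.card_eq_fintype_card, hF]
  have hf := one_le_of_card hF'
  obtain ⟨ρ₀, hρ₀, -⟩ := exists_ringAut F
  rw [Lib.FieldAutCard.card_ringAut hf hF] at hρ₀
  obtain ⟨n, f', hf', hff'⟩ := Nat.exists_eq_pow_mul_and_not_dvd (n := f) (by omega) r hr.ne_one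
  have hf'0 : f' ≠ 0 := by
    rintro rfl
    exact hf' (dvd_zero r)
  -- the automorphism of order `r ^ n`
  obtain ⟨ρ, hρd⟩ : ∃ ρ : F ≃+* F, ρ = ρ₀ ^ f' := ⟨_, rfl⟩
  have hρ : orderOf ρ = r ^ n := by
    rw [hρd, orderOf_pow_of_dvd hf'0 (by rw [hρ₀, hff']; exact dvd_mul_left _ _), hρ₀, hff',
      Nat.mul_div_cancel _ (Nat.pos_of_ne_zero hf'0)]
  have hodd : Odd (r ^ n) := (hr.odd_of_ne_two (by omega)).pow
  have hcE : Nat.card F = Nat.card (Fx ρ) ^ (r ^ n) := by rw [← hρ]; exact card_Fx ρ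
  obtain ⟨ζ, hζ⟩ := H182.Sign.exists_aniso (Fx ρ)
  have hab₀ : Aniso (1 : Fx ρ) ζ := hζ
  have hab₁ : Aniso ((Fx ρ).subtype 1) ((Fx ρ).subtype ζ) := H24.FixOrth.aniso_map (Fx ρ).subtype hodd hcE hab₀
  obtain ⟨e₁⟩ := H902.Iso.minus_congr (m - 1) hab hab₁
  refine FldDat.congr e₁.symm ?_
  have hne : Nonempty ((Fin (m - 1) ⊕ Fin (m - 1)) ⊕ Fin 2) := ⟨.inr 0⟩
  have hG : Good (minusQ (m - 1) F ((Fx ρ).subtype 1) ((Fx ρ).subtype ζ)) := good_minusQ (by omega) hab₁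
  have hfix : Fix ρ (minusQ (m - 1) F ((Fx ρ).subtype 1) ((Fx ρ).subtype ζ)) :=
    H24.FixOrth.fix_minus' (1 : Fx ρ).2 ζ.2 (m - 1)
  have hZ' : center (POmega F (quadFormMinus (m - 1) F ((Fx ρ).subtype 1) ((Fx ρ).subtype ζ))) = ⊥ :=
    center_bot_of_equiv e₁.symm hZ
  refine fldDat_orth (Q := minusQ (m - 1) F ((Fx ρ).subtype 1) ((Fx ρ).subtype ζ)) (f := f) (c := 3 * 8) hG hr
    (not_dvd_24 hr hr5) ?_ hZ' (ρ := ρ) ?_ hfix ?_
  · have h5 : Nat.card (MulAut (POmega F ⇑(minusQ (m - 1) F ((Fx ρ).subtype 1) ((Fx ρ).subtype ζ)))) =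
      Nat.card (MulAut (POmega F (quadFormMinus (m - 1) F ((Fx ρ).subtype 1) ((Fx ρ).subtype ζ)))) := rfl
    rw [h5, S0818.result v f hf hF m hm _ _ hab₁]
    have h7 : (if v = 2 then 2 else (if Even (m * (v ^ f - 1) / 2) then 4 else 8)) ∣ 3 * 8 := by
      split_ifs
      · exact ⟨12, by norm_num⟩
      · exact ⟨6, by norm_num⟩
      · exact ⟨3, by norm_num⟩
    exact Nat.mul_dvd_mul_right (Nat.mul_dvd_mul h7 dvd_rfl) _
  · intro k hk
    rw [hρ]
    rw [hff'] at hk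
    exact Nat.Coprime.dvd_of_dvd_mul_right (Nat.Coprime.pow_left _ ((Nat.Prime.coprime_iff_not_dvd hr).2 hf')) hk
  · intro k hk
    have h1 : ∀ z : Fx ρ, (z : F) ∈ Fx (ρ ^ k) := fun z => pow_fixed z.2 k
    obtain ⟨f₀, hf₀, hE, hff⟩ := sub_data hv hF' hr.ne_zero (ρ ^ k) hk
    have hfE : Fintype (Fx (ρ ^ k)) := Fintype.ofFinite _
    let j : Fx ρ →+* Fx (ρ ^ k) := ((Fx ρ).subtype).codRestrict (Fx (ρ ^ k)) h1
    have hj : Aniso (j 1) (j ζ) := by
      intro z₁ z₂ hz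
      have h2 := hab₁ (z₁ : F) (z₂ : F) (by
        have := congrArg (Fx (ρ ^ k)).subtype hz
        simp only [map_add, map_mul, map_pow, map_zero] at this
        exact this)
      exact ⟨Subtype.ext h2.1, Subtype.ext h2.2⟩
    refine ⟨minusQ (m - 1) (Fx (ρ ^ k)) (j 1) (j ζ), ext_minus (Fx (ρ ^ k)).subtype (m - 1) (j 1) (j ζ), ?_⟩
    intro x hx hxc hd
    obtain ⟨d, N, h1⟩ := sh_ominus (F := F) hf hF hm hab₁ hv
    obtain ⟨d₀, N₀, h2⟩ := sh_ominus (F := Fx (ρ ^ k)) hf₀ (by rw [← Nat.card_eq_fintype_card, hE]) hm hj hv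
    rw [hff] at h1
    refine dvd_small hv hr hr5 ?_ h1 h2 hx hxc hd
    intro h
    rcases List.mem_cons.1 h with h | h
    · cases h
    · obtain ⟨i, -, hi⟩ := List.mem_map.1 h
      cases hi

end orth

/-- the index of the inner-diagonal part (odd primes only for the orthogonal and symplectic families) -/
def dg : Fam → ℕ → ℕ
  | .psl n, q => Nat.gcd n (q - 1)
  | .psu n, q => Nat.gcd n (q + 1)
  | _, _ => 1

/-- **Field automorphisms of the classical groups.** -/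
theorem fldDat_cls {t : Fam} (ht : Cfsg.Agent.R2.Spec.P1.Classical t) {v f : ℕ} {S : Type u} [Group S]
    (hZ : center S = ⊥) (hv : v.Prime) (h : Fam.Is v f S t) {r : ℕ} (hr : r.Prime) (hr5 : 5 ≤ r)
    (hrd : ¬ r ∣ dg t (v ^ f)) : FldDat v r S := by
  cases t with
  | psl n =>
    obtain ⟨hn, h4, F, _, _, _, hF, ⟨e⟩⟩ := h
    exact FldDat.congr e.symm (fldDat_psl hv hF hn h4 hr hr5 hrd)
  | psp n =>
    obtain ⟨hn, h4, F, _, _, _, hF, ⟨e⟩⟩ := h
    exact FldDat.congr e.symm (fldDat_psp hv hF hn h4 hr hr5 (center_bot_of_equiv e.symm hZ))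
  | psu n =>
    obtain ⟨hn, h4, F, _, _, _, hF, ⟨e⟩⟩ := h
    exact FldDat.congr e.symm (fldDat_psu hv hF hn h4 hr hr5 hrd (center_bot_of_equiv e.symm hZ))
  | oodd n =>
    obtain ⟨hn, h4, F, _, _, _, hF, ⟨e⟩⟩ := h
    exact FldDat.congr e.symm (fldDat_odd hv hF hn h4 hr hr5 (center_bot_of_equiv e.symm hZ))
  | oplus n =>
    obtain ⟨hn, F, _, _, _, hF, ⟨e⟩⟩ := h
    exact FldDat.congr e.symm (fldDat_plus hv hF hn hr hr5 (center_bot_of_equiv e.symm hZ))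
  | ominus n =>
    obtain ⟨hn, F, _, _, _, a, b, hF, hab, ⟨e⟩⟩ := h
    exact FldDat.congr e.symm (fldDat_minus hv hF hn a b hab hr hr5 (center_bot_of_equiv e.symm hZ))
  | g2 => exact ht.elim
  | f4 => exact ht.elim
  | e6 => exact ht.elim
  | e7 => exact ht.elim
  | e8 => exact ht.elim
  | td4 => exact ht.elim
  | te6 => exact ht.elim
  | sz => exact ht.elim
  | tf4 => exact ht.elim
  | ree => exact ht.elim

end Cfsg.Agent.R2.Spec.F1
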