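import Cfsg.Agent.R2.Spec.F1.MovIr
import Cfsg.Agent.R2.Spec.F1.FldCl
import Cfsg.Agent.H420.SideBd
import Cfsg.Agent.S2470
import Cfsg.Agent.S2472

/-!
# Adjacency of all primes of the classical groups (helper23)

* `wS`, `cS`, `adj_wS` : weights of all primes, `wS x + wS y + cS ≤ rk` gives adjacency;
* `adj_same` : primes of the same class (irregular classes included) are adjacent;
* `wS_reg`, `wS_irr`.
-/

set_option autoImplicit false
set_option linter.unusedSectionVars false
set_option linter.unusedVariables false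

namespace Cfsg.Agent.R2.Spec.F1

open Subgroup Cfsg
open Cfsg.Agent.H426.LieFam Cfsg.Agent.R2.Spec Cfsg.Agent.R2.Spec.P1
open Cfsg.Agent.H72

universe u

/-- the weights of the primes -/
noncomputable def wS : Fam → ℕ → ℕ → ℕ
  | .psl _, q, x => AdjPSL.wL q x
  | .psu _, q, x => AdjPSU.wU q x
  | _, q, x => AdjOrth.wO q x

/-- the correction term -/
def cS : Fam → ℕ
  | .oplus _ => 1
  | .ominus _ => 1
  | _ => 0

theorem exists_congr_order {S T : Type*} [Group S] [Group T] (e : S ≃* T) {n : ℕ} (h : ∃ g : T, orderOf g = n) :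
    ∃ g : S, orderOf g = n := by
  obtain ⟨g, hg⟩ := h
  exact ⟨e.symm g, by rw [MulEquiv.orderOf_eq, hg]⟩

theorem two_ne_of_odd {F : Type*} [Field F] [Fintype F] (h : Odd (Fintype.card F)) : (2 : F) ≠ 0 :=
  Cfsg.Agent.LieClassical.PomegaCard.odd_card_iff.1 h

theorem adj_wS {t : Fam} (ht : Classical t) {v f : ℕ} {S : Type u} [Group S] (h : Fam.Is v f S t) {x y : ℕ}
    (hx : x.Prime) (hy : y.Prime) (hxy : x ≠ y) (hw : wS t (v ^ f) x + wS t (v ^ f) y + cS t ≤ rk t) :
    ∃ g : S, orderOf g = x * y := by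
  cases t with
  | psl n =>
    obtain ⟨hn, h4, F, _, _, hch, hF, ⟨e⟩⟩ := h
    refine exists_congr_order e (AdjPSL.adj_of_wL hx hy hxy ?_)
    rw [hF]
    exact hw
  | psu n =>
    obtain ⟨hn, h4, F, _, _, hch, hF, ⟨e⟩⟩ := h
    exact exists_congr_order e (AdjPSU.adj_of_wU hF hn hx hy hxy hw)
  | psp n =>
    obtain ⟨hn, h4, F, _, _, hch, hF, ⟨e⟩⟩ := h
    refine exists_congr_order e (AdjSp.sp_adj hn hx hy hxy ?_)
    rw [Nat.card_eq_fintype_card, hF]
    exact hw
  | oodd n =>
    obtain ⟨hn, ho, F, _, _, hch, hF, ⟨e⟩⟩ := h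
    refine exists_congr_order e (AdjOrth.odd_adj (two_ne_of_odd (by rw [hF]; exact ho)) hn hx hy hxy ?_)
    rw [Nat.card_eq_fintype_card, hF]
    exact hw
  | oplus n =>
    obtain ⟨hn, F, _, _, hch, hF, ⟨e⟩⟩ := h
    refine exists_congr_order e (AdjOrth.plus_adj hn hx hy hxy ?_)
    rw [Nat.card_eq_fintype_card, hF]
    exact hw
  | ominus n =>
    obtain ⟨hn, F, _, _, hch, a, b, hF, hab, ⟨e⟩⟩ := h
    refine exists_congr_order e (AdjOrth.minus_adj hn hab hx hy hxy ?_)
    rw [Nat.card_eq_fintype_card, hF]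
    exact hw
  | g2 => exact ht.elim
  | f4 => exact ht.elim
  | e6 => exact ht.elim
  | e7 => exact ht.elim
  | e8 => exact ht.elim
  | td4 => exact ht.elim
  | te6 => exact ht.elim
  | sz => exact ht.elim
  | tf4 => exact ht.elim
  | ree => exact ht.elim

theorem cls_psl (n q x : ℕ) : cls (.psl n) q x = AdjOrth.ee q x := by
  rw [cls_eq_co (by intro k; exact fun h => by cases h)]
  rfl

theorem cls_psu (n q x : ℕ) : cls (.psu n) q x = AdjPSU.nu q x := by
  rw [cls, AdjPSU.nu]
  simp [sg]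

/-- **Primes of the same class are adjacent** (irregular classes included). -/
theorem adj_same {t : Fam} (ht : Classical t) {v f : ℕ} {S : Type u} [Group S] (h : Fam.Is v f S t) {x y : ℕ}
    (hx : x.Prime) (hy : y.Prime) (hx2 : x ≠ 2) (hy2 : y ≠ 2) (hxy : x ≠ y) (hxv : ¬ x ∣ v ^ f) (hyv : ¬ y ∣ v ^ f)
    (hxS : x ∣ Nat.card S) (hyS : y ∣ Nat.card S) (hc : cls t (v ^ f) x = cls t (v ^ f) y) (h2 : t ≠ .psl 2) :
    ∃ g : S, orderOf g = x * y := by
  cases t with
  | psl n =>
    obtain ⟨hn, h4, F, _, _, hch, hF, ⟨e⟩⟩ := h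
    have hn3 : 3 ≤ n := by
      rcases Nat.lt_or_ge 2 n with h5 | h5
      · exact h5
      · exact absurd (by rw [show n = 2 by omega]) h2
    rw [cls_psl, cls_psl, ← hF] at hc
    rw [← hF] at hxv hyv
    rw [Nat.card_congr e.toEquiv] at hxS
    exact exists_congr_order e (AdjPSL.adj_of_ee hn3 hx hy hxy hxv hc (AdjPSL.ee_le hx hxv hxS))
  | psu n =>
    obtain ⟨hn, h4, F, _, _, hch, hF, ⟨e⟩⟩ := h
    rw [cls_psu, cls_psu] at hc
    rw [Nat.card_congr e.toEquiv] at hxS
    exact exists_congr_order e (AdjPSU.adj_of_nu hF hn hx hy hxy hxv hc (AdjPSU.nu_le hF (by omega) hx hxv hxS))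
  | psp n =>
    obtain ⟨hn, h4, F, _, _, hch, hF, ⟨e⟩⟩ := h
    rw [cls_eq_co (by intro k; exact fun h => by cases h), cls_eq_co (by intro k; exact fun h => by cases h)] at hc
    rw [Nat.card_congr e.toEquiv] at hxS
    rw [← hF, ← Nat.card_eq_fintype_card] at hc hxv hyv
    exact exists_congr_order e (AdjSp.sp_clq hn hx hy hx2 hy2 hxy hxv hyv hc (AdjCoc.sp_class hx hxv hxS))
  | oodd n =>
    obtain ⟨hn, ho, F, _, _, hch, hF, ⟨e⟩⟩ := h
    rw [cls_eq_co (by intro k; exact fun h => by cases h), cls_eq_co (by intro k; exact fun h => by cases h)] at hc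
    rw [Nat.card_congr e.toEquiv] at hxS
    have h20 := two_ne_of_odd (F := F) (by rw [hF]; exact ho)
    rw [← hF, ← Nat.card_eq_fintype_card] at hc hxv hyv
    exact exists_congr_order e (AdjOrth.odd_clq h20 hn hx hy hx2 hy2 hxy hxv hyv hc
      (AdjCoc.odd_class h20 hn hx hxv hxS))
  | oplus n =>
    obtain ⟨hn, F, _, _, hch, hF, ⟨e⟩⟩ := h
    rw [cls_eq_co (by intro k; exact fun h => by cases h), cls_eq_co (by intro k; exact fun h => by cases h)] at hc
    rw [Nat.card_congr e.toEquiv] at hxS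
    rw [← hF, ← Nat.card_eq_fintype_card] at hc hxv hyv
    exact exists_congr_order e (AdjOrth.plus_clq hn hx hy hx2 hy2 hxy hxv hyv hc (AdjCoc.plus_class hn hx hxv hxS))
  | ominus n =>
    obtain ⟨hn, F, _, _, hch, a, b, hF, hab, ⟨e⟩⟩ := h
    rw [cls_eq_co (by intro k; exact fun h => by cases h), cls_eq_co (by intro k; exact fun h => by cases h)] at hc
    rw [Nat.card_congr e.toEquiv] at hxS
    rw [← hF, ← Nat.card_eq_fintype_card] at hc hxv hyv
    exact exists_congr_order e (AdjOrth.minus_clq hn hab hx hy hx2 hy2 hxy hxv hyv hc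
      (AdjCoc.minus_class hn hab hx hx2 hxv hxS))
  | g2 => exact ht.elim
  | f4 => exact ht.elim
  | e6 => exact ht.elim
  | e7 => exact ht.elim
  | e8 => exact ht.elim
  | td4 => exact ht.elim
  | te6 => exact ht.elim
  | sz => exact ht.elim
  | tf4 => exact ht.elim
  | ree => exact ht.elim

/-! ### the weights -/

theorem cls_one_iff {t : Fam} {q x : ℕ} : cls t q x = 1 ↔ ((sg t q : ℤ) : ZMod x) = 1 := by
  rw [cls, orderOf_eq_one_iff]

/-- the weights of the regular classes -/
theorem wS_reg {t : Fam} (ht : Classical t) {q x : ℕ} (hq : 1 ≤ q) (hx : x.Prime) (h3 : 3 ≤ cls t q x) :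
    wS t q x = wt t (cls t q x) := by
  have hxq : ¬ x ∣ q := by
    intro hd
    apply cls_pos_ne h3
    have h0 : ((q : ℕ) : ZMod x) = 0 := (ZMod.natCast_eq_zero_iff q x).2 hd
    have h1 := congrArg (fun z : ℤ => (z : ZMod x)) (sg_sq t q)
    push_cast at h1
    rw [h0, zero_pow two_ne_zero] at h1
    have := Fact.mk hx
    exact pow_eq_zero_iff two_ne_zero |>.1 h1
  have hx2 : x ≠ 2 := by
    rintro rfl
    have h1 := Cfsg.Agent.R2.Spec.F1.dvd_sq_of_cls (t := t) hq Nat.prime_two hxq
    have h4 : cls t q 2 ≤ 2 := by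
      rw [cls]
      have h5 : (((sg t q : ℤ) : ZMod 2)) ^ 2 = ((sg t q : ℤ) : ZMod 2) := by
        have : ∀ a : ZMod 2, a ^ 2 = a := by decide
        exact this _
      have h6 : ((sg t q : ℤ) : ZMod 2) = 1 := by
        have h7 : ((sg t q : ℤ) : ZMod 2) ≠ 0 := cls_pos_ne h3
        have : ∀ a : ZMod 2, a ≠ 0 → a = 1 := by decide
        exact this _ h7
      rw [h6, orderOf_one]
      norm_num
    omega
  cases t with
  | psl n =>
    rw [cls_psl] at h3 ⊢
    change AdjPSL.wL q x = AdjOrth.ee q x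
    rw [AdjPSL.wL, if_neg]
    rintro (h | h)
    · exact hxq h
    · have := (AdjPSL.ee_eq_one_iff hq).2 h
      change AdjOrth.ee q x = 1 at this
      omega
  | psu n =>
    rw [cls_psu] at h3 ⊢
    change AdjPSU.wU q x = AdjPSU.nu q x
    rw [AdjPSU.wU, if_neg]
    rintro (h | h)
    · exact hxq h
    · have := AdjPSU.nu_eq_one h
      omega
  | psp n =>
    rw [cls_eq_co (by intro k; exact fun h => by cases h)]
    change AdjOrth.wO q x = eta _
    rw [AdjOrth.wO, if_neg (by rintro (h | h); exacts [hx2 h, hxq h]), ee_eq, eta_eq]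
  | oodd n =>
    rw [cls_eq_co (by intro k; exact fun h => by cases h)]
    change AdjOrth.wO q x = eta _
    rw [AdjOrth.wO, if_neg (by rintro (h | h); exacts [hx2 h, hxq h]), ee_eq, eta_eq]
  | oplus n =>
    rw [cls_eq_co (by intro k; exact fun h => by cases h)]
    change AdjOrth.wO q x = eta _
    rw [AdjOrth.wO, if_neg (by rintro (h | h); exacts [hx2 h, hxq h]), ee_eq, eta_eq]
  | ominus n =>
    rw [cls_eq_co (by intro k; exact fun h => by cases h)]
    change AdjOrth.wO q x = eta _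
    rw [AdjOrth.wO, if_neg (by rintro (h | h); exacts [hx2 h, hxq h]), ee_eq, eta_eq]
  | g2 => exact ht.elim
  | f4 => exact ht.elim
  | e6 => exact ht.elim
  | e7 => exact ht.elim
  | e8 => exact ht.elim
  | td4 => exact ht.elim
  | te6 => exact ht.elim
  | sz => exact ht.elim
  | tf4 => exact ht.elim
  | ree => exact ht.elim

theorem wS_le_two {t : Fam} (ht : Classical t) {q x : ℕ} (h2 : cls t q x ≤ 2) : wS t q x ≤ 2 := by
  have key : cls t q x = co q x → AdjOrth.wO q x ≤ 2 := by
    intro h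
    rw [h] at h2
    rw [AdjOrth.wO]
    split_ifs
    · exact le_rfl
    · rw [ee_eq, ← eta_eq]
      rcases eta_cases (co q x) with h3 | h3 <;> omega
  cases t with
  | psl n =>
    rw [cls_psl] at h2
    change AdjPSL.wL q x ≤ 2
    rw [AdjPSL.wL]
    split_ifs
    · exact le_rfl
    · exact h2
  | psu n =>
    rw [cls_psu] at h2
    change AdjPSU.wU q x ≤ 2
    rw [AdjPSU.wU]
    split_ifs
    · exact le_rfl
    · exact h2
  | psp n => exact key (cls_eq_co (by intro k; exact fun h => by cases h) _ _)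
  | oodd n => exact key (cls_eq_co (by intro k; exact fun h => by cases h) _ _)
  | oplus n => exact key (cls_eq_co (by intro k; exact fun h => by cases h) _ _)
  | ominus n => exact key (cls_eq_co (by intro k; exact fun h => by cases h) _ _)
  | g2 => exact ht.elim
  | f4 => exact ht.elim
  | e6 => exact ht.elim
  | e7 => exact ht.elim
  | e8 => exact ht.elim
  | td4 => exact ht.elim
  | te6 => exact ht.elim
  | sz => exact ht.elim
  | tf4 => exact ht.elim
  | ree => exact ht.elim

/-- the symplectic and orthogonal families: weight one -/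
theorem wS_le_one {t : Fam} (ht : Classical t) (h1 : ∀ n, t ≠ .psl n) (h1' : ∀ n, t ≠ .psu n) {q x : ℕ} (hx2 : x ≠ 2)
    (hxq : ¬ x ∣ q) (h2 : cls t q x ≤ 2) : wS t q x ≤ 1 := by
  have key : cls t q x = co q x → AdjOrth.wO q x ≤ 1 := by
    intro h
    rw [h] at h2
    rw [AdjOrth.wO, if_neg (by rintro (h | h); exacts [hx2 h, hxq h])]
    rw [ee_eq, ← eta_eq]
    rcases eta_cases (co q x) with ⟨h3, h4⟩ | h3
    · rw [Nat.odd_iff] at h3
      omega
    · omega
  cases t with
  | psl n => exact absurd rfl (h1 n)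
  | psu n => exact absurd rfl (h1' n)
  | psp n => exact key (cls_eq_co (by intro k; exact fun h => by cases h) _ _)
  | oodd n => exact key (cls_eq_co (by intro k; exact fun h => by cases h) _ _)
  | oplus n => exact key (cls_eq_co (by intro k; exact fun h => by cases h) _ _)
  | ominus n => exact key (cls_eq_co (by intro k; exact fun h => by cases h) _ _)
  | g2 => exact ht.elim
  | f4 => exact ht.elim
  | e6 => exact ht.elim
  | e7 => exact ht.elim
  | e8 => exact ht.elim
  | td4 => exact ht.elim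
  | te6 => exact ht.elim
  | sz => exact ht.elim
  | tf4 => exact ht.elim
  | ree => exact ht.elim

end Cfsg.Agent.R2.Spec.F1
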