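import Cfsg.Agent.R2.Spec.X4.H18.Fld

/-!
# Field automorphisms of all exceptional groups (helper23)

`fldDat_all` : `FldDat v r S` for the ten exceptional families and all primes `r ≥ 5` (six of them: helper18).
-/

set_option autoImplicit false
set_option linter.unusedSectionVars false

namespace Cfsg.Agent.R2.Spec.F1

open Cfsg Cfsg.Lie
open Cfsg.Agent.H426.LieFam Cfsg.Agent.H414.LieShape Cfsg.Agent.H967.CopMat Cfsg.Agent.H967.CopRow
  Cfsg.Agent.H967.CopChev Cfsg.Agent.H967.CopSz Cfsg.Agent.H967.CopTw Cfsg.Agent.H967.CopFix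
  Cfsg.Agent.H967.CopD4 Cfsg.Agent.H967.FaBase Cfsg.Agent.H967.FaChev Cfsg.Agent.H967.FaTw
  Cfsg.Agent.R2.Spec.X4.H18
open Cfsg.Agent.LieRecognition.SzMatrix Cfsg.Agent.LieRecognition.RankOneAbstract

universe u

/-! ### the shapes -/

section sh

variable {F : Type*} [Field F] [Fintype F] {v : ℕ}

theorem sh_e7 {f : ℕ} (hf : 1 ≤ f) (hcard : Fintype.card F = v ^ f) (hv : v.Prime) :
    Sh v (Nat.card ↥(chevE7.group F)) f (Nat.gcd 2 (v ^ f - 1)) 63 Fam.e7.facs := by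
  have hg2 : Nat.gcd 2 (v ^ f - 1) ∣ 12 := (Nat.gcd_dvd_left _ _).trans (by norm_num)
  have hg2' : Nat.gcd 2 (v ^ f - 1) < 5 :=
    lt_of_le_of_lt (Nat.le_of_dvd (by norm_num) (Nat.gcd_dvd_left _ _)) (by norm_num)
  refine sh_list hv (by norm_num) (by
    have := cop_gcd_sub (m := 2) (k := 1) (f := f) hv le_rfl
    rwa [pow_one] at this) hf hg2 hg2' ?_
  rw [Cfsg.Agent.S1064.result hcard]
  simp only [Fam.facs, List.map_cons, List.map_nil, List.prod_cons, List.prod_nil, Fac.val]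
  ring

theorem sh_e8 {f : ℕ} (hf : 1 ≤ f) (hcard : Fintype.card F = v ^ f) (hv : v.Prime) :
    Sh v (Nat.card ↥(chevE8.group F)) f 1 120 Fam.e8.facs := by
  refine sh_list hv (by norm_num) (Nat.coprime_one_left _) hf (by norm_num) (by norm_num) ?_
  rw [one_mul, Cfsg.Agent.S1065.result hcard]
  simp only [Fam.facs, List.map_cons, List.map_nil, List.prod_cons, List.prod_nil, Fac.val]
  ring

theorem card_sz' {m : ℕ} (hF : Fintype.card F = 2 ^ (2 * m + 1)) :
    Nat.card ↥(Cfsg.Lie.Sz F (2 ^ (m + 1))) =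
      (2 ^ (2 * m + 1)) ^ 2 * (2 ^ (2 * m + 1) - 1) * ((2 ^ (2 * m + 1)) ^ 2 + 1) := by
  have H := good hF
  have D := Cfsg.Agent.S1163.data_sz H
  have hcF : Nat.card F = 2 ^ (2 * m + 1) := by rw [Nat.card_eq_fintype_card, hF]
  have : Finite ↥(Cfsg.Lie.Sz F (2 ^ (m + 1))) := inferInstance
  have hcu : Nat.card H.unip = (2 ^ (2 * m + 1)) ^ 2 := by rw [H.card_unip, hcF]
  have hcb : Nat.card H.borel = (2 ^ (2 * m + 1)) ^ 2 * (2 ^ (2 * m + 1) - 1) := by
    rw [H.card_borel, hcF]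
  have hidx : H.borel.index = (2 ^ (2 * m + 1)) ^ 2 + 1 := by rw [D.index, hcu]
  rw [← Subgroup.card_mul_index H.borel, hcb, hidx]

theorem sh_sz {m : ℕ} (hcard : Fintype.card F = 2 ^ (2 * m + 1)) :
    Sh 2 (Nat.card ↥(Cfsg.Lie.Sz F (2 ^ (m + 1)))) (2 * m + 1) 1 2 Fam.sz.facs := by
  refine sh_list (f := 2 * m + 1) Nat.prime_two (by norm_num) (Nat.coprime_one_left _) (by omega) (by norm_num)
    (by norm_num) ?_
  rw [one_mul, card_sz' hcard]
  simp only [Fam.facs, List.map_cons, List.map_nil, List.prod_cons, List.prod_nil, Fac.val, pow_one]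
  ring

theorem sh_ree {m : ℕ} (hcard : Fintype.card F = 3 ^ (2 * m + 1)) :
    Sh 3 (Nat.card ↥(twistedG2 F (3 ^ m))) (2 * m + 1) 1 3 Fam.ree.facs := by
  refine sh_list (f := 2 * m + 1) Nat.prime_three (by norm_num) (Nat.coprime_one_left _) (by omega) (by norm_num)
    (by norm_num) ?_
  rw [one_mul, Cfsg.Agent.S1069.result hcard]
  simp only [Fam.facs, List.map_cons, List.map_nil, List.prod_cons, List.prod_nil, Fac.val, pow_one]
  ring

end sh

section fam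

variable {F : Type} [Field F] [Fintype F] {v f r : ℕ}

theorem fldDat_e7 (hv : v.Prime) [CharP F v] (hF : Fintype.card F = v ^ f) (hf : 1 ≤ f) (hr : r.Prime)
    (hr5 : 5 ≤ r) : FldDat v r ↥(chevE7.group F) := by
  have := Fact.mk hv
  have hsimple : IsSimpleGroup ↥(chevE7.group F) := (S1054.result chevE7 (by simp)).1
  refine fldDat_mat (stab_group chevE7 F) hf hF hr (c := Nat.gcd 2 (v ^ f - 1))
    (fun h => not_dvd_of_lt hr5 two_pos (by norm_num) (h.trans (Nat.gcd_dvd_left _ _)))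
    (fun σ hσ => not_inner (by simp) σ hσ) ?_ ?_
  · rw [S2124.result v f hF]
  · intro σ hσ x hx hxc hd
    have : Fintype ↥(Fx σ) := Fintype.ofFinite _
    have h1 : v ^ f = Nat.card ↥(Fx σ) ^ r := by rw [← hσ, ← card_Fx, Nat.card_eq_fintype_card, hF]
    obtain ⟨f₀, hf₀, hE, hff⟩ := exists_exp hv (by omega) hr h1
    refine fixed_of_dvd σ hx ?_
    have h2 := sh_e7 hf hF hv
    rw [hff] at h2
    exact dvd_small' hv hr hr5 h2 (sh_e7 hf₀ (by rw [← Nat.card_eq_fintype_card, hE]) hv) hx hxc hd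

theorem fldDat_e8 (hv : v.Prime) [CharP F v] (hF : Fintype.card F = v ^ f) (hf : 1 ≤ f) (hr : r.Prime)
    (hr5 : 5 ≤ r) : FldDat v r ↥(chevE8.group F) := by
  have := Fact.mk hv
  refine fldDat_mat (stab_group chevE8 F) hf hF hr (c := 1) (not_dvd_of_lt hr5 one_pos (by norm_num))
    (fun σ hσ => not_inner (by simp) σ hσ) ?_ ?_
  · rw [S2125.result v f hF, one_mul]
  · intro σ hσ x hx hxc hd
    have : Fintype ↥(Fx σ) := Fintype.ofFinite _
    have h1 : v ^ f = Nat.card ↥(Fx σ) ^ r := by rw [← hσ, ← card_Fx, Nat.card_eq_fintype_card, hF]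
    obtain ⟨f₀, hf₀, hE, hff⟩ := exists_exp hv (by omega) hr h1
    refine fixed_of_dvd σ hx ?_
    have h2 := sh_e8 hf hF hv
    rw [hff] at h2
    exact dvd_small' hv hr hr5 h2 (sh_e8 hf₀ (by rw [← Nat.card_eq_fintype_card, hE]) hv) hx hxc hd

theorem fldDat_sz {m : ℕ} (hm : 1 ≤ m) (hF : Fintype.card F = 2 ^ (2 * m + 1)) (hr : r.Prime)
    (hr5 : 5 ≤ r) : FldDat 2 r ↥(Cfsg.Lie.Sz F (2 ^ (m + 1))) := by
  have := two_prime
  have hc : CharP F 2 := charP_of_card Nat.prime_two hF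
  have h : ∀ ψ : MulAut ↥(Cfsg.Lie.Sz F (2 ^ (m + 1))), ∃ (g : ↥(Cfsg.Lie.Sz F (2 ^ (m + 1)))) (σ : F ≃+* F),
      ψ = MulAut.conj g * fieldAut (stab_sz hF) σ := fun ψ => by
    obtain ⟨g, σ, h⟩ := Cfsg.Agent.H70.SzAutThm.exists_conj_field hm hF ψ
    exact ⟨g, σ, h⟩
  refine fldDat_mat (stab_sz hF) (by omega) hF hr (c := 1) (not_dvd_of_lt hr5 one_pos (by norm_num))
    (not_inner_of_conj_field (stab_sz hF) (by omega) hF (S2126.result hm hF) h) ?_ ?_
  · rw [S2126.result hm hF, one_mul]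
  · intro σ hσ x hx hxc hd
    have : Fintype ↥(Fx σ) := Fintype.ofFinite _
    have hE : 2 ^ (2 * m + 1) = Nat.card ↥(Fx σ) ^ orderOf σ := by
      rw [← card_Fx, Nat.card_eq_fintype_card, hF]
    obtain ⟨m₀, j, h1, h2⟩ := exists_odd_exp Nat.prime_two hE
    have h3 : m + 1 = m₀ + 1 + j * (2 * m₀ + 1) := by rw [h2]; ring
    refine exists_fixed_of_dvd (stab_sz hF) σ (G₀ := Cfsg.Lie.Sz ↥(Fx σ) (2 ^ (m + 1))) (map_sz (Fx σ).subtype _) hx ?_
    rw [sz_congr (E := ↥(Fx σ)) (e := 2 ^ (m + 1)) (pow_eq h1 h3)]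
    have h4 : Fintype.card ↥(Fx σ) = 2 ^ (2 * m₀ + 1) := by rw [← Nat.card_eq_fintype_card, h1]
    have h6 : 2 * m + 1 = (2 * m₀ + 1) * r := by
      rw [h1, hσ, ← pow_mul] at hE
      exact Nat.pow_right_injective le_rfl hE
    have h5 := sh_sz hF
    have h7 : Sh 2 (Nat.card ↥(Cfsg.Lie.Sz F (2 ^ (m + 1)))) ((2 * m₀ + 1) * r) 1 2 Fam.sz.facs := by
      rw [← h6]
      exact h5
    exact dvd_small' Nat.prime_two hr hr5 h7 (sh_sz h4) hx hxc hd

theorem fldDat_ree {m : ℕ} (hm : 1 ≤ m) (hF : Fintype.card F = 3 ^ (2 * m + 1)) (hr : r.Prime)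
    (hr5 : 5 ≤ r) : FldDat 3 r ↥(twistedG2 F (3 ^ m)) := by
  have := three_prime
  have hc : CharP F 3 := charP_of_card Nat.prime_three hF
  have h : ∀ ψ : MulAut ↥(twistedG2 F (3 ^ m)), ∃ (g : ↥(twistedG2 F (3 ^ m))) (σ : F ≃+* F),
      ψ = MulAut.conj g * fieldAut (stab_g2 _) σ := fun ψ => by
    obtain ⟨g, σ, h⟩ := Cfsg.Agent.H71.FldAut.ree_aut hm hF ψ
    exact ⟨g, σ, h⟩
  refine fldDat_mat (stab_g2 _) (by omega) hF hr (c := 1) (not_dvd_of_lt hr5 one_pos (by norm_num))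
    (not_inner_of_conj_field (stab_g2 _) (by omega) hF (S2127.result hm hF) h) ?_ ?_
  · rw [S2127.result hm hF, one_mul]
  · intro σ hσ x hx hxc hd
    have : Fintype ↥(Fx σ) := Fintype.ofFinite _
    have hE : 3 ^ (2 * m + 1) = Nat.card ↥(Fx σ) ^ orderOf σ := by
      rw [← card_Fx, Nat.card_eq_fintype_card, hF]
    obtain ⟨m₀, j, h1, h2⟩ := exists_odd_exp Nat.prime_three hE
    refine exists_fixed_of_dvd (stab_g2 _) σ (G₀ := twistedG2 ↥(Fx σ) (3 ^ m)) (words_g2 (Fx σ).subtype _) hx ?_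
    rw [twistedG2_congr (E := ↥(Fx σ)) (e := 3 ^ m) (pow_eq h1 h2)]
    have h4 : Fintype.card ↥(Fx σ) = 3 ^ (2 * m₀ + 1) := by rw [← Nat.card_eq_fintype_card, h1]
    have h6 : 2 * m + 1 = (2 * m₀ + 1) * r := by
      rw [h1, hσ, ← pow_mul] at hE
      exact Nat.pow_right_injective (by norm_num) hE
    have h5 := sh_ree hF
    have h7 : Sh 3 (Nat.card ↥(twistedG2 F (3 ^ m))) ((2 * m₀ + 1) * r) 1 3 Fam.ree.facs := by
      rw [← h6]
      exact h5
    exact dvd_small' Nat.prime_three hr hr5 h7 (sh_ree h4) hx hxc hd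

end fam

/-- the exceptional families -/
def Exc : Fam → Prop
  | .g2 => True
  | .f4 => True
  | .e6 => True
  | .e7 => True
  | .e8 => True
  | .te6 => True
  | .td4 => True
  | .sz => True
  | .tf4 => True
  | .ree => True
  | _ => False

/-- **Field automorphisms of the exceptional groups.** -/
theorem fldDat_all {t : Fam} (ht : Exc t) {v f : ℕ} {S : Type u} [Group S] (hv : v.Prime)
    (h : Fam.Is v f S t) {r : ℕ} (hr : r.Prime) (hr5 : 5 ≤ r) : FldDat v r S := by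
  cases t with
  | g2 => exact fldDat_exc (t := .g2) trivial hv h hr hr5
  | f4 => exact fldDat_exc (t := .f4) trivial hv h hr hr5
  | e6 => exact fldDat_exc (t := .e6) trivial hv h hr hr5
  | te6 => exact fldDat_exc (t := .te6) trivial hv h hr hr5
  | td4 => exact fldDat_exc (t := .td4) trivial hv h hr hr5
  | tf4 => exact fldDat_exc (t := .tf4) trivial hv h hr hr5
  | e7 =>
    obtain ⟨F, _, _, _, hF, ⟨e⟩⟩ := h
    exact FldDat.congr e.symm (fldDat_e7 hv hF (f_pos_of_card (n := 1) (by rw [hF, pow_one])) hr hr5)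
  | e8 =>
    obtain ⟨F, _, _, _, hF, ⟨e⟩⟩ := h
    exact FldDat.congr e.symm (fldDat_e8 hv hF (f_pos_of_card (n := 1) (by rw [hF, pow_one])) hr hr5)
  | sz =>
    obtain ⟨rfl, m, hm, rfl, F, _, _, hF, ⟨e⟩⟩ := h
    exact FldDat.congr e.symm (fldDat_sz hm hF hr hr5)
  | ree =>
    obtain ⟨rfl, m, hm, rfl, F, _, _, hF, ⟨e⟩⟩ := h
    exact FldDat.congr e.symm (fldDat_ree hm hF hr hr5)
  | psl n => exact ht.elim
  | psp n => exact ht.elim
  | psu n => exact ht.elim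
  | oodd n => exact ht.elim
  | oplus n => exact ht.elim
  | ominus n => exact ht.elim

end Cfsg.Agent.R2.Spec.F1
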