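import Cfsg.Agent.R2.Spec.F1.Bad
import Cfsg.Agent.R2.Spec.F1.FldCl

/-!
# The index of `S` in `G / K` (helper23)

* `out_cls` : `r ≥ 5` prime, `r ∤ dg`, `r ^ k ∣ |Out S|` implies `r ^ k ∣ f`;
* `Frm.index_pow` : the same for `S.index`; `Frm.dvd_f` : a divisor of `S.index` all of whose primes are `≥ 5` and do not
  divide `dg` divides `f`;
* `order_fac` : an element `x` of `G` of order prime to `|K|` has order `h E` with `h ∣ S.index` and `E ∈ ω(S)`.
-/

set_option autoImplicit false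
set_option linter.unusedSectionVars false
set_option linter.unusedVariables false

namespace Cfsg.Agent.R2.Spec.F1

open Subgroup Cfsg
open Cfsg.Agent.H426.LieFam Cfsg.Agent.R2.Spec Cfsg.Agent.R2.Spec.P1 Cfsg.Agent.H414.LieShape

universe u

section out

theorem aut_psl {F : Type} [Field F] [Fintype F] {v f n r : ℕ} (hv : v.Prime) [CharP F v]
    (hF : Fintype.card F = v ^ f) (hn : 2 ≤ n) (h4 : n = 2 → 4 ≤ v ^ f) (hr : r.Prime) (hr5 : 5 ≤ r)
    (hrd : ¬ r ∣ Nat.gcd n (v ^ f - 1)) : ∃ c, ¬ r ∣ c ∧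
      Nat.card (MulAut (Matrix.ProjectiveSpecialLinearGroup (Fin n) F)) ∣
        c * f * Nat.card (Matrix.ProjectiveSpecialLinearGroup (Fin n) F) := by
  have hvf := Fact.mk hv
  have hf := one_le_of_card (F := F) (by rw [Nat.card_eq_fintype_card, hF])
  have hcard := S0813.result v f hf hF n hn h4
  rw [Cfsg.Agent.H183.OutPSL.card_pgl_eq hn, hF] at hcard
  refine ⟨2 * Nat.gcd n (v ^ f - 1), ?_, ?_⟩
  · intro h
    rcases hr.dvd_mul.1 h with h | h
    · have := Nat.le_of_dvd (by norm_num) h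
      omega
    · exact hrd h
  · rw [hcard]
    by_cases hn2 : n = 2
    · rw [if_pos hn2]
      exact ⟨2, by ring⟩
    · rw [if_neg hn2]
      exact ⟨1, by ring⟩

theorem aut_psp {F : Type} [Field F] [Fintype F] {v f m r : ℕ} (hv : v.Prime) [CharP F v]
    (hF : Fintype.card F = v ^ f) (hm : 2 ≤ m) (h3 : m = 2 → 3 ≤ v ^ f) (hr : r.Prime) (hr5 : 5 ≤ r) :
    ∃ c, ¬ r ∣ c ∧ Nat.card (MulAut (PSp m F)) ∣ c * f * Nat.card (PSp m F) := by
  have hvf := Fact.mk hv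
  have hf := one_le_of_card (F := F) (by rw [Nat.card_eq_fintype_card, hF])
  have hcard := S0814.result v f hf hF m hm h3
  refine ⟨4, ?_, ?_⟩
  · intro h
    have := Nat.le_of_dvd (by norm_num) h
    omega
  · rw [hcard]
    have h6 : Nat.gcd 2 (v ^ f - 1) ∣ 2 := Nat.gcd_dvd_left _ _
    have h7 : (if m = 2 ∧ v = 2 then 2 else 1) ∣ 2 := by
      split_ifs
      · exact dvd_rfl
      · exact one_dvd _
    have h8 : (4 : ℕ) = 2 * 2 := by norm_num
    rw [h8]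
    exact Nat.mul_dvd_mul_right (Nat.mul_dvd_mul (Nat.mul_dvd_mul h7 h6) dvd_rfl) _

theorem aut_psu {F : Type} [Field F] [Fintype F] {v f n r : ℕ} (hv : v.Prime) [CharP F v]
    (hF : Fintype.card F = (v ^ f) ^ 2) (hn : 3 ≤ n) (h32 : ¬ (n = 3 ∧ v ^ f = 2)) (hr : r.Prime) (hr5 : 5 ≤ r)
    (hrd : ¬ r ∣ Nat.gcd n (v ^ f + 1)) : ∃ c, ¬ r ∣ c ∧
      Nat.card (MulAut (PSU n F (v ^ f))) ∣ c * f * Nat.card (PSU n F (v ^ f)) := by
  have hvf := Fact.mk hv
  have hF' : Nat.card F = v ^ (2 * f) := by rw [Nat.card_eq_fintype_card, hF, ← pow_mul, mul_comm]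
  have hf2 := one_le_of_card hF'
  have hf : 1 ≤ f := by omega
  have hcard := S0815.result v f hf rfl hF n hn h32
  refine ⟨2 * Nat.gcd n (v ^ f + 1), ?_, ?_⟩
  · intro h
    rcases hr.dvd_mul.1 h with h | h
    · have := Nat.le_of_dvd (by norm_num) h
      omega
    · exact hrd h
  · rw [hcard]
    exact ⟨1, by ring⟩

theorem aut_odd {F : Type} [Field F] [Fintype F] {v f m r : ℕ} (hv : v.Prime) [CharP F v]
    (hF : Fintype.card F = v ^ f) (hm : 3 ≤ m) (hodd : Odd (v ^ f)) (hr : r.Prime) (hr5 : 5 ≤ r) :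
    ∃ c, ¬ r ∣ c ∧ Nat.card (MulAut (POmega F (quadFormOdd m F))) ∣ c * f * Nat.card (POmega F (quadFormOdd m F)) := by
  have hvf := Fact.mk hv
  have hf := one_le_of_card (F := F) (by rw [Nat.card_eq_fintype_card, hF])
  have hvo : Odd v := (Nat.odd_pow_iff (by omega)).1 hodd
  refine ⟨2, ?_, (S0816.result v f hf hF hvo m hm).dvd⟩
  intro h
  have := Nat.le_of_dvd (by norm_num) h
  omega

theorem aut_plus {F : Type} [Field F] [Fintype F] {v f m r : ℕ} (hv : v.Prime) [CharP F v]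
    (hF : Fintype.card F = v ^ f) (hm : 4 ≤ m) (hr : r.Prime) (hr5 : 5 ≤ r) :
    ∃ c, ¬ r ∣ c ∧ Nat.card (MulAut (POmega F (quadFormPlus m F))) ∣ c * f * Nat.card (POmega F (quadFormPlus m F)) := by
  have hvf := Fact.mk hv
  have hf := one_le_of_card (F := F) (by rw [Nat.card_eq_fintype_card, hF])
  have hcard := S0817.result v f hf hF m hm
  refine ⟨3 * 8, not_dvd_24 hr hr5, ?_⟩
  rw [hcard]
  have h6 : (if m = 4 then 3 else 1) ∣ 3 := by
    split_ifs
    · exact dvd_rfl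
    · exact one_dvd _
  have h7 : (if v = 2 then 2 else (if Even (m * (v ^ f - 1) / 2) then 8 else 4)) ∣ 8 := by
    split_ifs
    · exact ⟨4, by norm_num⟩
    · exact dvd_rfl
    · exact ⟨2, by norm_num⟩
  exact Nat.mul_dvd_mul_right (Nat.mul_dvd_mul (Nat.mul_dvd_mul h6 h7) dvd_rfl) _

theorem aut_minus {F : Type} [Field F] [Fintype F] {v f m r : ℕ} (hv : v.Prime) [CharP F v]
    (hF : Fintype.card F = v ^ f) (hm : 4 ≤ m) (a b : F)
    (hab : ∀ z₁ z₂ : F, z₁ ^ 2 + a * z₁ * z₂ + b * z₂ ^ 2 = 0 → z₁ = 0 ∧ z₂ = 0) (hr : r.Prime) (hr5 : 5 ≤ r) :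
    ∃ c, ¬ r ∣ c ∧ Nat.card (MulAut (POmega F (quadFormMinus (m - 1) F a b))) ∣
      c * f * Nat.card (POmega F (quadFormMinus (m - 1) F a b)) := by
  have hvf := Fact.mk hv
  have hf := one_le_of_card (F := F) (by rw [Nat.card_eq_fintype_card, hF])
  refine ⟨3 * 8, not_dvd_24 hr hr5, ?_⟩
  rw [S0818.result v f hf hF m hm a b hab]
  have h7 : (if v = 2 then 2 else (if Even (m * (v ^ f - 1) / 2) then 4 else 8)) ∣ 3 * 8 := by
    split_ifs
    · exact ⟨12, by norm_num⟩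
    · exact ⟨6, by norm_num⟩
    · exact ⟨3, by norm_num⟩
  exact Nat.mul_dvd_mul_right (Nat.mul_dvd_mul h7 dvd_rfl) _

theorem aut_congr {M M' : Type*} [Group M] [Group M'] (e : M ≃* M') {f r : ℕ}
    (h : ∃ c, ¬ r ∣ c ∧ Nat.card (MulAut M') ∣ c * f * Nat.card M') :
    ∃ c, ¬ r ∣ c ∧ Nat.card (MulAut M) ∣ c * f * Nat.card M := by
  rw [Nat.card_congr (MulAut.congr e).toEquiv, Nat.card_congr e.toEquiv]
  exact h

theorem aut_cls {t : Fam} (ht : Classical t) {v f : ℕ} {S : Type u} [Group S]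
    (hv : v.Prime) (h : Fam.Is v f S t) {r : ℕ} (hr : r.Prime) (hr5 : 5 ≤ r)
    (hrd : ¬ r ∣ dg t (v ^ f)) : ∃ c, ¬ r ∣ c ∧ Nat.card (MulAut S) ∣ c * f * Nat.card S := by
  cases t with
  | psl n =>
    obtain ⟨hn, h4, F, _, _, _, hF, ⟨e⟩⟩ := h
    exact aut_congr e (aut_psl hv hF hn h4 hr hr5 hrd)
  | psp n =>
    obtain ⟨hn, h4, F, _, _, _, hF, ⟨e⟩⟩ := h
    exact aut_congr e (aut_psp hv hF hn h4 hr hr5)
  | psu n =>
    obtain ⟨hn, h4, F, _, _, _, hF, ⟨e⟩⟩ := h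
    exact aut_congr e (aut_psu hv hF hn h4 hr hr5 hrd)
  | oodd n =>
    obtain ⟨hn, h4, F, _, _, _, hF, ⟨e⟩⟩ := h
    exact aut_congr e (aut_odd hv hF hn h4 hr hr5)
  | oplus n =>
    obtain ⟨hn, F, _, _, _, hF, ⟨e⟩⟩ := h
    exact aut_congr e (aut_plus hv hF hn hr hr5)
  | ominus n =>
    obtain ⟨hn, F, _, _, _, a, b, hF, hab, ⟨e⟩⟩ := h
    exact aut_congr e (aut_minus hv hF hn a b hab hr hr5)
  | g2 => exact ht.elim
  | f4 => exact ht.elim
  | e6 => exact ht.elim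
  | e7 => exact ht.elim
  | e8 => exact ht.elim
  | td4 => exact ht.elim
  | te6 => exact ht.elim
  | sz => exact ht.elim
  | tf4 => exact ht.elim
  | ree => exact ht.elim

/-- **The outer automorphism group.** -/
theorem out_cls {t : Fam} (ht : Classical t) {v f : ℕ} {S : Type u} [Group S] [Finite S]
    (hZ : center S = ⊥) (hv : v.Prime) (h : Fam.Is v f S t) {r : ℕ} (hr : r.Prime) (hr5 : 5 ≤ r)
    (hrd : ¬ r ∣ dg t (v ^ f)) {k : ℕ} (hk : r ^ k ∣ Nat.card (Cfsg.Out S)) : r ^ k ∣ f := by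
  obtain ⟨c, hc, hd⟩ := aut_cls ht hv h hr hr5 hrd
  exact out_pow_dvd hZ hd hr hc hk

end out

section idx

variable {G : Type u} [Group G] [Finite G] {K : Subgroup G} [K.Normal] {S : Subgroup (G ⧸ K)} [S.Normal] {t : Fam}
  {v f : ℕ}

theorem Frm.index_dvd_out (h : Frm G K S t v f) : S.index ∣ Nat.card (Cfsg.Out S) := by
  have hfin := mulAut_finite S
  have h1 : Nat.card (MulAut S) = Nat.card (Cfsg.Out S) * Nat.card (Cfsg.Inn S) :=
    Subgroup.card_eq_card_quotient_mul_card_subgroup _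
  rw [card_inn h.center] at h1
  have h2 : Nat.card (G ⧸ K) ∣ Nat.card (MulAut S) := Subgroup.card_dvd_of_injective _ (tau_injective h.cent)
  rw [h1, ← S.index_mul_card] at h2
  exact Nat.dvd_of_mul_dvd_mul_right Nat.card_pos h2

/-- **Prime powers dividing the index.** -/
theorem Frm.index_pow (h : Frm G K S t v f) {r : ℕ} (hr : r.Prime) (hr5 : 5 ≤ r) (hrd : ¬ r ∣ dg t (v ^ f)) {k : ℕ}
    (hk : r ^ k ∣ S.index) : r ^ k ∣ f :=
  out_cls h.cla h.center h.prime h.is hr hr5 hrd (hk.trans h.index_dvd_out)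

theorem Frm.dvd_f (h : Frm G K S t v f) {a : ℕ} (ha : a ∣ S.index)
    (hp : ∀ r : ℕ, r.Prime → r ∣ a → 5 ≤ r ∧ ¬ r ∣ dg t (v ^ f)) : a ∣ f := by
  rw [Nat.dvd_iff_prime_pow_dvd_dvd]
  intro r k hr hk
  rcases Nat.eq_zero_or_pos k with rfl | hk0
  · rw [pow_zero]; exact one_dvd _
  · obtain ⟨h1, h2⟩ := hp r hr ((dvd_pow_self r (by omega)).trans hk)
    exact h.index_pow hr h1 h2 (hk.trans ha)

end idx

/-- **Elements of order prime to `|K|`.** -/
theorem order_fac {G : Type u} [Group G] [Finite G] {K : Subgroup G} [K.Normal] {S : Subgroup (G ⧸ K)} [S.Normal]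
    {x : G} (hx : Nat.Coprime (orderOf x) (Nat.card K)) :
    ∃ h E, orderOf x = h * E ∧ h ∣ S.index ∧ ∃ y : S, orderOf y = E := by
  obtain ⟨a, ha⟩ : ∃ a, a = QuotientGroup.mk' K x := ⟨_, rfl⟩
  have h1 : orderOf a = orderOf x := by
    apply Nat.dvd_antisymm
    · rw [ha]
      exact orderOf_map_dvd _ _
    · apply orderOf_dvd_of_pow_eq_one
      have h2 : x ^ orderOf a ∈ K := by
        rw [← QuotientGroup.eq_one_iff]
        change QuotientGroup.mk' K (x ^ orderOf a) = 1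
        rw [map_pow, ← ha, pow_orderOf_eq_one]
      have h3 : orderOf (x ^ orderOf a) ∣ Nat.card K := by
        rw [← Subgroup.orderOf_mk _ h2]
        exact orderOf_dvd_natCard _
      have h4 : orderOf (x ^ orderOf a) ∣ orderOf x := orderOf_pow_dvd _
      exact orderOf_eq_one_iff.1 (Nat.eq_one_of_dvd_coprimes hx h4 h3)
  obtain ⟨h, hh⟩ : ∃ h, h = orderOf (QuotientGroup.mk' S a) := ⟨_, rfl⟩
  have h2 : h ∣ S.index := by
    rw [hh]
    exact orderOf_dvd_natCard _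
  have h3 : h ∣ orderOf a := by
    rw [hh]
    exact orderOf_map_dvd _ _
  have h4 : a ^ h ∈ S := by
    rw [← QuotientGroup.eq_one_iff]
    change QuotientGroup.mk' S (a ^ h) = 1
    rw [map_pow, hh, pow_orderOf_eq_one]
  have h0 : h ≠ 0 := by
    rw [hh]
    exact (orderOf_pos _).ne'
  refine ⟨h, orderOf a / h, ?_, h2, ⟨a ^ h, h4⟩, ?_⟩
  · rw [Nat.mul_div_cancel' h3, h1]
  · rw [Subgroup.orderOf_mk, orderOf_pow_of_dvd h0 h3]

end Cfsg.Agent.R2.Spec.F1
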