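import Cfsg.Agent.R2.Spec.P1.Exp

/-!
# Products of two tori in the symplectic and odd orthogonal groups (helper23)

* `two_tor` : `M ∣ tnum i`, `N ∣ tnum j` odd, `eta i + eta j ≤ n` : an element of order `lcm M N`.
-/

set_option autoImplicit false

namespace Cfsg.Agent.R2.Spec.F1

open Cfsg Cfsg.Agent.H426.LieFam Cfsg.Agent.R2.Spec Cfsg.Agent.R2.Spec.P1
open Cfsg.Agent.H377 (Elt exists_odd_of_elt)
open Cfsg.Agent.H72.AdjOrth (tn)

universe u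

theorem sp_tor {F : Type} [Field F] [Fintype F] {i N : ℕ} (hi : 1 ≤ i) (hd : N ∣ tn (Fintype.card F) i) :
    ∃ A : Matrix.symplecticGroup (Fin (eta i)) F, orderOf A = N := by
  have hη := one_le_eta (k := i) (by omega)
  have hq1 : 1 < Fintype.card F := Fintype.one_lt_card
  unfold tn at hd
  rcases eta_cases i with ⟨h, h5⟩ | ⟨h, h5⟩
  · rw [if_neg (Nat.not_even_iff_odd.2 h)] at hd
    have h6 := Cfsg.Agent.H376.SpEmb.exists_minus F (eta i) (by omega)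
    rw [Nat.card_eq_fintype_card] at h6
    have h7 := Nat.one_lt_pow (by omega : eta i ≠ 0) hq1
    exact Cfsg.Agent.H376.SpEmb.exists_of_dvd (by omega) (by rwa [h5]) h6
  · rw [if_pos h] at hd
    have h6 := Cfsg.Agent.H376.SpEmb.exists_plus F (eta i) (by omega)
    rw [Nat.card_eq_fintype_card] at h6
    exact Cfsg.Agent.H376.SpEmb.exists_of_dvd (by omega) (by rwa [show eta i = i / 2 by omega]) h6

theorem odd_lcm {M N : ℕ} (hM : Odd M) (hN : Odd N) : Odd (Nat.lcm M N) := by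
  rw [← Nat.not_even_iff_odd, even_iff_two_dvd]
  intro h
  have h1 : 2 ∣ M * N := h.trans (Nat.lcm_dvd_mul M N)
  exact Nat.not_even_iff_odd.2 (hM.mul hN) (even_iff_two_dvd.2 h1)

theorem two_tor_psp {p f m : ℕ} {X : Type u} [Group X] (h : Fam.Is p f X (.psp m)) {i j M N : ℕ} (hi : 1 ≤ i)
    (hj : 1 ≤ j) (hij : eta i + eta j ≤ m) (hM : Odd M) (hN : Odd N) (hMd : M ∣ tnum (.psp m) (p ^ f) i)
    (hNd : N ∣ tnum (.psp m) (p ^ f) j) : ∃ x : X, orderOf x = Nat.lcm M N := by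
  obtain ⟨hm, hsm, F, _, _, hch, hF, ⟨E⟩⟩ := h
  have htn : ∀ i, tnum (.psp m) (p ^ f) i = tn (p ^ f) i := fun i => rfl
  rw [htn, ← hF] at hMd hNd
  obtain ⟨A, hA⟩ := sp_tor (F := F) hi hMd
  obtain ⟨B, hB⟩ := sp_tor (F := F) hj hNd
  obtain ⟨C, hC⟩ := Cfsg.Agent.H376.SpEmb.exists_block (n := m) hij A hA B hB
  refine ⟨E.symm (QuotientGroup.mk C), ?_⟩
  rw [MulEquiv.orderOf_eq]
  exact Cfsg.Agent.H376.PrimeOrd.orderOf_mk _ (fun x hx => Cfsg.Agent.H376.SpEmb.center_pow x hx)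
    (Nat.coprime_two_left.2 (odd_lcm hM hN)) C hC

theorem two_tor_oodd {p f m : ℕ} {X : Type u} [Group X] (h : Fam.Is p f X (.oodd m)) {i j M N : ℕ} (hi : 1 ≤ i)
    (hj : 1 ≤ j) (hij : eta i + eta j ≤ m) (hM : Odd M) (hN : Odd N) (hMd : M ∣ tnum (.oodd m) (p ^ f) i)
    (hNd : N ∣ tnum (.oodd m) (p ^ f) j) : ∃ x : X, orderOf x = Nat.lcm M N := by
  obtain ⟨hm, hodd, F, _, _, hch, hF, ⟨E⟩⟩ := h
  have hodd' : Odd (Fintype.card F) := by rw [hF]; exact hodd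
  have htn : ∀ i, tnum (.oodd m) (p ^ f) i = tn (p ^ f) i := fun i => rfl
  rw [htn, ← hF, ← Nat.card_eq_fintype_card] at hMd hNd
  have h1 := Cfsg.Agent.H72.AdjOrth.elt_tn (F := F) (k := i) (by omega) hMd
  have h2 := Cfsg.Agent.H72.AdjOrth.elt_tn (F := F) (k := j) (by omega) hNd
  rw [← eta_eq] at h1 h2
  have h3 := h1.prod h2
  have hs := Cfsg.Agent.H72.AdjOrth.mul_pm (Cfsg.Agent.H72.AdjOrth.sg_pm i) (Cfsg.Agent.H72.AdjOrth.sg_pm j)
  obtain ⟨δ, h4⟩ : ∃ δ : ℤ, Cfsg.Agent.H377.Elt F m δ (Nat.lcm M N) := by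
    rcases Nat.eq_or_lt_of_le hij with h5 | h5
    · rw [h5] at h3
      exact ⟨_, h3⟩
    · exact ⟨1, Cfsg.Agent.H72.AdjOrth.elt_extend h3 hs (Or.inl rfl) h5⟩
  have ho := odd_lcm hM hN
  obtain ⟨y, hy⟩ := exists_odd_of_elt (Cfsg.Agent.H390.two_ne_zero_of_odd hodd') hm h4 (N := Nat.lcm M N) fun j =>
    ⟨fun h5 => (Nat.coprime_two_right.2 ho).dvd_of_dvd_mul_left h5, fun h5 => Dvd.dvd.mul_left h5 2⟩
  exact ⟨E.symm y, by rw [MulEquiv.orderOf_eq, hy]⟩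

/-- **Products of two tori.** -/
theorem two_tor {t : Fam} (ht : (∃ n, t = .psp n) ∨ ∃ n, t = .oodd n) {p f : ℕ} {X : Type u} [Group X]
    (h : Fam.Is p f X t) {i j M N : ℕ} (hi : 1 ≤ i) (hj : 1 ≤ j) (hij : eta i + eta j ≤ rk t) (hM : Odd M)
    (hN : Odd N) (hMd : M ∣ tnum t (p ^ f) i) (hNd : N ∣ tnum t (p ^ f) j) : ∃ x : X, orderOf x = Nat.lcm M N := by
  rcases ht with ⟨n, rfl⟩ | ⟨n, rfl⟩
  · exact two_tor_psp h hi hj hij hM hN hMd hNd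
  · exact two_tor_oodd h hi hj hij hM hN hMd hNd

end Cfsg.Agent.R2.Spec.F1
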