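import Cfsg.Agent.R2.Spec.F1.IrrFew
import Cfsg.Agent.R2.Spec.F1.TwoTor
import Cfsg.Agent.R2.Spec.F1.OutB

/-!
# `PSp_2n`, `Ω_2n+1`, `n ≥ 6` even: the coclique `2n, 2n-2, n-1, 2n-4, n-3` (helper23)

* `CE t` : `t` is `psp n` or `oodd n`, `n ≥ 6` even; `JJ n` : the coclique;
* `CE.four` : a class of weight at least four is nonadjacent to four classes of `JJ n`;
* `LS.good_J`, `LS.ne_v_J`, `LS.bigS_CE` : the primes of the classes of `JJ n` are good and different from `v`.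
-/

set_option autoImplicit false
set_option linter.unusedSectionVars false
set_option linter.unusedVariables false

namespace Cfsg.Agent.R2.Spec.F1

open Subgroup Cfsg
open Cfsg.Agent.H426.LieFam Cfsg.Agent.R2.Spec Cfsg.Agent.R2.Spec.P1
open Cfsg.Agent.H420.QR

universe u w

/-- the families -/
def CE (t : Fam) : Prop := ∃ n, (t = .psp n ∨ t = .oodd n) ∧ 6 ≤ n ∧ n % 2 = 0

/-- the coclique -/
def JJ (n : ℕ) : Finset ℕ := {2 * n, 2 * n - 2, n - 1, 2 * n - 4, n - 3}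

theorem mem_JJ {n j : ℕ} : j ∈ JJ n ↔ j = 2 * n ∨ j = 2 * n - 2 ∨ j = n - 1 ∨ j = 2 * n - 4 ∨ j = n - 3 := by
  simp only [JJ, Finset.mem_insert, Finset.mem_singleton]

theorem CE.cla {t : Fam} (h : CE t) : Classical t := by
  obtain ⟨n, rfl | rfl, -⟩ := h <;> trivial

theorem CE.rk6 {t : Fam} (h : CE t) : 6 ≤ rk t ∧ rk t % 2 = 0 := by
  obtain ⟨n, rfl | rfl, h1, h2⟩ := h <;> exact ⟨h1, h2⟩

theorem CE.na_iff {t : Fam} (h : CE t) {i j : ℕ} :
    na t i j ↔ rk t < eta i + eta j ∧ ¬ OddMul i j ∧ ¬ OddMul j i := by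
  obtain ⟨n, rfl | rfl, h1, h2⟩ := h <;> exact Iff.rfl

theorem CE.mem_iff {t : Fam} (h : CE t) {i : ℕ} : mem t i ↔ eta i ≤ rk t := by
  obtain ⟨n, rfl | rfl, h1, h2⟩ := h <;> exact Iff.rfl

theorem CE.cls_eq {t : Fam} (h : CE t) (q r : ℕ) : cls t q r = orderOf ((q : ℕ) : ZMod r) := by
  obtain ⟨n, rfl | rfl, h1, h2⟩ := h
  · exact cls_eq_co (by intro k; exact fun h => by cases h) _ _
  · exact cls_eq_co (by intro k; exact fun h => by cases h) _ _

theorem CE.tn {t : Fam} (h : CE t) (q i : ℕ) : tnum t q i = Cfsg.Agent.H72.AdjOrth.tn q i := by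
  obtain ⟨n, rfl | rfl, h1, h2⟩ := h <;> rfl

theorem eta_JJ {n j : ℕ} (hn : 6 ≤ n) (hn2 : n % 2 = 0) (hj : j ∈ JJ n) :
    3 ≤ j ∧ n ≤ eta j + 3 ∧ eta j ≤ n ∧ (eta j + 3 = n → j = n - 3) := by
  rw [mem_JJ] at hj
  rcases eta_cases j with ⟨h1, h2⟩ | ⟨h1, h2⟩
  · rw [Nat.odd_iff] at h1
    omega
  · rw [Nat.even_iff] at h1
    omega

theorem card_JJ {n : ℕ} (hn : 6 ≤ n) (hn2 : n % 2 = 0) : (JJ n).card = 5 := by
  unfold JJ
  exact card_five (by omega) (by omega) (by omega) (by omega) (by omega) (by omega) (by omega) (by omega) (by omega)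
    (by omega)

theorem not_oddMul3 {i j n : ℕ} (hi : n < 3 * eta i) (hj : eta j ≤ n) (hij : i ≠ j) : ¬ OddMul i j := by
  rintro ⟨k, hk, rfl⟩
  rw [eta_mul_odd hk] at hj
  have hk1 : k ≠ 1 := by
    rintro rfl
    exact hij (mul_one i).symm
  have : 3 ≤ k := by omega
  have := Nat.mul_le_mul_left (eta i) this
  omega

theorem CE.coq {t : Fam} (h : CE t) : ∀ j ∈ JJ (rk t), ∀ k ∈ JJ (rk t), j ≠ k → na t j k := by
  obtain ⟨hn, hn2⟩ := h.rk6
  intro j hj k hk hjk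
  obtain ⟨h1, h2, h3, h4⟩ := eta_JJ hn hn2 hj
  obtain ⟨h1', h2', h3', h4'⟩ := eta_JJ hn hn2 hk
  rw [h.na_iff]
  exact ⟨by omega, not_oddMul3 (by omega) h3' hjk, not_oddMul3 (by omega) h3 hjk.symm⟩

/-- **Classes of weight at least four.** -/
theorem CE.four {t : Fam} (h : CE t) {l : ℕ} (h3 : 3 ≤ l) (hm : eta l ≤ rk t) (h4 : 4 ≤ eta l) :
    ∃ I ⊆ JJ (rk t), 4 ≤ I.card ∧ ∀ j ∈ I, na t l j := by
  classical
  obtain ⟨hn, hn2⟩ := h.rk6
  obtain ⟨n, hn'⟩ : ∃ n, n = rk t := ⟨_, rfl⟩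
  rw [← hn'] at hn hn2 hm ⊢
  refine ⟨(JJ n).filter (fun j => na t l j), Finset.filter_subset _ _, ?_, fun j hj => (Finset.mem_filter.1 hj).2⟩
  have h5 := card_JJ hn hn2
  have h6 := Finset.card_filter_add_card_filter_not (s := JJ n) (fun j => na t l j)
  have h7 : ((JJ n).filter (fun j => ¬ na t l j)).card ≤ 1 := by
    rw [Finset.card_le_one]
    have key : ∀ a ∈ (JJ n).filter (fun j => ¬ na t l j), a ∈ JJ n ∧ OddMul l a := by
      intro a ha
      obtain ⟨ha1, ha2⟩ := Finset.mem_filter.1 ha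
      obtain ⟨g1, g2, g3, g4⟩ := eta_JJ hn hn2 ha1
      refine ⟨ha1, ?_⟩
      by_contra hcon
      apply ha2
      rw [h.na_iff, ← hn']
      refine ⟨by omega, hcon, ?_⟩
      by_cases hal : a = l
      · intro _
        exact hcon ⟨1, rfl, by rw [mul_one, hal]⟩
      · exact not_oddMul3 (by omega) hm hal
    intro a ha b hb
    obtain ⟨ha1, ha2⟩ := key a ha
    obtain ⟨hb1, hb2⟩ := key b hb
    have hpa := oddMul_parity ha2
    have hpb := oddMul_parity hb2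
    have hl : (l % 2 = 1 ∧ 4 ≤ l) ∨ (l % 2 = 0 ∧ 8 ≤ l) := by
      rcases eta_cases l with ⟨g1, g2⟩ | ⟨g1, g2⟩
      · rw [Nat.odd_iff] at g1
        omega
      · rw [Nat.even_iff] at g1
        omega
    rw [mem_JJ] at ha1 hb1
    rcases Nat.lt_trichotomy a b with g | g | g
    · have := oddMul_diff ha2 hb2 g
      omega
    · exact g
    · have := oddMul_diff hb2 ha2 g
      omega
  omega

section

variable {t : Fam} {p f : ℕ} {L : Type w} [Group L] [Finite L] {G : Type u} [Group G] [Finite G]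
variable {K : Subgroup G} [K.Normal] {S : Subgroup (G ⧸ K)} [S.Normal]
variable {t' : Fam} {v f' : ℕ}

theorem CE.cases {t : Fam} (h : CE t) : (Five t ∧ ∀ j ∈ JJ (rk t), Big t j) ∨
    (SmallT t ∧ ∀ j ∈ JJ (rk t), j ∈ smallI t) := by
  obtain ⟨n, ht, hn, hn2⟩ := h
  rcases Nat.lt_or_ge n 7 with h7 | h7
  · have h6 : n = 6 := by omega
    subst h6
    right
    rcases ht with rfl | rfl
    · exact ⟨Or.inr rfl, by decide⟩
    · exact ⟨Or.inr rfl, by decide⟩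
  · left
    rcases ht with rfl | rfl
    · refine ⟨h7, fun j hj => ?_⟩
      obtain ⟨h1, h2, h3, h4⟩ := eta_JJ hn hn2 hj
      exact ⟨h1, h3, show n < 2 * eta j by omega⟩
    · refine ⟨h7, fun j hj => ?_⟩
      obtain ⟨h1, h2, h3, h4⟩ := eta_JJ hn hn2 hj
      exact ⟨h1, h3, show n < 2 * eta j by omega⟩

theorem CE.fldOk {t : Fam} (h : CE t) (q : ℕ) : FldOk t q := by
  obtain ⟨n, rfl | rfl, -⟩ := h <;> trivial

theorem LS.q_three (h : LS t p f L G) (hp2 : p ≠ 2) : 3 ≤ p ^ f := by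
  have := h.prime.two_le
  exact (show 3 ≤ p by omega).trans (Nat.le_self_pow (by have := h.fpos; omega) p)

theorem LS.good_J (h : LS t p f L G) (hR : Red G K S) (hF : Frm G K S t' v f') (hp2 : p ≠ 2) (ht : CE t) {j : ℕ}
    (hj : j ∈ JJ (rk t)) {r : ℕ} (hr : r.Prime) (hrj : cls t (p ^ f) r = j) :
    ¬ r ∣ Nat.card K * S.index ∧ r ∣ Nat.card S := by
  rcases ht.cases with ⟨h5, hb⟩ | ⟨h5, hb⟩
  · exact h.good_big hR hF h5 (ht.fldOk _) (hb j hj) hr hrj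
  · exact h.good_small hR hF (h.q_three hp2) (hb j hj) hr hrj

theorem LS.ne_v_J (h : LS t p f L G) (hR : Red G K S) (hF : Frm G K S t' v f') (hp2 : p ≠ 2) (ht : CE t) {j : ℕ}
    (hj : j ∈ JJ (rk t)) {r : ℕ} (hr : r.Prime) (hrj : cls t (p ^ f) r = j) : r ≠ v := by
  rcases ht.cases with ⟨h5, hb⟩ | ⟨h5, hb⟩
  · exact h.big_ne_v hR hF h5 (ht.fldOk _) (hb j hj) hr hrj
  · exact h.small_ne_v hR hF (h.q_three hp2) h5 (hb j hj) hr hrj

theorem LS.bigS_CE (h : LS t p f L G) (hR : Red G K S) (hF : Frm G K S t' v f') (hp2 : p ≠ 2) (ht : CE t) :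
    BigS t' := by
  rcases ht.cases with ⟨h5, hb⟩ | ⟨h5, hb⟩
  · exact h.bigS_five hR hF h5 (ht.fldOk _)
  · exact h.bigS_small hR hF (h.q_three hp2) h5

theorem CE.in_J {t : Fam} (ht : CE t) {q j r : ℕ} (hj : j ∈ JJ (rk t)) (hr : r.Prime) (hrj : cls t q r = j) :
    In t q j r := by
  obtain ⟨hn, hn2⟩ := ht.rk6
  obtain ⟨h1, h2, h3, h4⟩ := eta_JJ hn hn2 hj
  exact ⟨hr, hrj, h1, ht.mem_iff.2 h3⟩

theorem LS.exists_J (h : LS t p f L G) (hp2 : p ≠ 2) (ht : CE t) {j : ℕ} (hj : j ∈ JJ (rk t)) :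
    ∃ r, In t (p ^ f) j r := by
  obtain ⟨hn, hn2⟩ := ht.rk6
  obtain ⟨h1, h2, h3, h4⟩ := eta_JJ hn hn2 hj
  exact exists_in h (h.q_three hp2) h1 (ht.mem_iff.2 h3)

/-- **A prime of `S` which is irregular or the like is not nonadjacent to four classes.** -/
theorem LS.irr_J (h : LS t p f L G) (hR : Red G K S) (hF : Frm G K S t' v f') (hp2 : p ≠ 2) (ht : CE t) {l z : ℕ}
    (hz : In t (p ^ f) l z) (hzv : z ≠ v) (h4 : 4 ≤ eta l) : 3 ≤ cls t' (v ^ f') z := by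
  classical
  by_contra hcon
  obtain ⟨I, hI, hI4, hIn⟩ := ht.four hz.reg (ht.mem_iff.1 hz.mem) h4
  have hex : ∀ j ∈ I, ∃ r, In t (p ^ f) j r := fun j hj => h.exists_J hp2 ht (hI hj)
  choose! x hx using hex
  have hinj : Set.InjOn x (I : Set ℕ) := by
    intro j hj k hk hjk
    by_contra hne
    exact (hx j hj).ne (hx k hk) hne hjk
  have hcard : (I.image x).card = I.card := Finset.card_image_of_injOn hinj
  have h1 := hF.irr_few (h.bigS_CE hR hF hp2 ht) hz.prime hz.ne_two hzv (by omega) (X := I.image x) (by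
    intro y hy
    obtain ⟨j, hj, rfl⟩ := Finset.mem_image.1 hy
    exact ⟨(hx j hj).prime, (hx j hj).five, hz.ne (hx j hj) (na_ne (hIn j hj)),
      (h.good_J hR hF hp2 ht (hI hj) (hx j hj).prime (hx j hj).cls_eq).2⟩) (by
    intro y hy
    obtain ⟨j, hj, rfl⟩ := Finset.mem_image.1 hy
    exact h.not_adj_S hz (hx j hj) (hIn j hj)) (by
    intro y hy y' hy' hne
    obtain ⟨j, hj, rfl⟩ := Finset.mem_image.1 hy
    obtain ⟨k, hk, rfl⟩ := Finset.mem_image.1 hy'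
    have hjk : j ≠ k := fun hjk => hne (by rw [hjk])
    exact h.not_adj_S (hx j hj) (hx k hk) (ht.coq j (hI hj) k (hI hk) hjk))
  omega

end

end Cfsg.Agent.R2.Spec.F1
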