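import Cfsg.Agent.R2.Spec.F1.ExcFrm

/-!
# The frame, `S` exceptional: the index (helper23)

* `out_exc` : `|Out S| = c f`, `c ∣ 72`;
* `ExFrm.fpos`, `ExFrm.v_dvd`, `ExFrm.index_dvd_out`, `ExFrm.index_pow` : `r ≥ 5` prime, `r ^ k ∣ S.index` implies
  `r ^ k ∣ f`.
-/

set_option autoImplicit false
set_option linter.unusedSectionVars false
set_option linter.unusedVariables false

namespace Cfsg.Agent.R2.Spec.F1

open Subgroup Cfsg
open Cfsg.Agent.H426.LieFam Cfsg.Agent.R2.Spec Cfsg.Agent.R2.Spec.P1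
open Cfsg.Agent.H934.OutB Cfsg.Agent.R2.Spec.X4.H18

universe u w

theorem gcd_dvd_two {a c : ℕ} (h : c = Nat.gcd 2 a) : c ∣ 72 := by
  rw [h]
  exact (Nat.gcd_dvd_left _ _).trans (by norm_num)

theorem two_gcd_dvd {a c : ℕ} (h : c = 2 * Nat.gcd 3 a) : c ∣ 72 := by
  rw [h]
  exact (Nat.mul_dvd_mul_left 2 (Nat.gcd_dvd_left 3 a)).trans (by norm_num)

/-- the exceptional families: the exponent is positive -/
theorem exc_fpos {t : Fam} (ht : Exc t) {v f : ℕ} {S : Type u} [Group S] (h : Fam.Is v f S t) : 1 ≤ f := by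
  have key : ∀ {F : Type} [Field F] [Fintype F], Fintype.card F = v ^ f → 1 ≤ f := fun {F} _ _ hF =>
    f_pos_of_card (F := F) (n := 1) (by rw [hF, pow_one])
  cases t with
  | g2 => obtain ⟨h3, F, _, _, _, hF, -⟩ := h; exact key hF
  | f4 => obtain ⟨F, _, _, _, hF, -⟩ := h; exact key hF
  | e6 => obtain ⟨F, _, _, _, hF, -⟩ := h; exact key hF
  | e7 => obtain ⟨F, _, _, _, hF, -⟩ := h; exact key hF
  | e8 => obtain ⟨F, _, _, _, hF, -⟩ := h; exact key hF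
  | te6 => obtain ⟨F, _, _, _, hF, -⟩ := h; exact f_pos_of_card hF
  | td4 => obtain ⟨F, _, _, _, hF, -⟩ := h; exact f_pos_of_card hF
  | sz => obtain ⟨-, m, -, hf, -⟩ := h; omega
  | tf4 => obtain ⟨-, m, -, hf, -⟩ := h; omega
  | ree => obtain ⟨-, m, -, hf, -⟩ := h; omega
  | psl n => exact ht.elim
  | psp n => exact ht.elim
  | psu n => exact ht.elim
  | oodd n => exact ht.elim
  | oplus n => exact ht.elim
  | ominus n => exact ht.elim

/-- **The outer automorphism groups of the exceptional groups.** -/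
theorem out_exc {t : Fam} (ht : Exc t) {v f : ℕ} {S : Type u} [Group S] (hv : v.Prime) (h : Fam.Is v f S t) :
    ∃ c, c ∣ 72 ∧ Nat.card (Cfsg.Out S) = c * f := by
  have hvf := Fact.mk hv
  have hf1 := exc_fpos ht h
  cases t with
  | g2 =>
    obtain ⟨h3, F, _, _, _, hF, ⟨e⟩⟩ := h
    refine ⟨if v = 3 then 2 else 1, by split_ifs <;> norm_num, ?_⟩
    rw [card_out_congr e, S2121.result v f hF h3]
    split_ifs <;> ring
  | f4 =>
    obtain ⟨F, _, _, _, hF, ⟨e⟩⟩ := h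
    exact ⟨_, gcd_dvd_two rfl, by rw [card_out_congr e, S2122.result v f hF]⟩
  | e6 =>
    obtain ⟨F, _, _, _, hF, ⟨e⟩⟩ := h
    exact ⟨_, two_gcd_dvd rfl, by rw [card_out_congr e, S2123.result v f hF]⟩
  | e7 =>
    obtain ⟨F, _, _, _, hF, ⟨e⟩⟩ := h
    exact ⟨_, gcd_dvd_two rfl, by rw [card_out_congr e, S2124.result v f hF]⟩
  | e8 =>
    obtain ⟨F, _, _, _, hF, ⟨e⟩⟩ := h
    exact ⟨1, one_dvd _, by rw [card_out_congr e, S2125.result v f hF, one_mul]⟩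
  | te6 =>
    obtain ⟨F, _, _, _, hF, ⟨e⟩⟩ := h
    have hF' : Fintype.card F = v ^ (2 * f) := by rw [hF, ← pow_mul, mul_comm]
    exact ⟨_, two_gcd_dvd rfl, by rw [card_out_congr e, S2130.result v f hF' hf1]⟩
  | td4 =>
    obtain ⟨F, _, _, _, hF, ⟨e⟩⟩ := h
    have hF' : Fintype.card F = v ^ (3 * f) := by rw [hF, ← pow_mul, mul_comm]
    exact ⟨3, by norm_num, by rw [card_out_congr e, S2129.result v f hF' hf1]⟩
  | sz =>
    obtain ⟨-, m, hm, hf, F, _, _, hF, ⟨e⟩⟩ := h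
    exact ⟨1, one_dvd _, by rw [card_out_congr e, S2126.result hm hF, one_mul, hf]⟩
  | tf4 =>
    obtain ⟨-, m, hm, hf, F, _, _, hF, ⟨e⟩⟩ := h
    exact ⟨1, one_dvd _, by rw [card_out_congr e, S2128.result hm hF, one_mul, hf]⟩
  | ree =>
    obtain ⟨-, m, hm, hf, F, _, _, hF, ⟨e⟩⟩ := h
    exact ⟨1, one_dvd _, by rw [card_out_congr e, S2127.result hm hF, one_mul, hf]⟩
  | psl n => exact ht.elim
  | psp n => exact ht.elim
  | psu n => exact ht.elim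
  | oodd n => exact ht.elim
  | oplus n => exact ht.elim
  | ominus n => exact ht.elim

variable {G : Type u} [Group G] [Finite G] {K : Subgroup G} [K.Normal] {S : Subgroup (G ⧸ K)} [S.Normal] {t' : Fam}
  {v f' : ℕ}

theorem ExFrm.fpos (h : ExFrm G K S t' v f') : 1 ≤ f' := exc_fpos h.exc h.is

/-- **The orders of the exceptional groups.** -/
theorem exc_sh {t : Fam} (ht : Exc t) {v f : ℕ} {S : Type u} [Group S] (hv : v.Prime) (h : Fam.Is v f S t) :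
    ∃ d N, Sh v (Nat.card S) f d N t.facs := by
  have hf1 := exc_fpos ht h
  cases t with
  | g2 =>
    obtain ⟨h3, F, _, _, _, hF, ⟨e⟩⟩ := h
    rw [Nat.card_congr e.toEquiv]
    exact ⟨_, _, X4.H18.sh_g2 hf1 hF hv⟩
  | f4 =>
    obtain ⟨F, _, _, _, hF, ⟨e⟩⟩ := h
    rw [Nat.card_congr e.toEquiv]
    exact ⟨_, _, X4.H18.sh_f4 hf1 hF hv⟩
  | e6 =>
    obtain ⟨F, _, _, _, hF, ⟨e⟩⟩ := h
    rw [Nat.card_congr e.toEquiv]
    exact ⟨_, _, X4.H18.sh_e6 hf1 hF hv⟩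
  | e7 =>
    obtain ⟨F, _, _, _, hF, ⟨e⟩⟩ := h
    rw [Nat.card_congr e.toEquiv]
    exact ⟨_, _, sh_e7 hf1 hF hv⟩
  | e8 =>
    obtain ⟨F, _, _, _, hF, ⟨e⟩⟩ := h
    rw [Nat.card_congr e.toEquiv]
    exact ⟨_, _, sh_e8 hf1 hF hv⟩
  | te6 =>
    obtain ⟨F, _, _, _, hF, ⟨e⟩⟩ := h
    rw [Nat.card_congr e.toEquiv]
    exact ⟨_, _, X4.H18.sh_te6 hf1 hF hv⟩
  | td4 =>
    obtain ⟨F, _, _, _, hF, ⟨e⟩⟩ := h
    rw [Nat.card_congr e.toEquiv]
    exact ⟨_, _, X4.H18.sh_td4 hf1 hF hv⟩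
  | sz =>
    obtain ⟨rfl, m, hm, rfl, F, _, _, hF, ⟨e⟩⟩ := h
    rw [Nat.card_congr e.toEquiv]
    exact ⟨_, _, sh_sz hF⟩
  | tf4 =>
    obtain ⟨rfl, m, hm, rfl, F, _, _, hF, ⟨e⟩⟩ := h
    rw [Nat.card_congr e.toEquiv]
    exact ⟨_, _, X4.H18.sh_tf4 hF⟩
  | ree =>
    obtain ⟨rfl, m, hm, rfl, F, _, _, hF, ⟨e⟩⟩ := h
    rw [Nat.card_congr e.toEquiv]
    exact ⟨_, _, sh_ree hF⟩
  | psl n => exact ht.elim
  | psp n => exact ht.elim
  | psu n => exact ht.elim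
  | oodd n => exact ht.elim
  | oplus n => exact ht.elim
  | ominus n => exact ht.elim

theorem ExFrm.v_dvd (h : ExFrm G K S t' v f') : v ∣ Nat.card S := by
  obtain ⟨d, N, h1⟩ := exc_sh h.exc h.prime h.is
  exact h1.chr

theorem ExFrm.index_dvd_out (h : ExFrm G K S t' v f') : S.index ∣ Nat.card (Cfsg.Out S) := by
  have hfin := mulAut_finite S
  have h1 : Nat.card (MulAut S) = Nat.card (Cfsg.Out S) * Nat.card (Cfsg.Inn S) :=
    Subgroup.card_eq_card_quotient_mul_card_subgroup _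
  rw [card_inn h.center] at h1
  have h2 : Nat.card (G ⧸ K) ∣ Nat.card (MulAut S) := Subgroup.card_dvd_of_injective _ (tau_injective h.cent)
  rw [h1, ← S.index_mul_card] at h2
  exact Nat.dvd_of_mul_dvd_mul_right Nat.card_pos h2

/-- **Prime powers dividing the index.** -/
theorem ExFrm.index_pow (h : ExFrm G K S t' v f') {r : ℕ} (hr : r.Prime) (hr5 : 5 ≤ r) {k : ℕ}
    (hk : r ^ k ∣ S.index) : r ^ k ∣ f' := by
  obtain ⟨c, hc, h1⟩ := out_exc h.exc h.prime h.is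
  have h2 : r ^ k ∣ c * f' := by
    rw [← h1]
    exact hk.trans h.index_dvd_out
  have h3 : Nat.Coprime (r ^ k) c := by
    refine Nat.Coprime.pow_left _ ((Nat.Prime.coprime_iff_not_dvd hr).2 fun hd => ?_)
    have h4 : r ∣ 2 ^ 3 * 3 ^ 2 := hd.trans (hc.trans (by norm_num))
    rcases hr.dvd_mul.1 h4 with h5 | h5
    · have := Nat.le_of_dvd (by norm_num) (hr.dvd_of_dvd_pow h5)
      omega
    · have := Nat.le_of_dvd (by norm_num) (hr.dvd_of_dvd_pow h5)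
      omega
  exact h3.dvd_of_dvd_mul_left h2

end Cfsg.Agent.R2.Spec.F1
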