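import Cfsg.Agent.R2.Spec.F1.Exist
import Cfsg.Agent.H420.Reduce
import Cfsg.Agent.H228.E3Two

/-!
# The bad primes of a group isospectral to a classical group (helper23)

* `LS t p f L G` : `L` classical of family `t` over the field with `p ^ f` elements (adjacency facts), `G` isospectral;
* `LS.nodbl` : good primes; `LS.hc` : the field case gives the congruences `HC`;
* `LS.not_K_of_five` : a coclique of at least five classes; `LS.not_K_of_four` : a coclique of four classes, the bad class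
  isolated, two classes adjacent to `p`.
-/

set_option autoImplicit false
set_option linter.unusedSectionVars false
set_option linter.unusedVariables false

namespace Cfsg.Agent.R2.Spec.F1

open Subgroup Cfsg
open Cfsg.Agent.H426.LieFam Cfsg.Agent.R2.Spec Cfsg.Agent.R2.Spec.P1
open Cfsg.Agent.H420.QR

universe u w

/-- `L` classical, `G` isospectral to `L` -/
structure LS (t : Fam) (p f : ℕ) (L : Type w) [Group L] (G : Type u) [Group G] : Prop where
  ord : ∀ m : ℕ, (∃ g : G, orderOf g = m) ↔ ∃ x : L, orderOf x = m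
  adj : AdjFacts t p f L
  cla : Classical t
  prime : p.Prime
  fpos : 1 ≤ f
  pdvd : p ∣ Nat.card L

theorem LS.of_is {t : Fam} (ht : Classical t) {p f : ℕ} (hp : p.Prime) {L : Type w} [Group L] [Finite L]
    (h : Fam.Is p f L t) {G : Type u} [Group G] (hs : SameOrd G L) : LS t p f L G := by
  have hc : Cfsg.Agent.H228.E3.Cla t := by
    cases t with
    | psl n => trivial
    | psu n => trivial
    | psp n => trivial
    | oodd n => trivial
    | oplus n => trivial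
    | ominus n => trivial
    | _ => exact ht.elim
  obtain ⟨d, N, h1⟩ := Cfsg.Agent.H228.E3.sh_fam hp hc h
  refine ⟨fun m => ?_, adjFacts ht hp h, ht, hp, h1.f_pos, h1.chr⟩
  have h2 : m ∈ Set.range (orderOf : G → ℕ) ↔ m ∈ Set.range (orderOf : L → ℕ) := by rw [show _ = _ from hs]
  exact h2

variable {t : Fam} {p f : ℕ} {L : Type w} [Group L] [Finite L] {G : Type u} [Group G] [Finite G]

theorem LS.dvd_iff (h : LS t p f L G) {r : ℕ} (hr : r.Prime) : r ∣ Nat.card G ↔ r ∣ Nat.card L := by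
  have := Fact.mk hr
  constructor
  · intro hd
    obtain ⟨x, hx⟩ := exists_prime_orderOf_dvd_card' (G := G) r hd
    obtain ⟨y, hy⟩ := (h.ord r).1 ⟨x, hx⟩
    rw [← hy]
    exact orderOf_dvd_natCard y
  · intro hd
    obtain ⟨x, hx⟩ := exists_prime_orderOf_dvd_card' (G := L) r hd
    obtain ⟨y, hy⟩ := (h.ord r).2 ⟨x, hx⟩
    rw [← hy]
    exact orderOf_dvd_natCard y

theorem LS.q_pos (h : LS t p f L G) : 2 ≤ p ^ f :=
  h.prime.two_le.trans (Nat.le_self_pow (by have := h.fpos; omega) p)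

/-- a prime of the class `i` -/
structure In (t : Fam) (q i r : ℕ) : Prop where
  prime : r.Prime
  cls_eq : cls t q r = i
  reg : 3 ≤ i
  mem : mem t i

theorem In.five {t : Fam} {q i r : ℕ} (h : In t q i r) : 5 ≤ r :=
  (cls_facts h.prime (by rw [h.cls_eq]; exact h.reg)).1

theorem In.ne_two {t : Fam} {q i r : ℕ} (h : In t q i r) : r ≠ 2 := by have := h.five; omega

theorem In.not_dvd {t : Fam} {i r : ℕ} (h : In t (p ^ f) i r) (hf : 1 ≤ f) : ¬ r ∣ p := fun hd =>
  (cls_facts h.prime (by rw [h.cls_eq]; exact h.reg)).2.1 (hd.trans (dvd_pow_self p (by omega)))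

theorem In.dvd (h : LS t p f L G) {i r : ℕ} (hr : In t (p ^ f) i r) : r ∣ Nat.card G := by
  rw [h.dvd_iff hr.prime]
  refine (h.adj.dvd r hr.prime hr.ne_two (hr.not_dvd h.fpos) (by rw [hr.cls_eq]; exact hr.reg)).2 ?_
  rw [hr.cls_eq]
  exact hr.mem

theorem In.ne {t : Fam} {q i j r s : ℕ} (hr : In t q i r) (hs : In t q j s) (hij : i ≠ j) : r ≠ s := by
  rintro rfl
  exact hij (hr.cls_eq.symm.trans hs.cls_eq)

theorem LS.adj_iff (h : LS t p f L G) {i j r s : ℕ} (hr : In t (p ^ f) i r) (hs : In t (p ^ f) j s) (hrs : r ≠ s) :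
    (∃ g : G, orderOf g = r * s) ↔ ¬ na t i j := by
  rw [h.ord]
  have h1 := h.adj.adj r s hr.prime hs.prime hr.ne_two hs.ne_two hrs (hr.not_dvd h.fpos) (hs.not_dvd h.fpos)
    (by rw [hr.cls_eq]; exact hr.reg) (by rw [hs.cls_eq]; exact hs.reg) (by rw [hr.cls_eq]; exact hr.mem)
    (by rw [hs.cls_eq]; exact hs.mem)
  rw [hr.cls_eq, hs.cls_eq] at h1
  exact h1

theorem LS.adjp_iff (h : LS t p f L G) {i r : ℕ} (hr : In t (p ^ f) i r) :
    (∃ g : G, orderOf g = r * p) ↔ ¬ nap t i := by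
  rw [h.ord]
  have h1 := h.adj.adjp r hr.prime hr.ne_two (hr.not_dvd h.fpos) (by rw [hr.cls_eq]; exact hr.reg)
    (by rw [hr.cls_eq]; exact hr.mem)
  rw [hr.cls_eq] at h1
  exact h1

theorem na_symm {t : Fam} {i j : ℕ} (h : na t i j) : na t j i := by
  cases t with
  | psl n => exact ⟨by rw [add_comm]; exact h.1, h.2.2, h.2.1⟩
  | psu n => exact ⟨by rw [add_comm]; exact h.1, h.2.2, h.2.1⟩
  | psp n => exact ⟨by rw [add_comm]; exact h.1, h.2.2, h.2.1⟩
  | oodd n => exact ⟨by rw [add_comm]; exact h.1, h.2.2, h.2.1⟩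
  | oplus n =>
    obtain ⟨h1, h2, h3, h4, h5⟩ := h
    exact ⟨by rw [add_comm (eta j), add_comm j]; exact h1, h3, h2, h5, h4⟩
  | ominus n =>
    obtain ⟨h1, h2, h3⟩ := h
    exact ⟨by rw [add_comm (eta j), add_comm j]; exact h1, h3, h2⟩
  | _ => exact h

theorem na_ne {t : Fam} {i j : ℕ} (h : na t i j) : i ≠ j := by
  rintro rfl
  have h1 : OddMul i i := ⟨1, rfl, (mul_one i).symm⟩
  cases t with
  | psl n => exact h.2.1 dvd_rfl
  | psu n => exact h.2.1 dvd_rfl
  | psp n => exact h.2.1 h1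
  | oodd n => exact h.2.1 h1
  | oplus n => exact h.2.1 h1
  | ominus n => exact h.2.1 h1
  | _ => exact h

variable {K : Subgroup G} [K.Normal] {S : Subgroup (G ⧸ K)} [S.Normal]

theorem isCoq_three {a b c : ℕ} (ha : a.Prime) (hb : b.Prime) (hc : c.Prime) (hda : a ∣ Nat.card G)
    (hdb : b ∣ Nat.card G) (hdc : c ∣ Nat.card G) (hab : ¬ ∃ g : G, orderOf g = a * b)
    (hac : ¬ ∃ g : G, orderOf g = a * c) (hbc : ¬ ∃ g : G, orderOf g = b * c) : IsCoq G {a, b, c} := by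
  refine ⟨?_, ?_, ?_⟩
  · intro r hr
    rw [Finset.mem_insert, Finset.mem_insert, Finset.mem_singleton] at hr
    rcases hr with rfl | rfl | rfl <;> assumption
  · intro r hr
    rw [Finset.mem_insert, Finset.mem_insert, Finset.mem_singleton] at hr
    rcases hr with rfl | rfl | rfl <;> assumption
  · intro r hr s hs hrs
    rw [Finset.mem_insert, Finset.mem_insert, Finset.mem_singleton] at hr hs
    have key : ∀ {x y : ℕ}, (¬ ∃ g : G, orderOf g = x * y) → ¬ ∃ g : G, orderOf g = y * x := by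
      intro x y h
      rwa [mul_comm]
    rcases hr with rfl | rfl | rfl <;> rcases hs with rfl | rfl | rfl
    · exact absurd rfl hrs
    · exact hab
    · exact hac
    · exact key hab
    · exact absurd rfl hrs
    · exact hbc
    · exact key hac
    · exact key hbc
    · exact absurd rfl hrs

/-- two bad primes of a coclique of three -/
theorem Red.two_bad (hR : Red G K S) {a b c : ℕ} (ha : a.Prime) (hb : b.Prime) (hc : c.Prime) (hda : a ∣ Nat.card G)
    (hdb : b ∣ Nat.card G) (hdc : c ∣ Nat.card G) (h1 : a ≠ b) (h2 : a ≠ c) (h3 : b ≠ c)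
    (hab : ¬ ∃ g : G, orderOf g = a * b) (hac : ¬ ∃ g : G, orderOf g = a * c) (hbc : ¬ ∃ g : G, orderOf g = b * c)
    (hbad : a ∣ Nat.card K * S.index) : ¬ b ∣ Nat.card K * S.index ∧ b ∣ Nat.card S := by
  have hcoq := isCoq_three ha hb hc hda hdb hdc hab hac hbc
  have hcard : 3 ≤ ({a, b, c} : Finset ℕ).card := by
    rw [Finset.card_insert_of_notMem, Finset.card_insert_of_notMem, Finset.card_singleton]
    · rw [Finset.mem_singleton]; exact h3
    · rw [Finset.mem_insert, Finset.mem_singleton, not_or]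
      exact ⟨h1, h2⟩
  have hnb : ¬ b ∣ Nat.card K * S.index := fun hbb =>
    h1 (hR.coc' _ hcoq hcard a (Finset.mem_insert_self _ _) b
      (Finset.mem_insert_of_mem (Finset.mem_insert_self _ _)) hbad hbb)
  refine ⟨hnb, ?_⟩
  rw [card_eq_mul (K := K) (S := S)] at hdb
  exact (hb.dvd_mul.1 hdb).resolve_right hnb

/-- **Two classes of a coclique of three classes: the second one is good.** -/
theorem LS.good_of_bad (h : LS t p f L G) (hR : Red G K S) {i j k r s z : ℕ} (hr : In t (p ^ f) i r)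
    (hs : In t (p ^ f) j s) (hz : In t (p ^ f) k z) (hij : na t i j) (hik : na t i k) (hjk : na t j k)
    (hbad : r ∣ Nat.card K * S.index) : ¬ s ∣ Nat.card K * S.index ∧ s ∣ Nat.card S := by
  have h1 := hr.ne hs (na_ne hij)
  have h2 := hr.ne hz (na_ne hik)
  have h3 := hs.ne hz (na_ne hjk)
  exact Red.two_bad hR hr.prime hs.prime hz.prime (hr.dvd h) (hs.dvd h) (hz.dvd h) h1 h2 h3
    (fun hg => (h.adj_iff hr hs h1).1 hg hij) (fun hg => (h.adj_iff hr hz h2).1 hg hik)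
    (fun hg => (h.adj_iff hs hz h3).1 hg hjk) hbad

variable {t' : Fam} {v f' : ℕ}

/-- **The field case: the congruences.** -/
theorem LS.hc (h : LS t p f L G) (hR : Red G K S) (hF : Frm G K S t' v f') {i r : ℕ} (hr : In t (p ^ f) i r)
    (hbad : r ∣ Nat.card K * S.index) (hrK : ¬ r ∣ Nat.card K) (hrd : ¬ r ∣ dg t' (v ^ f')) {l : ℕ} (hl3 : 3 ≤ l)
    (hl : mem t l) (hil : na t i l) (hk : ∃ k z, In t (p ^ f) k z ∧ na t i k ∧ na t l k) : HC (sg t (p ^ f)) r l := by
  obtain ⟨k, z, hz, hik, hlk⟩ := hk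
  intro y hy hyl
  have hyI : In t (p ^ f) l y := ⟨hy, hyl, hl3, hl⟩
  obtain ⟨h1, h2⟩ := h.good_of_bad hR hr hyI hz hil hik hlk hbad
  have hne := hr.ne hyI (na_ne hil)
  exact hF.mod_one hr.prime hr.five hbad hrK hrd hy hyI.five hne.symm h2 fun hg => (h.adj_iff hr hyI hne).1 hg hil

/-- the other good primes of a coclique of classes -/
theorem LS.few (h : LS t p f L G) (hR : Red G K S) (hF : Frm G K S t' v f') {i r : ℕ} (hr : In t (p ^ f) i r)
    (hbad : r ∣ Nat.card K * S.index) (hne : r ∣ Nat.card K ∨ r ∣ dg t' (v ^ f')) {J : Finset ℕ} {z : ℕ → ℕ}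
    (hJ : ∀ j ∈ J, In t (p ^ f) j (z j)) (hiJ : ∀ j ∈ J, na t i j) (hJJ : ∀ j ∈ J, ∀ k ∈ J, j ≠ k → na t j k)
    (h3 : 3 ≤ J.card) : J.card ≤ 3 ∧ (r ∣ Nat.card K ∧ r = v ∧ ∃ n, t' = .ominus n) ∧
      (∀ j ∈ J, ¬ z j ∣ Nat.card K * S.index ∧ z j ∣ Nat.card S) := by
  classical
  have hgood : ∀ j ∈ J, ¬ z j ∣ Nat.card K * S.index ∧ z j ∣ Nat.card S := by
    intro j hj
    obtain ⟨k, hk, hkj⟩ : ∃ k ∈ J, k ≠ j := by
      by_contra hcon
      push Not at hcon
      have : J ⊆ {j} := fun k hk => Finset.mem_singleton.2 (hcon k hk)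
      have := Finset.card_le_card this
      rw [Finset.card_singleton] at this
      omega
    exact h.good_of_bad hR hr (hJ j hj) (hJ k hk) (hiJ j hj) (hiJ k hk) (hJJ j hj k hk hkj.symm) hbad
  have hinj : Set.InjOn z J := by
    intro j hj k hk hjk
    by_contra hne
    exact (hJ j hj).ne (hJ k hk) hne hjk
  have hcard : (J.image z).card = J.card := Finset.card_image_of_injOn hinj
  have h4 := hF.few hr.prime hr.five hbad hne (X := J.image z) (by
    intro x hx
    obtain ⟨j, hj, rfl⟩ := Finset.mem_image.1 hx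
    exact ⟨(hJ j hj).prime, (hJ j hj).five, (hr.ne (hJ j hj) (na_ne (hiJ j hj))).symm, (hgood j hj).2⟩) (by
    intro x hx
    obtain ⟨j, hj, rfl⟩ := Finset.mem_image.1 hx
    intro hg
    exact (h.adj_iff hr (hJ j hj) (hr.ne (hJ j hj) (na_ne (hiJ j hj)))).1 hg (hiJ j hj)) (by
    intro x hx y hy hxy
    obtain ⟨j, hj, rfl⟩ := Finset.mem_image.1 hx
    obtain ⟨k, hk, rfl⟩ := Finset.mem_image.1 hy
    have hjk : j ≠ k := fun hjk => hxy (by rw [hjk])
    intro hg
    exact (h.adj_iff (hJ j hj) (hJ k hk) hxy).1 hg (hJJ j hj k hk hjk))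
  rw [hcard] at h4
  exact ⟨h4.1, h4.2 h3, hgood⟩

/-- **Five classes.** -/
theorem LS.not_K_of_five (h : LS t p f L G) (hR : Red G K S) (hF : Frm G K S t' v f') {i r : ℕ}
    (hr : In t (p ^ f) i r) (hbad : r ∣ Nat.card K * S.index) {J : Finset ℕ} {z : ℕ → ℕ}
    (hJ : ∀ j ∈ J, In t (p ^ f) j (z j)) (hiJ : ∀ j ∈ J, na t i j) (hJJ : ∀ j ∈ J, ∀ k ∈ J, j ≠ k → na t j k)
    (h4 : 4 ≤ J.card) : ¬ r ∣ Nat.card K ∧ ¬ r ∣ dg t' (v ^ f') := by
  by_contra hcon
  rw [not_and_or, not_not, not_not] at hcon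
  have h1 := h.few hR hF hr hbad hcon hJ hiJ hJJ (by omega)
  omega

/-- two primes not dividing `|K| |G / K : S|` which are adjacent in `G` are adjacent in `S` -/
theorem adj_S_of_good {a b : ℕ} (ha : a.Prime) (hb : b.Prime) (hga : ¬ a ∣ Nat.card K * S.index)
    (hgb : ¬ b ∣ Nat.card K * S.index) (hab : ∃ g : G, orderOf g = a * b) : ∃ g : S, orderOf g = a * b := by
  by_contra hcon
  rcases Cfsg.Agent.H414.S88.adj_K ha hb (fun hd => hga (hd.mul_left _)) (fun hd => hgb (hd.mul_left _)) hab hcon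
    with h1 | h1
  · exact hga (h1.mul_right _)
  · exact hgb (h1.mul_right _)

/-- **Four classes**, `p` odd, the bad class isolated. -/
theorem LS.not_K_of_four (h : LS t p f L G) (hR : Red G K S) (hF : Frm G K S t' v f') (hp2 : p ≠ 2) {i r : ℕ}
    (hr : In t (p ^ f) i r) (hbad : r ∣ Nat.card K * S.index) {J : Finset ℕ} {z : ℕ → ℕ}
    (hJ : ∀ j ∈ J, In t (p ^ f) j (z j)) (hiJ : ∀ j ∈ J, na t i j) (hJJ : ∀ j ∈ J, ∀ k ∈ J, j ≠ k → na t j k)
    (h3 : 3 ≤ J.card) (hi : nap t i) (hiso : ∃ k y, In t (p ^ f) k y ∧ na t i k ∧ nap t k)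
    (htwo : ∀ j ∈ J, ∃ k ∈ J, k ≠ j ∧ ¬ nap t k) : ¬ r ∣ Nat.card K ∧ ¬ r ∣ dg t' (v ^ f') := by
  classical
  by_contra hcon
  rw [not_and_or, not_not, not_not] at hcon
  obtain ⟨h5, ⟨hrK, hrv, n, hn⟩, hgood⟩ := h.few hR hF hr hbad hcon hJ hiJ hJJ h3
  -- `p` is good
  obtain ⟨k, y, hy, hik, hkp⟩ := hiso
  have hrp : r ≠ p := fun hrp => hr.not_dvd h.fpos (by rw [hrp])
  have hyp : y ≠ p := fun hyp => hy.not_dvd h.fpos (by rw [hyp])
  have hry := hr.ne hy (na_ne hik)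
  have hpG : p ∣ Nat.card G := (h.dvd_iff h.prime).2 h.pdvd
  have hnrp : ¬ ∃ g : G, orderOf g = r * p := fun hg => (h.adjp_iff hr).1 hg hi
  obtain ⟨hpgood, hpS⟩ := Red.two_bad hR hr.prime h.prime hy.prime (hr.dvd h) hpG (hy.dvd h) hrp hry hyp.symm
    hnrp (fun hg => (h.adj_iff hr hy hry).1 hg hik)
    (fun hg => (h.adjp_iff hy).1 (by rwa [mul_comm] at hg) hkp) hbad
  -- the category of `p` in `S`
  have hpv : p ≠ v := by rw [← hrv]; exact hrp.symm
  have hpT : cls t' (v ^ f') p ∈ TV t' := by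
    refine hF.mem_TV h.prime hp2 (Or.inr ⟨n, hn⟩) hpv hpS fun hg => hnrp ?_
    rw [hrv]
    exact exists_of_S hg
  -- the three others
  have hv : ∀ j ∈ J, z j ≠ v := fun j hj => by
    rw [← hrv]
    exact (hr.ne (hJ j hj) (na_ne (hiJ j hj))).symm
  have hnr : ∀ j ∈ J, ¬ ∃ g : G, orderOf g = r * z j := fun j hj hg =>
    (h.adj_iff hr (hJ j hj) (hr.ne (hJ j hj) (na_ne (hiJ j hj)))).1 hg (hiJ j hj)
  have hT : ∀ j ∈ J, cls t' (v ^ f') (z j) ∈ TV t' := by
    intro j hj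
    refine hF.mem_TV (hJ j hj).prime (hJ j hj).ne_two (Or.inr ⟨n, hn⟩) (hv j hj) (hgood j hj).2 fun hg => hnr j hj ?_
    rw [hrv]
    exact exists_of_S hg
  have hinj : Set.InjOn (fun j => cls t' (v ^ f') (z j)) J := by
    intro j hj k hk hjk
    by_contra hne
    have hzz := (hJ j hj).ne (hJ k hk) hne
    obtain ⟨g, hg⟩ := adj_same' hF.cla hF.prime hF.is (hJ j hj).prime (hJ k hk).prime (hJ j hj).ne_two
      (hJ k hk).ne_two hzz (hv j hj) (hv k hk) (hgood j hj).2 (hgood k hk).2 hjk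
    exact (h.adj_iff (hJ j hj) (hJ k hk) hzz).1 (exists_of_S ⟨g, hg⟩) (hJJ j hj k hk hne)
  have himg : J.image (fun j => cls t' (v ^ f') (z j)) = TV t' := by
    apply Finset.eq_of_subset_of_card_le
    · intro x hx
      obtain ⟨j, hj, rfl⟩ := Finset.mem_image.1 hx
      exact hT j hj
    · rw [Finset.card_image_of_injOn hinj]
      exact (card_TV' t').trans h3
  rw [← himg] at hpT
  obtain ⟨j, hj, hjp⟩ := Finset.mem_image.1 hpT
  obtain ⟨l, hl, hlj, hlp⟩ := htwo j hj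
  -- regular
  have hTV3 : ∀ x ∈ TV t', 3 ≤ x := by
    have h4 : 4 ≤ n := by
      have h6 := hF.is
      rw [hn] at h6
      exact h6.1
    intro x hx
    rw [hn] at hx
    change x ∈ ({n - 1, 2 * n - 2, 2 * n} : Finset ℕ) at hx
    rw [Finset.mem_insert, Finset.mem_insert, Finset.mem_singleton] at hx
    omega
  have hSF := adjFacts hF.cla hF.prime hF.is
  have hdv : ∀ {x : ℕ}, x.Prime → x ≠ v → ¬ x ∣ v := fun hx hxv hd =>
    hxv ((Nat.prime_dvd_prime_iff_eq hx hF.prime).1 hd)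
  have hpl : p ≠ z l := fun hpl => (hJ l hl).not_dvd h.fpos (by rw [hpl])
  have hpl' : ∃ g : S, orderOf g = p * z l :=
    adj_S_of_good h.prime (hJ l hl).prime hpgood (hgood l hl).1 (by
      rw [mul_comm]
      exact (h.adjp_iff (hJ l hl)).2 hlp)
  have hjl := (hJ j hj).ne (hJ l hl) hlj.symm
  have h3p : 3 ≤ cls t' (v ^ f') p := hTV3 _ (by rw [← himg]; exact hpT)
  have h3j := hTV3 _ (hT j hj)
  have h3l := hTV3 _ (hT l hl)
  have hmp := (hSF.dvd p h.prime hp2 (hdv h.prime hpv) h3p).1 hpS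
  have hmj := (hSF.dvd _ (hJ j hj).prime (hJ j hj).ne_two (hdv (hJ j hj).prime (hv j hj)) h3j).1 (hgood j hj).2
  have hml := (hSF.dvd _ (hJ l hl).prime (hJ l hl).ne_two (hdv (hJ l hl).prime (hv l hl)) h3l).1 (hgood l hl).2
  have h6 := (hSF.adj p (z l) h.prime (hJ l hl).prime hp2 (hJ l hl).ne_two hpl (hdv h.prime hpv)
    (hdv (hJ l hl).prime (hv l hl)) h3p h3l hmp hml).1 hpl'
  rw [← hjp] at h6
  obtain ⟨g, hg⟩ := (hSF.adj (z j) (z l) (hJ j hj).prime (hJ l hl).prime (hJ j hj).ne_two (hJ l hl).ne_two hjl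
    (hdv (hJ j hj).prime (hv j hj)) (hdv (hJ l hl).prime (hv l hl)) h3j h3l hmj hml).2 h6
  exact (h.adj_iff (hJ j hj) (hJ l hl) hjl).1 (exists_of_S ⟨g, hg⟩) (hJJ j hj l hl hlj.symm)

end Cfsg.Agent.R2.Spec.F1
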