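import Cfsg.Agent.R2.Spec.F1.Comb
import Cfsg.Agent.R2.Spec.F1.LSide

/-!
# GOOD: the primes of the big classes are good (helper23)

`L` classical of family `t` over the field with `p ^ f` elements, `G` isospectral to `L`, `S` classical in any
characteristic (`Frm`). Then no prime of a big class of `L` divides `|K| |G / K : S|`:

* `LS.good_of_set` : the general form for a coclique `I` of classes with a killer;
* `LS.good_big` : `Five t` (`psl`, `psu` `n ≥ 9`, the others `n ≥ 7`), all big classes;
* `LS.good_small` : ranks 5, 6 of `psp`, `oodd`, rank 6 of `ominus`, all classes of the coclique;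
* `LS.good_four` : `p` odd, isolated classes of `psl`, `psu` 7, 8, `oplus` 5, 6, `ominus` 5;
* `LS.good_iso` : `p` odd, isolated classes, `psl`, `psu` `n ≥ 7`, the others `n ≥ 5`.
-/

set_option autoImplicit false
set_option linter.unusedSectionVars false
set_option linter.unusedVariables false

namespace Cfsg.Agent.R2.Spec.F1

open Subgroup Cfsg
open Cfsg.Agent.H426.LieFam Cfsg.Agent.R2.Spec Cfsg.Agent.R2.Spec.P1
open Cfsg.Agent.H420.QR

universe u w

variable {t : Fam} {p f : ℕ} {L : Type w} [Group L] [Finite L] {G : Type u} [Group G] [Finite G]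
variable {K : Subgroup G} [K.Normal] {S : Subgroup (G ⧸ K)} [S.Normal]
variable {t' : Fam} {v f' : ℕ}

/-- a third element -/
theorem exists_third {I : Finset ℕ} (h : 3 ≤ I.card) (a b : ℕ) : ∃ c ∈ I, c ≠ a ∧ c ≠ b := by
  classical
  by_contra hcon
  push Not at hcon
  have h1 : I ⊆ {a, b} := by
    intro c hc
    rw [Finset.mem_insert, Finset.mem_singleton]
    by_cases h2 : c = a
    · exact Or.inl h2
    · exact Or.inr (hcon c hc h2)
  have h2 := Finset.card_le_card h1
  have h3 := Finset.card_le_two (a := a) (b := b)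
  omega

/-- **Good primes from a coclique of classes with a killer.** -/
theorem LS.good_of_set (h : LS t p f L G) (hR : Red G K S) (hF : Frm G K S t' v f') {I : Finset ℕ} {i : ℕ}
    (hi : i ∈ I) (hreg : ∀ j ∈ I, 3 ≤ j ∧ mem t j) (hna : ∀ j ∈ I, ∀ k ∈ I, j ≠ k → na t j k)
    (hex : ∀ j ∈ I, ∃ r : ℕ, r.Prime ∧ cls t (p ^ f) r = j) (hk : Killer (fun j => j ∈ I) i)
    (hcase : 5 ≤ I.card ∨ (4 ≤ I.card ∧ p ≠ 2 ∧ nap t i ∧ (∃ k ∈ I, k ≠ i ∧ nap t k) ∧
      ∀ j ∈ I, j ≠ i → ∃ k ∈ I, k ≠ i ∧ k ≠ j ∧ ¬ nap t k))
    {r : ℕ} (hr : r.Prime) (hri : cls t (p ^ f) r = i) : ¬ r ∣ Nat.card K * S.index ∧ r ∣ Nat.card S := by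
  classical
  have hrI : In t (p ^ f) i r := ⟨hr, hri, (hreg i hi).1, (hreg i hi).2⟩
  have hrG := hrI.dvd h
  suffices hnb : ¬ r ∣ Nat.card K * S.index by
    refine ⟨hnb, ?_⟩
    rw [card_eq_mul (K := K) (S := S)] at hrG
    exact (hr.dvd_mul.1 hrG).resolve_right hnb
  intro hbad
  choose! z hz using hex
  have hzI : ∀ j ∈ I, In t (p ^ f) j (z j) := fun j hj => ⟨(hz j hj).1, (hz j hj).2, (hreg j hj).1, (hreg j hj).2⟩
  have h3 : 3 ≤ I.card := by omega
  have hcard : (I.erase i).card = I.card - 1 := Finset.card_erase_of_mem hi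
  have hJ : ∀ j ∈ I.erase i, In t (p ^ f) j (z j) := fun j hj => hzI j (Finset.mem_of_mem_erase hj)
  have hiJ : ∀ j ∈ I.erase i, na t i j := fun j hj =>
    hna i hi j (Finset.mem_of_mem_erase hj) (Finset.ne_of_mem_erase hj).symm
  have hJJ : ∀ j ∈ I.erase i, ∀ k ∈ I.erase i, j ≠ k → na t j k := fun j hj k hk =>
    hna j (Finset.mem_of_mem_erase hj) k (Finset.mem_of_mem_erase hk)
  obtain ⟨hrK, hrd⟩ : ¬ r ∣ Nat.card K ∧ ¬ r ∣ dg t' (v ^ f') := by
    rcases hcase with h5 | ⟨h4, hp2, hni, ⟨k, hkI, hki, hnk⟩, htwo⟩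
    · exact h.not_K_of_five hR hF hrI hbad hJ hiJ hJJ (by omega)
    · refine h.not_K_of_four hR hF hp2 hrI hbad hJ hiJ hJJ (by omega) hni
        ⟨k, z k, hzI k hkI, hna i hi k hkI hki.symm, hnk⟩ ?_
      intro j hj
      obtain ⟨l, hl, hli, hlj, hln⟩ := htwo j (Finset.mem_of_mem_erase hj) (Finset.ne_of_mem_erase hj)
      exact ⟨l, Finset.mem_erase.2 ⟨hli, hl⟩, hlj, hln⟩
  refine killer_false hr hrI.five (X := sg t (p ^ f)) hri (hreg i hi).1 ?_ hk
  intro l hl hli
  obtain ⟨k, hk, hki, hkl⟩ := exists_third h3 i l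
  exact h.hc hR hF hrI hbad hrK hrd (hreg l hl).1 (hreg l hl).2 (hna i hi l hl hli.symm)
    ⟨k, z k, hzI k hk, hna i hi k hk hki.symm, hna l hl k hk hkl.symm⟩

/-! ### all big classes -/

open Classical in
/-- the set of the big classes -/
noncomputable def BigF (t : Fam) : Finset ℕ := (Finset.range (2 * rk t + 1)).filter (fun i => Big t i)

theorem big_lt {t : Fam} {i : ℕ} (hi : Big t i) : i < 2 * rk t + 1 := by
  obtain ⟨h3, hm, hb⟩ := hi
  have h2 : i ≤ 2 * eta i := by
    rcases eta_cases i with ⟨h1, h2⟩ | ⟨h1, h2⟩ <;> omega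
  cases t with
  | psl n =>
    change i ≤ n at hm
    change i < 2 * n + 1
    omega
  | psu n =>
    change i ≤ n at hm
    change i < 2 * n + 1
    omega
  | psp n =>
    change eta i ≤ n at hm
    change i < 2 * n + 1
    omega
  | oodd n =>
    change eta i ≤ n at hm
    change i < 2 * n + 1
    omega
  | oplus n =>
    change eta i + 1 ≤ n ∨ (i = n ∧ n % 2 = 1) at hm
    change i < 2 * n + 1
    omega
  | ominus n =>
    change eta i + 1 ≤ n ∨ i = 2 * n at hm
    change i < 2 * n + 1
    omega
  | _ => exact hm.elim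

theorem mem_BigF {t : Fam} {i : ℕ} : i ∈ BigF t ↔ Big t i := by
  classical
  rw [BigF, Finset.mem_filter, Finset.mem_range]
  exact ⟨fun h => h.2, fun h => ⟨big_lt h, h⟩⟩

theorem card_five {a b c d e : ℕ} (h1 : a ≠ b) (h2 : a ≠ c) (h3 : a ≠ d) (h4 : a ≠ e) (h5 : b ≠ c) (h6 : b ≠ d)
    (h7 : b ≠ e) (h8 : c ≠ d) (h9 : c ≠ e) (h10 : d ≠ e) : ({a, b, c, d, e} : Finset ℕ).card = 5 := by
  rw [Finset.card_insert_of_notMem, Finset.card_insert_of_notMem, Finset.card_insert_of_notMem,
    Finset.card_insert_of_notMem, Finset.card_singleton]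
  all_goals simp only [Finset.mem_insert, Finset.mem_singleton, not_or]
  · exact h10
  · exact ⟨h8, h9⟩
  · exact ⟨h5, h6, h7⟩
  · exact ⟨h1, h2, h3, h4⟩

theorem five_le_of {I : Finset ℕ} {a b c d e : ℕ} (ha : a ∈ I) (hb : b ∈ I) (hc : c ∈ I) (hd : d ∈ I) (he : e ∈ I)
    (h1 : a ≠ b) (h2 : a ≠ c) (h3 : a ≠ d) (h4 : a ≠ e) (h5 : b ≠ c) (h6 : b ≠ d)
    (h7 : b ≠ e) (h8 : c ≠ d) (h9 : c ≠ e) (h10 : d ≠ e) : 5 ≤ I.card := by
  rw [← card_five h1 h2 h3 h4 h5 h6 h7 h8 h9 h10]
  apply Finset.card_le_card
  intro x hx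
  simp only [Finset.mem_insert, Finset.mem_singleton] at hx
  rcases hx with rfl | rfl | rfl | rfl | rfl <;> assumption

theorem card_BigF {t : Fam} (h5 : Five t) : 5 ≤ (BigF t).card := by
  cases t with
  | psl n =>
    change 9 ≤ n at h5
    have key : ∀ j, n < 2 * j → j ≤ n → j ∈ BigF (.psl n) := fun j h1 h2 => mem_BigF.2 ⟨by omega, h2, h1⟩
    exact five_le_of (key n (by omega) (by omega)) (key (n - 1) (by omega) (by omega)) (key (n - 2) (by omega) (by omega))
      (key (n - 3) (by omega) (by omega)) (key (n - 4) (by omega) (by omega)) (by omega) (by omega) (by omega)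
      (by omega) (by omega) (by omega) (by omega) (by omega) (by omega) (by omega)
  | psu n =>
    change 9 ≤ n at h5
    have key : ∀ j, n < 2 * j → j ≤ n → j ∈ BigF (.psu n) := fun j h1 h2 => mem_BigF.2 ⟨by omega, h2, h1⟩
    exact five_le_of (key n (by omega) (by omega)) (key (n - 1) (by omega) (by omega)) (key (n - 2) (by omega) (by omega))
      (key (n - 3) (by omega) (by omega)) (key (n - 4) (by omega) (by omega)) (by omega) (by omega) (by omega)
      (by omega) (by omega) (by omega) (by omega) (by omega) (by omega) (by omega)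
  | psp n =>
    change 7 ≤ n at h5
    have key : ∀ j, n < 2 * eta j → eta j ≤ n → 3 ≤ j → j ∈ BigF (.psp n) := fun j h1 h2 h3 => mem_BigF.2 ⟨h3, h2, h1⟩
    have keye : ∀ j, n < 2 * j → j ≤ n → 2 * j ∈ BigF (.psp n) := fun j h1 h2 =>
      key _ (by rw [eta_two_mul']; exact h1) (by rw [eta_two_mul']; exact h2) (by omega)
    have keyo : ∀ j, j % 2 = 1 → n < 2 * j → j ≤ n → j ∈ BigF (.psp n) := fun j hj h1 h2 =>
      key _ (by rw [eta_odd hj]; exact h1) (by rw [eta_odd hj]; exact h2) (by omega)
    rcases Nat.even_or_odd' n with ⟨m, hm | hm⟩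
    · exact five_le_of (keye n (by omega) (by omega)) (keye (n - 1) (by omega) (by omega))
        (keye (n - 2) (by omega) (by omega)) (keye (n - 3) (by omega) (by omega))
        (keyo (n - 1) (by omega) (by omega) (by omega)) (by omega) (by omega) (by omega)
        (by omega) (by omega) (by omega) (by omega) (by omega) (by omega) (by omega)
    · exact five_le_of (keye n (by omega) (by omega)) (keye (n - 1) (by omega) (by omega))
        (keye (n - 2) (by omega) (by omega)) (keye (n - 3) (by omega) (by omega))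
        (keyo n (by omega) (by omega) (by omega)) (by omega) (by omega) (by omega)
        (by omega) (by omega) (by omega) (by omega) (by omega) (by omega) (by omega)
  | oodd n =>
    change 7 ≤ n at h5
    have key : ∀ j, n < 2 * eta j → eta j ≤ n → 3 ≤ j → j ∈ BigF (.oodd n) := fun j h1 h2 h3 => mem_BigF.2 ⟨h3, h2, h1⟩
    have keye : ∀ j, n < 2 * j → j ≤ n → 2 * j ∈ BigF (.oodd n) := fun j h1 h2 =>
      key _ (by rw [eta_two_mul']; exact h1) (by rw [eta_two_mul']; exact h2) (by omega)
    have keyo : ∀ j, j % 2 = 1 → n < 2 * j → j ≤ n → j ∈ BigF (.oodd n) := fun j hj h1 h2 =>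
      key _ (by rw [eta_odd hj]; exact h1) (by rw [eta_odd hj]; exact h2) (by omega)
    rcases Nat.even_or_odd' n with ⟨m, hm | hm⟩
    · exact five_le_of (keye n (by omega) (by omega)) (keye (n - 1) (by omega) (by omega))
        (keye (n - 2) (by omega) (by omega)) (keye (n - 3) (by omega) (by omega))
        (keyo (n - 1) (by omega) (by omega) (by omega)) (by omega) (by omega) (by omega)
        (by omega) (by omega) (by omega) (by omega) (by omega) (by omega) (by omega)
    · exact five_le_of (keye n (by omega) (by omega)) (keye (n - 1) (by omega) (by omega))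
        (keye (n - 2) (by omega) (by omega)) (keye (n - 3) (by omega) (by omega))
        (keyo n (by omega) (by omega) (by omega)) (by omega) (by omega) (by omega)
        (by omega) (by omega) (by omega) (by omega) (by omega) (by omega) (by omega)
  | oplus n =>
    change 7 ≤ n at h5
    have keye : ∀ j, n < 2 * j → j + 1 ≤ n → 2 * j ∈ BigF (.oplus n) := fun j h1 h2 => mem_BigF.2
      ⟨by omega, Or.inl (by rw [eta_two_mul']; exact h2), by
        change n < 2 * eta _
        rw [eta_two_mul']; exact h1⟩
    have keyo : ∀ j, j % 2 = 1 → n < 2 * j → j + 1 ≤ n ∨ (j = n ∧ n % 2 = 1) → j ∈ BigF (.oplus n) := fun j hj h1 h2 =>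
      mem_BigF.2 ⟨by omega, by
        rcases h2 with h2 | h2
        · exact Or.inl (by rw [eta_odd hj]; exact h2)
        · exact Or.inr h2, by
        change n < 2 * eta _
        rw [eta_odd hj]; exact h1⟩
    rcases Nat.even_or_odd' n with ⟨m, hm | hm⟩
    · exact five_le_of (keye (n - 1) (by omega) (by omega)) (keye (n - 2) (by omega) (by omega))
        (keye (n - 3) (by omega) (by omega)) (keyo (n - 1) (by omega) (by omega) (by omega))
        (keyo (n - 3) (by omega) (by omega) (by omega)) (by omega) (by omega) (by omega)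
        (by omega) (by omega) (by omega) (by omega) (by omega) (by omega) (by omega)
    · exact five_le_of (keye (n - 1) (by omega) (by omega)) (keye (n - 2) (by omega) (by omega))
        (keye (n - 3) (by omega) (by omega)) (keyo n (by omega) (by omega) (by omega))
        (keyo (n - 2) (by omega) (by omega) (by omega)) (by omega) (by omega) (by omega)
        (by omega) (by omega) (by omega) (by omega) (by omega) (by omega) (by omega)
  | ominus n =>
    change 7 ≤ n at h5
    have keye : ∀ j, n < 2 * j → j ≤ n → 2 * j ∈ BigF (.ominus n) := fun j h1 h2 => mem_BigF.2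
      ⟨by omega, by
        change eta (2 * j) + 1 ≤ n ∨ 2 * j = 2 * n
        rw [eta_two_mul']; omega, by
        change n < 2 * eta _
        rw [eta_two_mul']; exact h1⟩
    have keyo : ∀ j, j % 2 = 1 → n < 2 * j → j + 1 ≤ n → j ∈ BigF (.ominus n) := fun j hj h1 h2 =>
      mem_BigF.2 ⟨by omega, Or.inl (by rw [eta_odd hj]; exact h2), by
        change n < 2 * eta _
        rw [eta_odd hj]; exact h1⟩
    rcases Nat.even_or_odd' n with ⟨m, hm | hm⟩
    · exact five_le_of (keye n (by omega) (by omega)) (keye (n - 1) (by omega) (by omega))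
        (keye (n - 2) (by omega) (by omega)) (keye (n - 3) (by omega) (by omega))
        (keyo (n - 1) (by omega) (by omega) (by omega)) (by omega) (by omega) (by omega)
        (by omega) (by omega) (by omega) (by omega) (by omega) (by omega) (by omega)
    · exact five_le_of (keye n (by omega) (by omega)) (keye (n - 1) (by omega) (by omega))
        (keye (n - 2) (by omega) (by omega)) (keye (n - 3) (by omega) (by omega))
        (keyo (n - 2) (by omega) (by omega) (by omega)) (by omega) (by omega) (by omega)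
        (by omega) (by omega) (by omega) (by omega) (by omega) (by omega) (by omega)
  | _ => exact h5.elim

/-- the field is large enough -/
def FldOk : Fam → ℕ → Prop
  | .psl n, q => q = 2 → 12 ≤ n
  | .psu n, q => q = 2 → 12 ≤ n
  | _, _ => True

/-- **All big classes are good.** -/
theorem LS.good_big (h : LS t p f L G) (hR : Red G K S) (hF : Frm G K S t' v f') (h5 : Five t)
    (hq : FldOk t (p ^ f)) {i : ℕ} (hi : Big t i) {r : ℕ} (hr : r.Prime) (hri : cls t (p ^ f) r = i) :
    ¬ r ∣ Nat.card K * S.index ∧ r ∣ Nat.card S := by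
  refine h.good_of_set hR hF (I := BigF t) (mem_BigF.2 hi) (fun j hj => ⟨(mem_BigF.1 hj).1, (mem_BigF.1 hj).2.1⟩)
    (fun j hj k hk hjk => na_of_big h.cla (mem_BigF.1 hj) (mem_BigF.1 hk) hjk) ?_ ?_ (Or.inl (card_BigF h5)) hr hri
  · intro j hj
    obtain ⟨h3, hm, hb⟩ := mem_BigF.1 hj
    refine exists_cls h.q_pos h3 fun hq2 => ?_
    rw [hq2] at hq
    clear hj
    constructor
    · rintro rfl
      cases t with
      | psl n =>
        change n < 2 * 6 at hb
        have : 12 ≤ n := hq rfl
        omega
      | psu n =>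
        change n < 2 * 6 at hb
        have : 12 ≤ n := hq rfl
        omega
      | psp n =>
        change n < 2 * 3 at hb
        change 7 ≤ n at h5
        omega
      | oodd n =>
        change n < 2 * 3 at hb
        change 7 ≤ n at h5
        omega
      | oplus n =>
        change n < 2 * 3 at hb
        change 7 ≤ n at h5
        omega
      | ominus n =>
        change n < 2 * 3 at hb
        change 7 ≤ n at h5
        omega
      | _ => exact h5.elim
    · rintro rfl
      cases t with
      | psl n =>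
        change n < 2 * 3 at hb
        change 9 ≤ n at h5
        omega
      | psu n =>
        change n < 2 * 3 at hb
        change 9 ≤ n at h5
        omega
      | psp n =>
        change n < 2 * 3 at hb
        change 7 ≤ n at h5
        omega
      | oodd n =>
        change n < 2 * 3 at hb
        change 7 ≤ n at h5
        omega
      | oplus n =>
        change n < 2 * 3 at hb
        change 7 ≤ n at h5
        omega
      | ominus n =>
        change n < 2 * 3 at hb
        change 7 ≤ n at h5
        omega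
      | _ => exact h5.elim
  · have h6 : (fun j => j ∈ BigF t) = Big t := by
      funext j
      exact propext mem_BigF
    rw [h6]
    exact killer_big h5 hi

end Cfsg.Agent.R2.Spec.F1
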