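import Cfsg.Agent.R2.Spec.F1.ExcK

/-!
# Primes of the radical and primes adjacent to the characteristic, `S` exceptional (helper23)

`ExFrm.kadj_adj` : `t ≠ tf4`, `r ∣ |K|`, `r ≠ v`, `x ≥ 5` adjacent to `v` in `S`: `G` has elements of order `r x`.
-/

set_option autoImplicit false
set_option linter.unusedSectionVars false
set_option linter.unusedVariables false

namespace Cfsg.Agent.R2.Spec.F1

open Subgroup Cfsg
open Cfsg.Agent.H426.LieFam Cfsg.Agent.R2.Spec Cfsg.Agent.R2.Spec.P1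
open Cfsg.Agent.H420.QR Cfsg.Agent.H414.LieShape

universe u w

theorem oc_pow {v f x n : ℕ} (hv : v.Prime) : x ∣ (v ^ f) ^ n - 1 ↔ oc v f x ∣ n := by
  rw [oc, orderOf_dvd_iff_pow_eq_one, ← ZMod.natCast_eq_zero_iff, Nat.cast_sub (Nat.one_le_pow _ _ (pow_pos hv.pos _)),
    Nat.cast_one, sub_eq_zero, Nat.cast_pow]

/-- the exponents of a factor -/
def facE : Fac → ℕ
  | .sub i => i
  | .add i => 2 * i
  | .tri => 12

theorem oc_dvd_facE {v f x : ℕ} (hv : v.Prime) {F : Fac} (h : x ∣ F.val (v ^ f)) : oc v f x ∣ facE F := by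
  have h1 : 1 ≤ v ^ f := pow_pos hv.pos _
  cases F with
  | sub i => exact (oc_pow hv).1 h
  | add i =>
    refine (oc_pow hv).1 (h.trans ?_)
    change (v ^ f) ^ i + 1 ∣ (v ^ f) ^ (2 * i) - 1
    rw [mul_comm, pow_mul]
    have h2 : 1 ≤ (v ^ f) ^ i := Nat.one_le_pow _ _ h1
    refine ⟨(v ^ f) ^ i - 1, ?_⟩
    have := Nat.sq_sub_sq ((v ^ f) ^ i) 1
    rw [one_pow] at this
    exact this
  | tri =>
    refine (oc_pow hv).1 (h.trans ?_)
    change (v ^ f) ^ 8 + (v ^ f) ^ 4 + 1 ∣ (v ^ f) ^ 12 - 1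
    refine ⟨(v ^ f) ^ 4 - 1, ?_⟩
    have h2 : 1 ≤ (v ^ f) ^ 4 := Nat.one_le_pow _ _ h1
    have h3 : 1 ≤ (v ^ f) ^ 12 := Nat.one_le_pow _ _ h1
    zify [h2, h3]
    ring

/-- the exponent of a prime of an exceptional group -/
theorem oc_exc {t : Fam} (ht : Exc t) {v f : ℕ} {S : Type u} [Group S] (hv : v.Prime) (h : Fam.Is v f S t) {x : ℕ}
    (hx : x.Prime) (hxv : x ≠ v) (hxS : x ∣ Nat.card S) : ∃ F ∈ t.facs, x ∣ F.val (v ^ f) ∧ oc v f x ∣ facE F := by
  obtain ⟨d, N, h1⟩ := exc_sh ht hv h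
  obtain ⟨F, hF, hFd⟩ := h1.exists_fac hv hx hxv hxS
  exact ⟨F, hF, hFd, oc_dvd_facE hv hFd⟩

/-- the order of `2 ^ f` modulo a Fermat prime -/
theorem oc_fermat {f x k : ℕ} (hx : x.Prime) (hx2 : x ≠ 2) (hk : x = 2 ^ k + 1) : ∃ j : ℕ, oc 2 f x = 2 ^ j := by
  have := Fact.mk hx
  have h2x : ((2 ^ f : ℕ) : ZMod x) ≠ 0 := by
    intro h0
    exact hx2 ((Nat.prime_dvd_prime_iff_eq hx Nat.prime_two).1 (hx.dvd_of_dvd_pow ((ZMod.natCast_eq_zero_iff _ _).1 h0)))
  have h1 : orderOf ((2 ^ f : ℕ) : ZMod x) ∣ x - 1 := ZMod.orderOf_dvd_card_sub_one h2x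
  have h2 : x - 1 = 2 ^ k := by rw [hk, Nat.add_sub_cancel]
  rw [h2] at h1
  obtain ⟨j, -, hj⟩ := (Nat.dvd_prime_pow Nat.prime_two).1 h1
  exact ⟨j, hj⟩

theorem pow_two_dvd {j m : ℕ} (hm : m ∈ ([1, 2, 3, 4, 5, 6, 8, 9, 10, 12, 14, 18, 20, 24, 30] : List ℕ)) (h : 2 ^ j ∣ m) :
    2 ^ j ∈ ([1, 2, 4, 8] : List ℕ) := by
  have hm0 : 0 < m := by
    rcases Nat.eq_zero_or_pos m with rfl | h0
    · exact absurd hm (by decide)
    · exact h0
  have hm30 : m ≤ 30 := by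
    simp only [List.mem_cons, List.not_mem_nil, or_false] at hm
    omega
  have hj : j < 5 := by
    by_contra hcon
    have h1 : 2 ^ 5 ≤ 2 ^ j := Nat.pow_le_pow_right (by norm_num) (by omega)
    have h2 := Nat.le_of_dvd hm0 h
    omega
  have key : ∀ m ∈ ([1, 2, 3, 4, 5, 6, 8, 9, 10, 12, 14, 18, 20, 24, 30] : List ℕ), ∀ j < 5, 2 ^ j ∣ m →
      2 ^ j ∈ ([1, 2, 4, 8] : List ℕ) := by decide
  exact key m hm j hj h

section frame

variable {G : Type u} [Group G] [Finite G] {K : Subgroup G} [K.Normal] {S : Subgroup (G ⧸ K)} [S.Normal] {t' : Fam}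
  {v f' : ℕ}

theorem dvd_card_of_order {S : Type*} [Group S] {x v : ℕ} (h : ∃ g : S, orderOf g = x * v) : x ∣ Nat.card S := by
  obtain ⟨g, hg⟩ := h
  exact (Dvd.intro _ hg.symm).trans (orderOf_dvd_natCard g)

/-- Fermat primes adjacent to `2` are moved -/
theorem fermat_mem {t : Fam} (ht : Exc t) (htf : t ≠ .tf4) {f : ℕ} {S : Type u} [Group S]
    (h : Fam.Is 2 f S t) {x : ℕ} (hx : x.Prime) (hx5 : 5 ≤ x) (hk : ∃ k : ℕ, x = 2 ^ k + 1)
    (hg : ∃ g : S, orderOf g = x * 2) : oc 2 f x ∈ mvc t := by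
  obtain ⟨k, hk⟩ := hk
  obtain ⟨j, hj⟩ := oc_fermat (f := f) hx (by omega) hk
  have hxS := dvd_card_of_order hg
  obtain ⟨F, hF, hFd, hoc⟩ := oc_exc ht Nat.prime_two h hx (by omega) hxS
  have h48 : ∀ F ∈ t.facs, facE F ∈ ([1, 2, 3, 4, 5, 6, 8, 9, 10, 12, 14, 18, 20, 24, 30] : List ℕ) → 
      2 ^ j ∣ facE F → oc 2 f x ∈ ([1, 2, 4, 8] : List ℕ) := fun F _ h1 h2 => by
    rw [hj]
    exact pow_two_dvd h1 h2
  rw [hj] at hoc
  cases t with
  | g2 =>
    have h1 : ∀ F ∈ Fam.g2.facs, facE F ∣ 6 := by decide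
    have h2 : 2 ^ j ∣ 6 := hoc.trans (h1 F hF)
    have h3 := pow_two_dvd (by decide) h2
    rw [hj]
    simp only [List.mem_cons, List.not_mem_nil, or_false] at h3
    rcases h3 with h3 | h3 | h3 | h3 <;> rw [h3] at h2 ⊢
    · decide
    · decide
    · omega
    · omega
  | f4 =>
    have h1 : ∀ F ∈ Fam.f4.facs, facE F ∈ ([1, 2, 3, 4, 5, 6, 8, 9, 10, 12, 14, 18, 20, 24, 30] : List ℕ) := by decide
    have h3 := pow_two_dvd (h1 F hF) hoc
    rw [hj]
    simp only [List.mem_cons, List.not_mem_nil, or_false] at h3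
    rcases h3 with h3 | h3 | h3 | h3
    · rw [h3]; decide
    · rw [h3]; decide
    · rw [h3]; decide
    · exfalso
      rw [h3] at hj
      obtain ⟨E, _, _, _, hE, ⟨e⟩⟩ := h
      have hf1 : f ≠ 0 := by
        rintro rfl
        rw [pow_zero] at hE
        have := Fintype.one_lt_card (α := E)
        omega
      have heven : Even (Fintype.card E) := by
        rw [hE]
        exact (by decide : Even 2).pow_of_ne_zero hf1
      have hiz := Cfsg.Agent.H224.F4R.iz8_even heven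
      obtain ⟨g, hg⟩ := hg
      have h4 : orderOf (e g) = x * 2 := by rw [MulEquiv.orderOf_eq, hg]
      have h5 : x ∣ Fintype.card E ^ 4 + 1 := by
        rw [hE]
        have h6 : x ∣ (2 ^ f) ^ 8 - 1 := (oc_pow Nat.prime_two).2 (by rw [hj])
        have h7 : ¬ x ∣ (2 ^ f) ^ 4 - 1 := fun h7 => by
          have := (oc_pow Nat.prime_two).1 h7
          rw [hj] at this
          omega
        have h8 : (2 ^ f) ^ 8 - 1 = ((2 ^ f) ^ 4 + 1) * ((2 ^ f) ^ 4 - 1) := by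
          have := Nat.sq_sub_sq ((2 ^ f) ^ 4) 1
          rw [one_pow, ← pow_mul] at this
          exact this
        rw [h8] at h6
        exact (hx.dvd_mul.1 h6).resolve_right h7
      have h6 := hiz.iso (e g) x hx h5 (by rw [h4]; exact dvd_mul_right _ _)
      rw [h4] at h6
      exact hiz.not_two_dvd ((dvd_mul_left 2 x).trans h6)
  | e6 =>
    have h1 : ∀ F ∈ Fam.e6.facs, facE F ∈ ([1, 2, 3, 4, 5, 6, 8, 9, 10, 12, 14, 18, 20, 24, 30] : List ℕ) := by decide
    have h3 := pow_two_dvd (h1 F hF) hoc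
    rw [hj]
    simp only [List.mem_cons, List.not_mem_nil, or_false] at h3
    rcases h3 with h3 | h3 | h3 | h3 <;> rw [h3] <;> decide
  | e7 =>
    have h1 : ∀ F ∈ Fam.e7.facs, facE F ∈ ([1, 2, 3, 4, 5, 6, 8, 9, 10, 12, 14, 18, 20, 24, 30] : List ℕ) := by decide
    have h3 := pow_two_dvd (h1 F hF) hoc
    rw [hj]
    simp only [List.mem_cons, List.not_mem_nil, or_false] at h3
    rcases h3 with h3 | h3 | h3 | h3 <;> rw [h3] <;> decide
  | e8 =>
    have h1 : ∀ F ∈ Fam.e8.facs, facE F ∈ ([1, 2, 3, 4, 5, 6, 8, 9, 10, 12, 14, 18, 20, 24, 30] : List ℕ) := by decide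
    have h3 := pow_two_dvd (h1 F hF) hoc
    rw [hj]
    simp only [List.mem_cons, List.not_mem_nil, or_false] at h3
    rcases h3 with h3 | h3 | h3 | h3 <;> rw [h3] <;> decide
  | te6 =>
    have h1 : ∀ F ∈ Fam.te6.facs, facE F ∈ ([1, 2, 3, 4, 5, 6, 8, 9, 10, 12, 14, 18, 20, 24, 30] : List ℕ) := by decide
    have h3 := pow_two_dvd (h1 F hF) hoc
    rw [hj]
    simp only [List.mem_cons, List.not_mem_nil, or_false] at h3
    rcases h3 with h3 | h3 | h3 | h3 <;> rw [h3] <;> decide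
  | td4 =>
    have h1 : ∀ F ∈ Fam.td4.facs, facE F ∣ 12 := by decide
    have h2 : 2 ^ j ∣ 12 := hoc.trans (h1 F hF)
    have h3 := pow_two_dvd (by decide) h2
    rw [hj]
    simp only [List.mem_cons, List.not_mem_nil, or_false] at h3
    rcases h3 with h3 | h3 | h3 | h3
    · rw [h3]; decide
    · rw [h3]; decide
    · exfalso
      rw [h3] at hj hoc
      have h7 : ∀ i, ¬ 4 ∣ i → ¬ x ∣ (2 ^ f) ^ i - 1 := fun i hi hd => by
        have := (oc_pow Nat.prime_two).1 hd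
        rw [hj] at this
        exact hi this
      simp only [Fam.facs, List.mem_cons, List.not_mem_nil, or_false] at hF
      rcases hF with rfl | rfl | rfl
      · exact h7 2 (by norm_num) hFd
      · exact h7 6 (by norm_num) hFd
      · have h8 : x ∣ (2 ^ f) ^ 8 + (2 ^ f) ^ 4 + 1 := hFd
        have h4 : x ∣ (2 ^ f) ^ 4 - 1 := (oc_pow Nat.prime_two).2 (by rw [hj])
        have h9 : x ∣ 3 := by
          have h10 := (ZMod.natCast_eq_zero_iff _ _).2 h8
          have h11 := (ZMod.natCast_eq_zero_iff _ _).2 h4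
          rw [← ZMod.natCast_eq_zero_iff]
          rw [Nat.cast_sub (Nat.one_le_pow _ _ (pow_pos (by norm_num) _)), Nat.cast_one, sub_eq_zero, Nat.cast_pow] at h11
          push_cast at h10 h11 ⊢
          have h12 : ((2 : ZMod x) ^ f) ^ 8 = 1 := by
            rw [show ((2 : ZMod x) ^ f) ^ 8 = (((2 : ZMod x) ^ f) ^ 4) ^ 2 by ring, h11, one_pow]
          rw [h12, h11] at h10
          rw [← h10]
          norm_num
        have := Nat.le_of_dvd (by norm_num) h9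
        omega
    · rw [h3] at h2
      omega
  | sz => exact absurd hg (sz_isol h hx (by omega))
  | ree =>
    obtain ⟨hv3, -⟩ := h
    omega
  | tf4 => exact absurd rfl htf
  | psl n => exact ht.elim
  | psp n => exact ht.elim
  | psu n => exact ht.elim
  | oodd n => exact ht.elim
  | oplus n => exact ht.elim
  | ominus n => exact ht.elim

/-- **Primes of the radical and primes adjacent to the characteristic.** -/
theorem ExFrm.kadj_adj (h : ExFrm G K S t' v f') (htf : t' ≠ .tf4) {r x : ℕ} (hr : r.Prime) (hrK : r ∣ Nat.card K)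
    (hrv : r ≠ v) (hx : x.Prime) (hx5 : 5 ≤ x) (hxv : x ≠ v) (hxr : x ≠ r) (hg : ∃ g : S, orderOf g = x * v) :
    ∃ g : G, orderOf g = r * x := by
  by_contra hna
  rcases h.kcase hr hrK hrv hx (by omega) hxr hna with h1 | h1 | ⟨rfl, h1⟩ | h1
  · exact hxv h1
  · exact h1 hg
  · exact hna (h.kadj_cls hr hrK hrv hx hx5 hxv hxr (fermat_mem h.exc htf h.is hx hx5 h1 hg))
  · exact htf h1

end frame

end Cfsg.Agent.R2.Spec.F1
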