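import Cfsg.Agent.R2.Spec.F1.MovTF4
import Cfsg.Agent.R2.Spec.F1.ExcKA

/-!
# Primes of the radical and primes adjacent to the characteristic, all exceptional families (helper26)

`ExFrm.kadj_all` : `r ∣ |K|`, `r ≠ v`, `x ≥ 5` adjacent to `v` in `S`: `G` has elements of order `r x`.
-/

set_option autoImplicit false
set_option linter.unusedSectionVars false
set_option linter.unusedVariables false

namespace Cfsg.Agent.R2.Spec.F1

open Subgroup Cfsg
open Cfsg.Agent.H426.LieFam Cfsg.Agent.R2.Spec Cfsg.Agent.R2.Spec.P1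

universe u w

variable {G : Type u} [Group G] [Finite G] {K : Subgroup G} [K.Normal] {S : Subgroup (G ⧸ K)} [S.Normal] {t' : Fam}
  {v f' : ℕ}

/-- **Primes of the radical and primes adjacent to the characteristic, `²F₄`.** -/
theorem ExFrm.kadj_tf4 (h : ExFrm G K S .tf4 v f') {r x : ℕ} (hr : r.Prime) (hrK : r ∣ Nat.card K)
    (hrv : r ≠ v) (hx : x.Prime) (hx2 : x ≠ 2) (hxr : x ≠ r) (hg : ∃ g : S, orderOf g = x * v) :
    ∃ g : G, orderOf g = r * x := by
  obtain ⟨rfl, -⟩ := id h.is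
  exact h.kadj hr hrK hrv hx hx2 hx2 hxr (movA_tf4 h.is hx hx2 hg).movW

/-- **Primes of the radical and primes adjacent to the characteristic.** -/
theorem ExFrm.kadj_all (h : ExFrm G K S t' v f') {r x : ℕ} (hr : r.Prime) (hrK : r ∣ Nat.card K)
    (hrv : r ≠ v) (hx : x.Prime) (hx5 : 5 ≤ x) (hxv : x ≠ v) (hxr : x ≠ r) (hg : ∃ g : S, orderOf g = x * v) :
    ∃ g : G, orderOf g = r * x := by
  by_cases htf : t' = .tf4
  · subst htf
    exact h.kadj_tf4 hr hrK hrv hx (by omega) hxr hg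
  · exact h.kadj_adj htf hr hrK hrv hx hx5 hxv hxr hg

end Cfsg.Agent.R2.Spec.F1
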