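import Mathlib

/-!
# Congruences between cyclotomic numbers (helper23)

`HC X r l` : the primes `y` such that `X` has order `l` modulo `y` are congruent to 1 modulo `r`.

Consequences for `a = (X : ZMod r)`:

* `hc_two` : `l = 2 ^ (k + 1)`, `1 ≤ k` : `a ^ (2 ^ k)` is 0 or 1;
* `hc_three` : `l = 3 * 2 ^ (k + 1)`, `1 ≤ k` : `a ^ (2 ^ k)` is 0 or 1;
* `hc_five` : `l = 5 * 2 ^ (k + 1)`, `2 ≤ k` : `a ^ (2 ^ k)` is 0 or `a ^ (2 ^ (k + 2)) = 1`;
* `hc_pow_three` : `l = 3 ^ (n + 1)` : `w ^ 2 + w` is 0 or 2, `w = a ^ 3 ^ n`;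
* `hc_two_pow_three` : `l = 2 * 3 ^ (n + 1)` : `w ^ 2 - w` is 0 or 2, `w = a ^ 3 ^ n`;
* `hc_5`, `hc_10`.
-/

set_option autoImplicit false
set_option linter.unusedSectionVars false

namespace Cfsg.Agent.R2.Spec.F1

/-- the primes modulo which `X` has order `l` are congruent to 1 modulo `r` -/
def HC (X : ℤ) (r l : ℕ) : Prop := ∀ y : ℕ, y.Prime → orderOf (X : ZMod y) = l → y % r = 1

theorem cast_one_of_mod {y r : ℕ} (hr : 1 < r) (h : y % r = 1) : ((y : ℕ) : ZMod r) = 1 := by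
  have h1 : y % r = 1 % r := by rw [h, Nat.mod_eq_of_lt hr]
  have h2 := (ZMod.natCast_eq_natCast_iff' y 1 r).2 h1
  rwa [Nat.cast_one] at h2

theorem cast_eq_one {N r : ℕ} (hr : 1 < r) (hN : N ≠ 0) (h : ∀ y : ℕ, y.Prime → y ∣ N → y % r = 1) :
    ((N : ℕ) : ZMod r) = 1 := by
  induction N using Nat.recOnMul with
  | zero => exact absurd rfl hN
  | one => exact Nat.cast_one
  | prime p hp => exact cast_one_of_mod hr (h p hp dvd_rfl)
  | mul a b ha hb =>
    have ha0 : a ≠ 0 := fun h0 => hN (by rw [h0, zero_mul])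
    have hb0 : b ≠ 0 := fun h0 => hN (by rw [h0, mul_zero])
    rw [Nat.cast_mul, ha ha0 fun y hy hd => h y hy (hd.mul_right _), hb hb0 fun y hy hd => h y hy (hd.mul_left _),
      one_mul]

/-- one prime factor `s`, not its square -/
theorem cast_eq_of {N r s : ℕ} (hr : 1 < r) (hs : s.Prime) (hN : N ≠ 0) (hs2 : ¬ s ^ 2 ∣ N)
    (h : ∀ y : ℕ, y.Prime → y ≠ s → y ∣ N → y % r = 1) : ((N : ℕ) : ZMod r) = 1 ∨ ((N : ℕ) : ZMod r) = s := by
  by_cases hd : s ∣ N
  · obtain ⟨M, rfl⟩ := hd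
    have hM : M ≠ 0 := fun h0 => hN (by rw [h0, mul_zero])
    have hsM : ¬ s ∣ M := by
      rintro ⟨c, rfl⟩
      exact hs2 ⟨c, by ring⟩
    right
    rw [Nat.cast_mul, cast_eq_one hr hM (fun y hy hyM => h y hy (by rintro rfl; exact hsM hyM) (hyM.mul_left _)), mul_one]
  · left
    exact cast_eq_one hr hN fun y hy hyN => h y hy (by rintro rfl; exact hd hyN) hyN

variable {X : ℤ} {r : ℕ}

/-- the value as a natural number -/
theorem exists_sq (X : ℤ) {k : ℕ} (hk : 1 ≤ k) : ∃ s : ℕ, X ^ 2 ^ k = ((s ^ 2 : ℕ) : ℤ) ∧ (2 ≤ k → ∃ t, s = t ^ 2) := by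
  obtain ⟨j, rfl⟩ : ∃ j, k = j + 1 := ⟨k - 1, by omega⟩
  refine ⟨(X.natAbs) ^ 2 ^ j, ?_, ?_⟩
  · push_cast
    rw [← pow_mul, ← pow_succ, pow_succ' 2 j, pow_mul, pow_mul, sq_abs]
  · intro h
    obtain ⟨i, rfl⟩ : ∃ i, j = i + 1 := ⟨j - 1, by omega⟩
    exact ⟨X.natAbs ^ 2 ^ i, by rw [← pow_mul, ← pow_succ]⟩

theorem z2a : ∀ a : ZMod 2, a ^ 4 - a ^ 2 + 1 ≠ 0 := by decide

theorem z3a : ∀ a : ZMod 3, a ^ 4 - a ^ 2 + 1 ≠ 0 := by decide

theorem z2b : ∀ a : ZMod 2, a ^ 16 - a ^ 12 + a ^ 8 - a ^ 4 + 1 ≠ 0 := by decide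

theorem z5b : ∀ a : ZMod 5, a ^ 16 - a ^ 12 + a ^ 8 - a ^ 4 + 1 ≠ 0 := by decide

theorem hc_two (hr : 1 < r) {k : ℕ} (hk : 1 ≤ k) (h : HC X r (2 ^ (k + 1))) :
    (X : ZMod r) ^ 2 ^ k = 0 ∨ (X : ZMod r) ^ 2 ^ k = 1 := by
  obtain ⟨s, hs, -⟩ := exists_sq X hk
  have hcast : ∀ m : ℕ, (X : ZMod m) ^ 2 ^ k = ((s ^ 2 : ℕ) : ZMod m) := fun m => by
    have h1 := congrArg (fun z : ℤ => (z : ZMod m)) hs
    push_cast at h1 ⊢
    exact h1
  have h1 : ((s ^ 2 + 1 : ℕ) : ZMod r) = 1 ∨ ((s ^ 2 + 1 : ℕ) : ZMod r) = (2 : ℕ) := by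
    refine cast_eq_of hr Nat.prime_two (by positivity) ?_ ?_
    · intro hd
      have h2 : s % 4 = 0 ∨ s % 4 = 1 ∨ s % 4 = 2 ∨ s % 4 = 3 := by omega
      have h3 : (s ^ 2 + 1) % 4 = 0 := Nat.mod_eq_zero_of_dvd (by simpa using hd)
      rcases h2 with h | h | h | h <;> simp [pow_two, Nat.add_mod, Nat.mul_mod, h] at h3
    · intro y hy hy2 hd
      have := Fact.mk hy
      refine h y hy (orderOf_eq_prime_pow ?_ ?_)
      · rw [hcast y]
        intro h2
        rw [← ZMod.natCast_eq_zero_iff] at hd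
        push_cast at hd h2
        rw [h2] at hd
        have h3 : ((2 : ℕ) : ZMod y) = 0 := by push_cast; linear_combination hd
        rw [ZMod.natCast_eq_zero_iff] at h3
        exact hy2 ((Nat.prime_dvd_prime_iff_eq hy Nat.prime_two).1 h3)
      · rw [pow_succ, pow_mul, hcast y]
        rw [← ZMod.natCast_eq_zero_iff] at hd
        push_cast at hd ⊢
        linear_combination ((s : ZMod y) ^ 2 - 1) * hd
  rw [hcast r]
  push_cast at h1 ⊢
  rcases h1 with h1 | h1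
  · left; linear_combination h1
  · right; linear_combination h1

theorem hc_three (hr : 1 < r) {k : ℕ} (hk : 1 ≤ k) (h : HC X r (3 * 2 ^ (k + 1))) :
    (X : ZMod r) ^ 2 ^ k * ((X : ZMod r) ^ 2 ^ k - 1) = 0 := by
  obtain ⟨s, hs, -⟩ := exists_sq X hk
  have hcast : ∀ m : ℕ, (X : ZMod m) ^ 2 ^ k = ((s ^ 2 : ℕ) : ZMod m) := fun m => by
    have h1 := congrArg (fun z : ℤ => (z : ZMod m)) hs
    push_cast at h1 ⊢
    exact h1
  obtain ⟨N, hN⟩ : ∃ N : ℕ, N + s ^ 2 = s ^ 4 + 1 := by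
    refine ⟨s ^ 4 + 1 - s ^ 2, ?_⟩
    have : s ^ 2 ≤ s ^ 4 + 1 := by
      rcases Nat.eq_zero_or_pos s with h0 | h0
      · rw [h0]; norm_num
      · have := Nat.pow_le_pow_right h0 (show 2 ≤ 4 by norm_num)
        omega
    omega
  have hNc : ∀ m : ℕ, (N : ZMod m) = (s : ZMod m) ^ 4 - (s : ZMod m) ^ 2 + 1 := fun m => by
    have h1 := congrArg (fun z : ℕ => (z : ZMod m)) hN
    push_cast at h1
    linear_combination h1
  have h1 : (N : ZMod r) = 1 := by
    have hN0 : N ≠ 0 := by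
      rintro rfl
      rw [zero_add] at hN
      rcases Nat.lt_or_ge s 2 with h2 | h2
      · interval_cases s <;> omega
      · have : s ^ 2 < s ^ 4 := Nat.pow_lt_pow_right (by omega) (by norm_num)
        omega
    refine cast_eq_one hr hN0 ?_
    intro y hy hd
    have := Fact.mk hy
    have hy0 : (s : ZMod y) ^ 4 - (s : ZMod y) ^ 2 + 1 = 0 := by
      rw [← hNc y]
      exact (ZMod.natCast_eq_zero_iff _ _).2 hd
    have hy2 : y ≠ 2 := by
      rintro rfl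
      exact z2a _ hy0
    have hy3 : y ≠ 3 := by
      rintro rfl
      exact z3a _ hy0
    have hy2' : (2 : ZMod y) ≠ 0 := by
      intro h2
      have h3 : ((2 : ℕ) : ZMod y) = 0 := by push_cast; exact h2
      rw [ZMod.natCast_eq_zero_iff] at h3
      exact hy2 ((Nat.prime_dvd_prime_iff_eq hy Nat.prime_two).1 h3)
    have hy3' : (3 : ZMod y) ≠ 0 := by
      intro h2
      have h3 : ((3 : ℕ) : ZMod y) = 0 := by push_cast; exact h2
      rw [ZMod.natCast_eq_zero_iff] at h3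
      exact hy3 ((Nat.prime_dvd_prime_iff_eq hy Nat.prime_three).1 h3)
    obtain ⟨z, hz⟩ : ∃ z : ZMod y, z = (s : ZMod y) ^ 2 := ⟨_, rfl⟩
    have hz0 : z ^ 2 - z + 1 = 0 := by rw [hz]; linear_combination hy0
    have hXz : (X : ZMod y) ^ 2 ^ k = z := by rw [hcast y, hz]; push_cast; rfl
    refine h y hy (orderOf_eq_of_pow_and_pow_div_prime (by positivity) ?_ ?_)
    · rw [pow_succ, show 3 * (2 ^ k * 2) = 2 ^ k * 6 by ring, pow_mul, hXz]
      linear_combination (z ^ 4 + z ^ 3 - z - 1) * hz0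
    · intro p hp hpd
      have hp' : p = 2 ∨ p = 3 := by
        rcases hp.dvd_mul.1 hpd with h2 | h2
        · right; exact (Nat.prime_dvd_prime_iff_eq hp Nat.prime_three).1 h2
        · left; exact (Nat.prime_dvd_prime_iff_eq hp Nat.prime_two).1 (hp.dvd_of_dvd_pow h2)
      rcases hp' with rfl | rfl
      · rw [show 3 * 2 ^ (k + 1) / 2 = 2 ^ k * 3 by rw [pow_succ]; omega, pow_mul, hXz]
        intro h2
        apply hy2'
        linear_combination (z + 1) * hz0 - h2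
      · rw [show 3 * 2 ^ (k + 1) / 3 = 2 ^ k * 2 by rw [pow_succ]; omega, pow_mul, hXz]
        intro h2
        -- `z = 2`, `3 = 0`
        have h3 : z = 2 := by linear_combination h2 - hz0
        apply hy3'
        rw [h3] at hz0
        linear_combination hz0
  rw [hcast r]
  rw [hNc r] at h1
  push_cast
  linear_combination h1

theorem hc_five (hr : 1 < r) {k : ℕ} (hk : 2 ≤ k) (h : HC X r (5 * 2 ^ (k + 1))) :
    (X : ZMod r) ^ 2 ^ k * ((X : ZMod r) ^ 2 ^ k - 1) * (((X : ZMod r) ^ 2 ^ k) ^ 2 + 1) = 0 := by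
  obtain ⟨s, hs, ht⟩ := exists_sq X (show 1 ≤ k by omega)
  obtain ⟨t, rfl⟩ := ht hk
  have hcast : ∀ m : ℕ, (X : ZMod m) ^ 2 ^ k = ((t ^ 4 : ℕ) : ZMod m) := fun m => by
    have h1 := congrArg (fun z : ℤ => (z : ZMod m)) hs
    push_cast at h1 ⊢
    rw [h1]
    ring
  obtain ⟨N, hN⟩ : ∃ N : ℕ, N + (t ^ 12 + t ^ 4) = t ^ 16 + t ^ 8 + 1 := by
    refine ⟨t ^ 16 + t ^ 8 + 1 - (t ^ 12 + t ^ 4), ?_⟩
    have h1 : t ^ 12 ≤ t ^ 16 := by
      rcases Nat.eq_zero_or_pos t with h0 | h0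
      · rw [h0]; norm_num
      · exact Nat.pow_le_pow_right h0 (by norm_num)
    have h2 : t ^ 4 ≤ t ^ 8 := by
      rcases Nat.eq_zero_or_pos t with h0 | h0
      · rw [h0]; norm_num
      · exact Nat.pow_le_pow_right h0 (by norm_num)
    omega
  have hNc : ∀ m : ℕ, (N : ZMod m) = (t : ZMod m) ^ 16 - (t : ZMod m) ^ 12 + (t : ZMod m) ^ 8 - (t : ZMod m) ^ 4 + 1 :=
    fun m => by
    have h1 := congrArg (fun z : ℕ => (z : ZMod m)) hN
    push_cast at h1
    linear_combination h1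
  have h1 : (N : ZMod r) = 1 := by
    have hN0 : N ≠ 0 := by
      rintro rfl
      rw [zero_add] at hN
      rcases Nat.lt_or_ge t 2 with h2 | h2
      · interval_cases t <;> omega
      · have h3 : t ^ 12 < t ^ 16 := Nat.pow_lt_pow_right (by omega) (by norm_num)
        have h4 : t ^ 4 < t ^ 8 := Nat.pow_lt_pow_right (by omega) (by norm_num)
        omega
    refine cast_eq_one hr hN0 ?_
    intro y hy hd
    have := Fact.mk hy
    have hy0 : (t : ZMod y) ^ 16 - (t : ZMod y) ^ 12 + (t : ZMod y) ^ 8 - (t : ZMod y) ^ 4 + 1 = 0 := by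
      rw [← hNc y]
      exact (ZMod.natCast_eq_zero_iff _ _).2 hd
    have hy2 : y ≠ 2 := by
      rintro rfl
      exact z2b _ hy0
    have hy5 : y ≠ 5 := by
      rintro rfl
      exact z5b _ hy0
    have hy2' : (2 : ZMod y) ≠ 0 := by
      intro h2
      have h3 : ((2 : ℕ) : ZMod y) = 0 := by push_cast; exact h2
      rw [ZMod.natCast_eq_zero_iff] at h3
      exact hy2 ((Nat.prime_dvd_prime_iff_eq hy Nat.prime_two).1 h3)
    have hy5' : (5 : ZMod y) ≠ 0 := by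
      intro h2
      have h3 : ((5 : ℕ) : ZMod y) = 0 := by push_cast; exact h2
      rw [ZMod.natCast_eq_zero_iff] at h3
      exact hy5 ((Nat.prime_dvd_prime_iff_eq hy Nat.prime_five).1 h3)
    obtain ⟨z, hz⟩ : ∃ z : ZMod y, z = (t : ZMod y) ^ 4 := ⟨_, rfl⟩
    have hz0 : z ^ 4 - z ^ 3 + z ^ 2 - z + 1 = 0 := by rw [hz]; linear_combination hy0
    have hXz : (X : ZMod y) ^ 2 ^ k = z := by rw [hcast y, hz]; push_cast; rfl
    refine h y hy (orderOf_eq_of_pow_and_pow_div_prime (by positivity) ?_ ?_)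
    · rw [pow_succ, show 5 * (2 ^ k * 2) = 2 ^ k * 10 by ring, pow_mul, hXz]
      linear_combination (z ^ 5 - 1) * (z + 1) * hz0
    · intro p hp hpd
      have hp' : p = 2 ∨ p = 5 := by
        rcases hp.dvd_mul.1 hpd with h2 | h2
        · right; exact (Nat.prime_dvd_prime_iff_eq hp Nat.prime_five).1 h2
        · left; exact (Nat.prime_dvd_prime_iff_eq hp Nat.prime_two).1 (hp.dvd_of_dvd_pow h2)
      rcases hp' with rfl | rfl
      · rw [show 5 * 2 ^ (k + 1) / 2 = 2 ^ k * 5 by rw [pow_succ]; omega, pow_mul, hXz]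
        intro h2
        apply hy2'
        linear_combination (z + 1) * hz0 - h2
      · rw [show 5 * 2 ^ (k + 1) / 5 = 2 ^ k * 2 by rw [pow_succ]; omega, pow_mul, hXz]
        intro h2
        -- `2 z = 3`, so `9 = 4`
        have h3 : 2 * z = 3 := by linear_combination -hz0 + (z ^ 2 - z + 2) * h2
        apply hy5'
        linear_combination -(2 * z + 3) * h3 + 4 * h2
  rw [hcast r]
  rw [hNc r] at h1
  push_cast
  linear_combination h1

/-- `w ^ 2 + w + 1` as a natural number -/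
theorem exists_tri (w : ℤ) : ∃ N : ℕ, (N : ℤ) = w ^ 2 + w + 1 ∧ N ≠ 0 ∧ ¬ 3 ^ 2 ∣ N ∧ ¬ 2 ∣ N := by
  have hpos : 0 < w ^ 2 + w + 1 := by nlinarith [sq_nonneg (2 * w + 1)]
  refine ⟨(w ^ 2 + w + 1).natAbs, by rw [Int.natAbs_of_nonneg hpos.le], by omega, ?_, ?_⟩
  · intro hd
    have h1 : ((3 ^ 2 : ℕ) : ℤ) ∣ w ^ 2 + w + 1 := by
      rw [← Int.natAbs_of_nonneg hpos.le]
      exact Int.natCast_dvd_natCast.2 hd
    have h2 : ((w : ZMod 9)) ^ 2 + (w : ZMod 9) + 1 = 0 := by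
      have h3 := (ZMod.intCast_zmod_eq_zero_iff_dvd (w ^ 2 + w + 1) 9).2 (by simpa using h1)
      push_cast at h3
      exact h3
    have : ∀ a : ZMod 9, a ^ 2 + a + 1 ≠ 0 := by decide
    exact this _ h2
  · intro hd
    have h1 : ((2 : ℕ) : ℤ) ∣ w ^ 2 + w + 1 := by
      rw [← Int.natAbs_of_nonneg hpos.le]
      exact Int.natCast_dvd_natCast.2 hd
    have h2 : ((w : ZMod 2)) ^ 2 + (w : ZMod 2) + 1 = 0 := by
      have h3 := (ZMod.intCast_zmod_eq_zero_iff_dvd (w ^ 2 + w + 1) 2).2 (by simpa using h1)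
      push_cast at h3
      exact h3
    have : ∀ a : ZMod 2, a ^ 2 + a + 1 ≠ 0 := by decide
    exact this _ h2

theorem ne_zero_of {y s : ℕ} (hy : y.Prime) (hs : s.Prime) (h : y ≠ s) : ((s : ℕ) : ZMod y) ≠ 0 := by
  intro h2
  rw [ZMod.natCast_eq_zero_iff] at h2
  exact h ((Nat.prime_dvd_prime_iff_eq hy hs).1 h2)

theorem hc_pow_three (hr : 1 < r) {n : ℕ} (h : HC X r (3 ^ (n + 1))) :
    ((X : ZMod r) ^ 3 ^ n) ^ 2 + (X : ZMod r) ^ 3 ^ n = 0 ∨ ((X : ZMod r) ^ 3 ^ n) ^ 2 + (X : ZMod r) ^ 3 ^ n = 2 := by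
  obtain ⟨N, hN, hN0, hN9, hN2⟩ := exists_tri (X ^ 3 ^ n)
  have hNc : ∀ m : ℕ, (N : ZMod m) = ((X : ZMod m) ^ 3 ^ n) ^ 2 + (X : ZMod m) ^ 3 ^ n + 1 := fun m => by
    have h1 := congrArg (fun z : ℤ => (z : ZMod m)) hN
    push_cast at h1
    exact h1
  have h1 := cast_eq_of hr Nat.prime_three hN0 hN9 (by
    intro y hy hy3 hd
    have := Fact.mk hy
    have h3 := ne_zero_of hy Nat.prime_three hy3
    push_cast at h3
    have h0 := (ZMod.natCast_eq_zero_iff N y).2 hd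
    rw [hNc y] at h0
    refine h y hy (orderOf_eq_prime_pow ?_ ?_)
    · intro h2
      rw [h2] at h0
      apply h3
      linear_combination h0
    · rw [pow_succ, pow_mul]
      linear_combination ((X : ZMod y) ^ 3 ^ n - 1) * h0)
  rw [hNc r] at h1
  push_cast at h1
  rcases h1 with h1 | h1
  · left; linear_combination h1
  · right; linear_combination h1

theorem hc_two_pow_three (hr : 1 < r) {n : ℕ} (h : HC X r (2 * 3 ^ (n + 1))) :
    ((X : ZMod r) ^ 3 ^ n) ^ 2 - (X : ZMod r) ^ 3 ^ n = 0 ∨ ((X : ZMod r) ^ 3 ^ n) ^ 2 - (X : ZMod r) ^ 3 ^ n = 2 := by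
  obtain ⟨N, hN, hN0, hN9, hN2⟩ := exists_tri (-(X ^ 3 ^ n))
  have hNc : ∀ m : ℕ, (N : ZMod m) = ((X : ZMod m) ^ 3 ^ n) ^ 2 - (X : ZMod m) ^ 3 ^ n + 1 := fun m => by
    have h1 := congrArg (fun z : ℤ => (z : ZMod m)) hN
    push_cast at h1
    rw [h1]
    ring
  have h1 := cast_eq_of hr Nat.prime_three hN0 hN9 (by
    intro y hy hy3 hd
    have := Fact.mk hy
    have h3 := ne_zero_of hy Nat.prime_three hy3
    have hy2 : y ≠ 2 := by
      rintro rfl
      exact hN2 hd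
    have h2' := ne_zero_of hy Nat.prime_two hy2
    push_cast at h3 h2'
    have h0 := (ZMod.natCast_eq_zero_iff N y).2 hd
    rw [hNc y] at h0
    obtain ⟨z, hz⟩ : ∃ z : ZMod y, z = (X : ZMod y) ^ 3 ^ n := ⟨_, rfl⟩
    rw [← hz] at h0
    refine h y hy (orderOf_eq_of_pow_and_pow_div_prime (by positivity) ?_ ?_)
    · rw [pow_succ, show 2 * (3 ^ n * 3) = 3 ^ n * 6 by ring, pow_mul, ← hz]
      linear_combination (z ^ 4 + z ^ 3 - z - 1) * h0
    · intro p hp hpd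
      have hp' : p = 2 ∨ p = 3 := by
        rcases hp.dvd_mul.1 hpd with h2 | h2
        · left; exact (Nat.prime_dvd_prime_iff_eq hp Nat.prime_two).1 h2
        · right; exact (Nat.prime_dvd_prime_iff_eq hp Nat.prime_three).1 (hp.dvd_of_dvd_pow h2)
      rcases hp' with rfl | rfl
      · rw [show 2 * 3 ^ (n + 1) / 2 = 3 ^ n * 3 by rw [pow_succ]; omega, pow_mul, ← hz]
        intro h2
        apply h2'
        linear_combination (z + 1) * h0 - h2
      · rw [show 2 * 3 ^ (n + 1) / 3 = 3 ^ n * 2 by rw [pow_succ]; omega, pow_mul, ← hz]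
        intro h2
        have h4 : z = 2 := by linear_combination h2 - h0
        apply h3
        rw [h4] at h0
        linear_combination h0)
  rw [hNc r] at h1
  push_cast at h1
  rcases h1 with h1 | h1
  · left; linear_combination h1
  · right; linear_combination h1

/-- `w ^ 4 + w ^ 3 + w ^ 2 + w + 1` as a natural number -/
theorem exists_quint (w : ℤ) : ∃ N : ℕ, (N : ℤ) = w ^ 4 + w ^ 3 + w ^ 2 + w + 1 ∧ N ≠ 0 ∧ ¬ 5 ^ 2 ∣ N ∧ ¬ 2 ∣ N := by
  have hpos : 0 < w ^ 4 + w ^ 3 + w ^ 2 + w + 1 := by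
    nlinarith [sq_nonneg (2 * w ^ 2 + w), sq_nonneg (w + 1), sq_nonneg w, sq_nonneg (w + 2)]
  refine ⟨(w ^ 4 + w ^ 3 + w ^ 2 + w + 1).natAbs, by rw [Int.natAbs_of_nonneg hpos.le], by omega, ?_, ?_⟩
  · intro hd
    have h1 : ((5 ^ 2 : ℕ) : ℤ) ∣ w ^ 4 + w ^ 3 + w ^ 2 + w + 1 := by
      rw [← Int.natAbs_of_nonneg hpos.le]
      exact Int.natCast_dvd_natCast.2 hd
    have h2 : ((w : ZMod 25)) ^ 4 + (w : ZMod 25) ^ 3 + (w : ZMod 25) ^ 2 + (w : ZMod 25) + 1 = 0 := by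
      have h3 := (ZMod.intCast_zmod_eq_zero_iff_dvd (w ^ 4 + w ^ 3 + w ^ 2 + w + 1) 25).2 (by simpa using h1)
      push_cast at h3
      exact h3
    have : ∀ a : ZMod 25, a ^ 4 + a ^ 3 + a ^ 2 + a + 1 ≠ 0 := by decide
    exact this _ h2
  · intro hd
    have h1 : ((2 : ℕ) : ℤ) ∣ w ^ 4 + w ^ 3 + w ^ 2 + w + 1 := by
      rw [← Int.natAbs_of_nonneg hpos.le]
      exact Int.natCast_dvd_natCast.2 hd
    have h2 : ((w : ZMod 2)) ^ 4 + (w : ZMod 2) ^ 3 + (w : ZMod 2) ^ 2 + (w : ZMod 2) + 1 = 0 := by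
      have h3 := (ZMod.intCast_zmod_eq_zero_iff_dvd (w ^ 4 + w ^ 3 + w ^ 2 + w + 1) 2).2 (by simpa using h1)
      push_cast at h3
      exact h3
    have : ∀ a : ZMod 2, a ^ 4 + a ^ 3 + a ^ 2 + a + 1 ≠ 0 := by decide
    exact this _ h2

theorem hc_5 (hr : 1 < r) (h : HC X r 5) :
    (X : ZMod r) ^ 4 + (X : ZMod r) ^ 3 + (X : ZMod r) ^ 2 + X = 0 ∨
      (X : ZMod r) ^ 4 + (X : ZMod r) ^ 3 + (X : ZMod r) ^ 2 + X = 4 := by
  obtain ⟨N, hN, hN0, hN9, hN2⟩ := exists_quint X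
  have hNc : ∀ m : ℕ, (N : ZMod m) = (X : ZMod m) ^ 4 + (X : ZMod m) ^ 3 + (X : ZMod m) ^ 2 + X + 1 := fun m => by
    have h1 := congrArg (fun z : ℤ => (z : ZMod m)) hN
    push_cast at h1
    exact h1
  have h1 := cast_eq_of hr Nat.prime_five hN0 hN9 (by
    intro y hy hy5 hd
    have := Fact.mk hy
    have h3 := ne_zero_of hy Nat.prime_five hy5
    push_cast at h3
    have h0 := (ZMod.natCast_eq_zero_iff N y).2 hd
    rw [hNc y] at h0
    have := Fact.mk Nat.prime_five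
    refine h y hy (orderOf_eq_prime ?_ ?_)
    · linear_combination ((X : ZMod y) - 1) * h0
    · intro h2
      rw [h2] at h0
      apply h3
      linear_combination h0)
  rw [hNc r] at h1
  push_cast at h1
  rcases h1 with h1 | h1
  · left; linear_combination h1
  · right; linear_combination h1

theorem hc_10 (hr : 1 < r) (h : HC X r 10) :
    (X : ZMod r) ^ 4 - (X : ZMod r) ^ 3 + (X : ZMod r) ^ 2 - X = 0 ∨
      (X : ZMod r) ^ 4 - (X : ZMod r) ^ 3 + (X : ZMod r) ^ 2 - X = 4 := by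
  obtain ⟨N, hN, hN0, hN9, hN2⟩ := exists_quint (-X)
  have hNc : ∀ m : ℕ, (N : ZMod m) = (X : ZMod m) ^ 4 - (X : ZMod m) ^ 3 + (X : ZMod m) ^ 2 - X + 1 := fun m => by
    have h1 := congrArg (fun z : ℤ => (z : ZMod m)) hN
    push_cast at h1
    rw [h1]
    ring
  have h1 := cast_eq_of hr Nat.prime_five hN0 hN9 (by
    intro y hy hy5 hd
    have := Fact.mk hy
    have h3 := ne_zero_of hy Nat.prime_five hy5
    have hy2 : y ≠ 2 := by
      rintro rfl
      exact hN2 hd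
    have h2' := ne_zero_of hy Nat.prime_two hy2
    push_cast at h3 h2'
    have h0 := (ZMod.natCast_eq_zero_iff N y).2 hd
    rw [hNc y] at h0
    obtain ⟨z, hz⟩ : ∃ z : ZMod y, z = (X : ZMod y) := ⟨_, rfl⟩
    rw [← hz] at h0
    refine h y hy ?_
    rw [← hz]
    refine orderOf_eq_of_pow_and_pow_div_prime (by norm_num) ?_ ?_
    · linear_combination (z ^ 5 - 1) * (z + 1) * h0
    · intro p hp hpd
      have hp' : p = 2 ∨ p = 5 := by
        have h2 : p ∣ 2 * 5 := hpd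
        rcases hp.dvd_mul.1 h2 with h2 | h2
        · left; exact (Nat.prime_dvd_prime_iff_eq hp Nat.prime_two).1 h2
        · right; exact (Nat.prime_dvd_prime_iff_eq hp Nat.prime_five).1 h2
      rcases hp' with rfl | rfl
      · rw [show 10 / 2 = 5 by norm_num]
        intro h2
        apply h2'
        linear_combination (z + 1) * h0 - h2
      · rw [show 10 / 5 = 2 by norm_num]
        intro h2
        have h4 : 2 * z = 3 := by linear_combination -h0 + (z ^ 2 - z + 2) * h2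
        apply h3
        linear_combination -(2 * z + 3) * h4 + 4 * h2)
  rw [hNc r] at h1
  push_cast at h1
  rcases h1 with h1 | h1
  · left; linear_combination h1
  · right; linear_combination h1

end Cfsg.Agent.R2.Spec.F1
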