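import Cfsg.Agent.R2.Spec.F1.Few
import Cfsg.Agent.R2.Spec.F1.Num
import Cfsg.Agent.H436.Ppd

/-!
# Existence of primes in the classes (helper23)

* `cls_facts` : a prime `r` of a regular class is at least 5 and does not divide `q`;
* `exists_cls` : every class `i ≥ 3` contains a prime, except `q = 2`, `i = 6` (and `i = 3` for `PSU`).
-/

set_option autoImplicit false
set_option linter.unusedSectionVars false
set_option linter.unusedVariables false

namespace Cfsg.Agent.R2.Spec.F1

open Cfsg.Agent.H426.LieFam Cfsg.Agent.R2.Spec Cfsg.Agent.R2.Spec.P1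

theorem cls_facts {t : Fam} {q r : ℕ} (hr : r.Prime) (h3 : 3 ≤ cls t q r) : 5 ≤ r ∧ ¬ r ∣ q ∧ cls t q r < r := by
  have := Fact.mk hr
  have h0 := cls_pos_ne h3
  have hrq : ¬ r ∣ q := by
    intro hd
    apply h0
    have h1 : ((q : ℕ) : ZMod r) = 0 := (ZMod.natCast_eq_zero_iff q r).2 hd
    have h2 := congrArg (fun z : ℤ => (z : ZMod r)) (sg_sq t q)
    push_cast at h2
    rw [h1, zero_pow two_ne_zero] at h2
    exact pow_eq_zero_iff two_ne_zero |>.1 h2
  have h1 : ((sg t q : ℤ) : ZMod r) ^ (r - 1) = 1 := ZMod.pow_card_sub_one_eq_one h0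
  have h2 : cls t q r ∣ r - 1 := orderOf_dvd_of_pow_eq_one h1
  have h4 := hr.two_le
  have h5 := Nat.le_of_dvd (by omega) h2
  refine ⟨?_, hrq, by omega⟩
  by_contra hcon
  have h6 : r = 4 := by omega
  rw [h6] at hr
  exact absurd hr (by norm_num)

theorem cls_of_prim {t : Fam} (ht : ∀ n, t ≠ .psu n) {q e r : ℕ} (hq : 1 ≤ q) (h : Cfsg.Agent.H436.Prim q e r) :
    cls t q r = e := by
  rw [cls_eq_co ht]
  apply Nat.dvd_antisymm
  · exact co_dvd_of hq (h.dvd dvd_rfl)
  · exact (h.dvd_iff _).1 (dvd_sub_one_of_co hq dvd_rfl)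

theorem orderOf_of_prim {q e r : ℕ} (hq : 1 ≤ q) (h : Cfsg.Agent.H436.Prim q e r) :
    orderOf ((q : ℕ) : ZMod r) = e := by
  apply Nat.dvd_antisymm
  · exact co_dvd_of hq (h.dvd dvd_rfl)
  · exact (h.dvd_iff _).1 (dvd_sub_one_of_co hq dvd_rfl)

/-- **Existence of primes in the classes.** -/
theorem exists_cls {t : Fam} {q i : ℕ} (hq : 2 ≤ q) (h3 : 3 ≤ i) (hex : q = 2 → i ≠ 6 ∧ i ≠ 3) :
    ∃ r : ℕ, r.Prime ∧ cls t q r = i := by
  by_cases ht : ∀ n, t ≠ .psu n
  · obtain ⟨r, hr⟩ := Cfsg.Agent.H436.exists_prim hq h3 (fun h => (hex h.1).1 h.2)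
    exact ⟨r, hr.prime, cls_of_prim ht (by omega) hr⟩
  · push Not at ht
    obtain ⟨n, rfl⟩ := ht
    have key : ∀ {e r : ℕ}, Cfsg.Agent.H436.Prim q e r → 2 ≤ e → (-((q : ℕ) : ZMod r)) ^ i = 1 →
        (∀ m : ℕ, e ∣ 2 * m → (-((q : ℕ) : ZMod r)) ^ m = 1 → i ∣ m) → ∃ r : ℕ, r.Prime ∧ cls (.psu n) q r = i := by
      intro e r hr he h1 h2
      have hfr := Fact.mk hr.prime
      refine ⟨r, hr.prime, ?_⟩
      rw [cls_psu, Cfsg.Agent.H72.AdjPSU.nu]
      apply Nat.dvd_antisymm (orderOf_dvd_of_pow_eq_one h1)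
      have h4 : (-((q : ℕ) : ZMod r)) ^ orderOf (-((q : ℕ) : ZMod r)) = 1 := pow_orderOf_eq_one _
      refine h2 _ ?_ h4
      rw [← orderOf_of_prim (by omega) hr]
      apply orderOf_dvd_of_pow_eq_one
      have h5 : ((q : ℕ) : ZMod r) ^ (2 * orderOf (-((q : ℕ) : ZMod r))) =
          ((-((q : ℕ) : ZMod r)) ^ orderOf (-((q : ℕ) : ZMod r))) ^ 2 := by
        rw [← pow_mul (-((q : ℕ) : ZMod r)), mul_comm (orderOf _) 2, pow_mul (-((q : ℕ) : ZMod r)), neg_sq, ← pow_mul]
      rw [h5, h4, one_pow]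
    rcases Nat.even_or_odd' i with ⟨j, hj | hj⟩
    · rcases Nat.even_or_odd' j with ⟨k, hk | hk⟩
      · -- `4 ∣ i`
        obtain ⟨r, hr⟩ := Cfsg.Agent.H436.exists_prim hq h3 (fun h => (hex h.1).1 h.2)
        refine key hr (by omega) ?_ ?_
        · have he : Even i := ⟨j, by omega⟩
          rw [he.neg_pow, ← orderOf_of_prim (by omega) hr]
          exact pow_orderOf_eq_one _
        · intro m hm h1
          have h2 : Even m := by
            have h4 : 2 * (2 * k) ∣ 2 * m := by rw [← hk, ← hj]; exact hm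
            exact even_iff_two_dvd.2 ((Dvd.intro _ rfl).trans (Nat.dvd_of_mul_dvd_mul_left two_pos h4))
          rw [h2.neg_pow] at h1
          rw [← orderOf_of_prim (by omega) hr]
          exact orderOf_dvd_of_pow_eq_one h1
      · -- `i = 2 j`, `j` odd
        have hj3 : 3 ≤ j := by omega
        obtain ⟨r, hr⟩ := Cfsg.Agent.H436.exists_prim hq hj3 (fun h => by omega)
        have hfr := Fact.mk hr.prime
        have hr2 : r ≠ 2 := by
          have := hr.odd (by omega)
          omega
        refine key hr (by omega) ?_ ?_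
        · have he : Even i := ⟨j, by omega⟩
          rw [he.neg_pow, hj, mul_comm, pow_mul]
          have h1 : ((q : ℕ) : ZMod r) ^ j = 1 := by
            rw [← orderOf_of_prim (by omega) hr]
            exact pow_orderOf_eq_one _
          rw [h1, one_pow]
        · intro m hm h1
          have hodd : Odd j := ⟨k, hk⟩
          have h2 : j ∣ m := Nat.Coprime.dvd_of_dvd_mul_left (Nat.coprime_two_right.2 hodd) hm
          have h4 : ((q : ℕ) : ZMod r) ^ m = 1 := by
            obtain ⟨c, hc⟩ := h2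
            have h5 : ((q : ℕ) : ZMod r) ^ j = 1 := by
              rw [← orderOf_of_prim (by omega) hr]
              exact pow_orderOf_eq_one _
            rw [hc, pow_mul, h5, one_pow]
          have h5 : Even m := by
            by_contra hodd'
            rw [Nat.not_even_iff_odd] at hodd'
            rw [hodd'.neg_pow, h4] at h1
            apply ne_zero_of hr.prime Nat.prime_two hr2
            push_cast
            linear_combination -h1
          rw [hj]
          exact Nat.Coprime.mul_dvd_of_dvd_of_dvd (Nat.coprime_two_left.2 hodd) h5.two_dvd h2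
    · -- `i` odd
      obtain ⟨r, hr⟩ := Cfsg.Agent.H436.exists_prim (e := 2 * i) hq (by omega) (fun h => (hex h.1).2 (by omega))
      have hfr := Fact.mk hr.prime
      have hodd : Odd i := ⟨j, hj⟩
      have ho := orderOf_of_prim (by omega) hr
      refine key hr (by omega) ?_ ?_
      · rw [hodd.neg_pow]
        have h1 : ((((q : ℕ) : ZMod r) ^ i)) ^ 2 = 1 := by
          rw [← pow_mul, mul_comm, ← ho]
          exact pow_orderOf_eq_one _
        have h2 : ((q : ℕ) : ZMod r) ^ i ≠ 1 := by
          intro h2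
          have h4 := orderOf_dvd_of_pow_eq_one h2
          rw [ho] at h4
          have := Nat.le_of_dvd (by omega) h4
          omega
        have h4 : (((q : ℕ) : ZMod r) ^ i - 1) * (((q : ℕ) : ZMod r) ^ i + 1) = 0 := by linear_combination h1
        rcases mul_eq_zero.1 h4 with h5 | h5
        · exact absurd (sub_eq_zero.1 h5) h2
        · linear_combination -h5
      · intro m hm h1
        exact Nat.dvd_of_mul_dvd_mul_left two_pos hm

end Cfsg.Agent.R2.Spec.F1
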