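import Cfsg.Agent.R2.Spec.F1.Few
import Cfsg.Agent.R2.Spec.F1.Exist
import Cfsg.Agent.S0058

/-!
# The characteristic is adjacent to the primes of the radical (helper23)

* `exists_adj_ab` : `K` nilpotent normal in `G`, `t ∣ |K|`, an abelian noncyclic `p`-subgroup of `G / K`: `G` has an
  element of order `p t`;
* `BigS t` : `t` is not `psl 2`, `psl 3`, `psu 3`, `psp 2`; `Frm.sv_adj` : a prime `s ≠ v` of `|K|` is adjacent to `v`.
-/

set_option autoImplicit false
set_option linter.unusedSectionVars false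
set_option linter.unusedVariables false

namespace Cfsg.Agent.R2.Spec.F1

open Subgroup Cfsg
open Cfsg.Agent.H426.LieFam Cfsg.Agent.R2.Spec Cfsg.Agent.R2.Spec.P1
open Cfsg.Agent.H72
open Cfsg.Agent.H228.GoodK (order_mul)
open Cfsg.Agent.H425.KStep (surj adj_of_commute)
open Cfsg.Agent.H154.PG (card_map_sylow)

universe u

theorem exists_adj_ab {G : Type u} [Group G] [Finite G] (K : Subgroup G) [K.Normal] (hKn : Group.IsNilpotent K)
    {p t : ℕ} (hp : p.Prime) (ht : t.Prime) (hpt : p ≠ t) (htK : t ∣ Nat.card K) (E : Subgroup (G ⧸ K))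
    (hE : IsPGroup p E) (hab : ∀ a ∈ E, ∀ b ∈ E, a * b = b * a) (hnc : ¬ IsCyclic E) :
    ∃ g : G, orderOf g = p * t := by
  have : Fact p.Prime := ⟨hp⟩
  have : Fact t.Prime := ⟨ht⟩
  by_cases hpK : p ∣ Nat.card K
  · obtain ⟨a, ha⟩ := exists_prime_orderOf_dvd_card' (G := K) p hpK
    obtain ⟨b, hb⟩ := exists_prime_orderOf_dvd_card' (G := K) t htK
    have hab := comm_of_nilpotent' hKn hp ht hpt (a := a) (b := b) ⟨1, by rw [pow_one, ← ha, pow_orderOf_eq_one]⟩
      ⟨1, by rw [pow_one, ← hb, pow_orderOf_eq_one]⟩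
    refine ⟨(a * b : K), ?_⟩
    rw [Subgroup.orderOf_coe]
    refine order_mul hp ht hpt (by rw [← ha, pow_orderOf_eq_one]) ?_ (by rw [← hb, pow_orderOf_eq_one]) ?_ hab
    · intro h
      rw [h, orderOf_one] at ha
      exact hp.one_lt.ne ha
    · intro h
      rw [h, orderOf_one] at hb
      exact ht.one_lt.ne hb
  obtain ⟨P⟩ : Nonempty (Sylow t K) := inferInstance
  obtain ⟨T, hT⟩ : ∃ T : Subgroup G, T = (P : Subgroup K).map K.subtype := ⟨_, rfl⟩
  obtain ⟨N, hN⟩ : ∃ N : Subgroup G, N = normalizer (T : Set G) := ⟨_, rfl⟩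
  obtain ⟨f, hf⟩ : ∃ f : N →* G ⧸ K, f = (QuotientGroup.mk' K).comp N.subtype := ⟨_, rfl⟩
  have hfs : Function.Surjective f := by
    subst hf hN hT
    exact surj K P
  have hTp : IsPGroup t T := hT ▸ P.isPGroup'.map _
  have hTcard : Nat.card T = t ^ (Nat.card K).factorization t := hT ▸ card_map_sylow K P
  have hT1 : T ≠ ⊥ := by
    intro h
    rw [h, Subgroup.card_bot] at hTcard
    have h1 := (ht.factorization_pos_of_dvd Nat.card_pos.ne' htK)
    exact (Nat.one_lt_pow h1.ne' ht.one_lt).ne hTcard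
  obtain ⟨X, hX⟩ : ∃ X : Subgroup N, X = E.comap f := ⟨_, rfl⟩
  have hXE : ∀ x : X, f (x : N) ∈ E := by
    rintro ⟨x, hx⟩
    rw [hX] at hx
    exact hx
  let f' : X →* E := (f.comp X.subtype).codRestrict E (fun x => hXE x)
  have hf's : Function.Surjective f' := by
    rintro ⟨e, he⟩
    obtain ⟨n, rfl⟩ := hfs e
    exact ⟨⟨n, by rw [hX]; exact he⟩, Subtype.ext rfl⟩
  obtain ⟨Q⟩ : Nonempty (Sylow p X) := inferInstance
  -- `Q → E` is injective and surjective
  let g : Q →* E := f'.comp (Q : Subgroup X).subtype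
  have hgs : Function.Surjective g := by
    have h2 : ((Q.mapSurjective hf's : Sylow p E) : Subgroup E) = ⊤ :=
      ((Q.mapSurjective hf's).is_maximal' (hE.to_subgroup ⊤) le_top).symm
    intro e
    have h3 : e ∈ ((Q.mapSurjective hf's : Sylow p E) : Subgroup E) := h2 ▸ mem_top e
    obtain ⟨q, hq, hqe⟩ := h3
    exact ⟨⟨q, hq⟩, hqe⟩
  have hgi : Function.Injective g := by
    rw [injective_iff_map_eq_one]
    rintro ⟨⟨⟨x, hxN⟩, hxX⟩, hxQ⟩ hx
    have h1 : (QuotientGroup.mk' K) x = 1 := by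
      have h2 : f ⟨x, hxN⟩ = 1 := congrArg Subtype.val hx
      rw [hf] at h2
      exact h2
    have h2 : x ∈ K := (QuotientGroup.eq_one_iff x).1 h1
    obtain ⟨k, hk⟩ := Q.isPGroup' ⟨⟨⟨x, hxN⟩, hxX⟩, hxQ⟩
    have hk' : x ^ p ^ k = 1 := congrArg (fun z : Q => (((z : X) : N) : G)) hk
    have h3 : orderOf (⟨x, h2⟩ : K) ∣ p ^ k := orderOf_dvd_of_pow_eq_one (Subtype.ext hk')
    obtain ⟨j, hj, hj'⟩ := (Nat.dvd_prime_pow hp).1 h3
    have h4 : orderOf (⟨x, h2⟩ : K) ∣ Nat.card K := orderOf_dvd_natCard _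
    have hj0 : j = 0 := by
      by_contra hj0
      apply hpK
      rw [hj'] at h4
      exact (dvd_pow_self p hj0).trans h4
    rw [hj0, pow_zero] at hj'
    have h5 : x = 1 := congrArg Subtype.val (orderOf_eq_one_iff.1 hj')
    subst h5
    rfl
  -- push `Q` to `G`
  let j : Q →* G := N.subtype.comp (X.subtype.comp (Q : Subgroup X).subtype)
  have hj : Function.Injective j := by
    intro a b hab
    exact Subtype.ext (Subtype.ext (Subtype.ext hab))
  obtain ⟨B, hB⟩ : ∃ B : Subgroup G, B = j.range := ⟨_, rfl⟩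
  have hBcomm : ∀ a ∈ B, ∀ b ∈ B, a * b = b * a := by
    rw [hB]
    rintro _ ⟨a, rfl⟩ _ ⟨b, rfl⟩
    have h1 : a * b = b * a := by
      apply hgi
      rw [map_mul, map_mul]
      exact Subtype.ext (hab _ (g a).2 _ (g b).2)
    rw [← map_mul, h1, map_mul]
  have hBab : IsMulCommutative B := ⟨⟨fun a b => Subtype.ext (hBcomm a a.2 b b.2)⟩⟩
  have hBc : ¬ IsCyclic B := by
    intro hc
    apply hnc
    have hc' : IsCyclic j.range := hB ▸ hc
    have h1 : IsCyclic Q := isCyclic_of_surjective (MonoidHom.ofInjective hj).symm.toMonoidHom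
      (MonoidHom.ofInjective hj).symm.surjective
    exact isCyclic_of_surjective g hgs
  have hBN : B ≤ normalizer (T : Set G) := by
    rw [hB]
    rintro _ ⟨a, rfl⟩
    have h1 := (((a : Q) : X) : N).2
    exact (le_of_eq hN) h1
  have hBp : IsPGroup p B := by
    rw [hB]
    have h1 : IsPGroup p Q := Q.isPGroup'
    rintro ⟨_, a, rfl⟩
    obtain ⟨k, hk⟩ := h1 a
    exact ⟨k, Subtype.ext (by
      change (j a) ^ p ^ k = 1
      rw [← map_pow, hk, map_one])⟩
  obtain ⟨k, hk⟩ := IsPGroup.iff_card.1 hBp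
  have hcop : (Nat.card B).Coprime (Nat.card T) := by
    rw [hk, hTcard]
    exact Nat.Coprime.pow _ _ ((Nat.coprime_primes hp ht).2 hpt)
  have hgen := S0058.result B T hBc hBN hcop
  by_contra hno
  apply hT1
  rw [← hgen, iSup_eq_bot]
  intro a
  rw [iSup_eq_bot]
  rintro ⟨haB, ha1⟩
  rw [eq_bot_iff]
  rintro v ⟨hvT, hva⟩
  rw [Subgroup.mem_bot]
  by_contra hv1
  exact hno (adj_of_commute hp ht hpt hBp hTp haB hvT ha1 hv1
    (mem_centralizer_iff.1 hva a (Set.mem_singleton a)))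

/-- a moved abelian group with a large prime is not cyclic -/
theorem MovA.noncyclic {S : Type u} [Group S] [Finite S] {v w : ℕ} (hv : v.Prime) (hw : w.Prime) (hwv : w ≠ v)
    (hw1 : ¬ w ∣ v - 1) (h : MovA S v w) : ∃ P : Subgroup S, IsPGroup v P ∧ (∀ a ∈ P, ∀ b ∈ P, a * b = b * a) ∧
      ¬ IsCyclic P := by
  obtain ⟨P, x, hP, hx, hn, ⟨a, ha, hne⟩, hab⟩ := h
  refine ⟨P, hP, hab, fun hc => ?_⟩
  have := Fact.mk hv
  have := Fact.mk hw
  have hn' : ∀ a ∈ P, x⁻¹ * a * x ∈ P := by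
    intro y hy
    have h1 : (P.map (MulAut.conj x).toMonoidHom : Subgroup S) = P := by
      refine Subgroup.eq_of_le_of_card_ge ?_ ?_
      · rintro _ ⟨u, hu, rfl⟩
        exact hn u hu
      · rw [Subgroup.card_map_of_injective (MulAut.conj x).injective]
    rw [← h1] at hy
    obtain ⟨t, ht, rfl⟩ := hy
    have h2 : x⁻¹ * ((MulAut.conj x).toMonoidHom t) * x = t := by
      change x⁻¹ * (x * t * x⁻¹) * x = t
      group
    rw [h2]
    exact ht
  have hxN : x ∈ normalizer (P : Set S) := by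
    rw [mem_normalizer_iff]
    intro y
    refine ⟨fun hy => hn y hy, fun hy => ?_⟩
    have := hn' _ hy
    have h2 : x⁻¹ * (x * y * x⁻¹) * x = y := by group
    rwa [h2] at this
  obtain ⟨φ, hφ⟩ : ∃ φ : MulAut P, φ = P.normalizerMonoidHom ⟨x, hxN⟩ := ⟨_, rfl⟩
  have hφa : ∀ y : P, ((φ y : P) : S) = x * y * x⁻¹ := by
    intro y
    rw [hφ]
    rfl
  have hφw : φ ^ w = 1 := by
    rw [hφ, ← map_pow]
    have : (⟨x, hxN⟩ : normalizer (P : Set S)) ^ w = 1 := Subtype.ext (by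
      change x ^ w = 1
      rw [← hx, pow_orderOf_eq_one])
    rw [this, map_one]
  have hφ1 : φ ≠ 1 := by
    intro h
    have h1 := hφa ⟨a, ha⟩
    rw [h] at h1
    have h2 : a = x * a * x⁻¹ := h1
    apply hne
    calc x * a = (x * a * x⁻¹) * x := by group
      _ = a * x := by rw [← h2]
  have hord : orderOf φ = w := orderOf_eq_prime hφw hφ1
  have h3 : orderOf φ ∣ Nat.card (MulAut P) := orderOf_dvd_natCard _
  rw [hord, IsCyclic.card_mulAut] at h3
  obtain ⟨k, hk⟩ := IsPGroup.iff_card.1 hP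
  rw [hk] at h3
  rcases Nat.eq_zero_or_pos k with rfl | hk0
  · rw [pow_zero, Nat.totient_one] at h3
    exact hw.one_lt.ne' (Nat.dvd_one.1 h3)
  · rw [Nat.totient_prime_pow hv hk0] at h3
    rcases hw.dvd_mul.1 h3 with h4 | h4
    · exact hwv ((Nat.prime_dvd_prime_iff_eq hw hv).1 (hw.dvd_of_dvd_pow h4))
    · exact hw1 h4

/-- `t` is not one of the small families -/
def BigS (t : Fam) : Prop := Classical t ∧ t ≠ .psl 2 ∧ t ≠ .psl 3 ∧ t ≠ .psu 3 ∧ t ≠ .psp 2

theorem not_dvd_sub_of_cls {t : Fam} {v f w : ℕ} (hv : v.Prime) (hw : w.Prime) (h3 : 3 ≤ cls t (v ^ f) w) :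
    ¬ w ∣ v - 1 := by
  intro hd
  have h1 : ((v : ℕ) : ZMod w) = 1 := by
    have h2 : ((v - 1 : ℕ) : ZMod w) = 0 := (ZMod.natCast_eq_zero_iff _ _).2 hd
    rw [Nat.cast_sub hv.one_lt.le, Nat.cast_one, sub_eq_zero] at h2
    exact h2
  have h2 : ((sg t (v ^ f) : ℤ) : ZMod w) ^ 2 = 1 := by
    have h4 := congrArg (fun z : ℤ => (z : ZMod w)) (sg_sq t (v ^ f))
    push_cast at h4
    rw [h4, h1, one_pow, one_pow]
  have h4 := Nat.le_of_dvd (by norm_num) (orderOf_dvd_of_pow_eq_one h2)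
  have h5 : 3 ≤ orderOf ((sg t (v ^ f) : ℤ) : ZMod w) := h3
  omega

theorem exists_movA {t : Fam} (ht : BigS t) {v f : ℕ} {S : Type u} [Group S] [Finite S] (hv : v.Prime) (hf : f ≠ 0)
    (h : Fam.Is v f S t) : ∃ w : ℕ, w.Prime ∧ w ≠ v ∧ ¬ w ∣ v - 1 ∧ MovA S v w := by
  have hq : 2 ≤ v ^ f := hv.two_le.trans (Nat.le_self_pow hf v)
  have fin : ∀ {w : ℕ}, w.Prime → 3 ≤ cls t (v ^ f) w → MovA S v w →
      ∃ w : ℕ, w.Prime ∧ w ≠ v ∧ ¬ w ∣ v - 1 ∧ MovA S v w := by
    intro w hw h3 hm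
    refine ⟨w, hw, ?_, not_dvd_sub_of_cls hv hw h3, hm⟩
    rintro rfl
    exact (cls_facts hw h3).2.1 (dvd_pow_self w hf)
  have three : (∀ n, t ≠ .psu n) → ∃ w : ℕ, w.Prime ∧ cls t (v ^ f) w = 3 := by
    intro hn
    obtain ⟨r, hr⟩ := Cfsg.Agent.H436.exists_prim hq (by norm_num : 3 ≤ 3) (fun h => absurd h.2 (by norm_num))
    exact ⟨r, hr.prime, cls_of_prim hn (by omega) hr⟩
  have hnd : ∀ {w : ℕ}, w.Prime → 3 ≤ cls t (v ^ f) w → ¬ w ∣ v := fun hw h3 hd =>
    (cls_facts hw h3).2.1 (hd.trans (dvd_pow_self v hf))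
  have hw2 : ∀ {w : ℕ}, w.Prime → 3 ≤ cls t (v ^ f) w → w ≠ 2 := fun hw h3 => by
    have := (cls_facts hw h3).1
    omega
  obtain ⟨hc, h1, h2, h3, h4⟩ := ht
  cases t with
  | psl n =>
    obtain ⟨w, hw, hcw⟩ := three (by intro n; exact fun h => by cases h)
    have hn : 4 ≤ n := by
      have hn2 : 2 ≤ n := h.1
      by_contra hcon
      have : n = 2 ∨ n = 3 := by omega
      rcases this with rfl | rfl
      · exact h1 rfl
      · exact h2 rfl
    exact fin hw (by omega) (movA_fam_psl hv h hw (by omega) (by omega))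
  | psu n =>
    have hn : 4 ≤ n := by
      have hn3 : 3 ≤ n := h.1
      by_contra hcon
      have : n = 3 := by omega
      exact h3 (by rw [this])
    obtain ⟨w, hw, hcw⟩ := exists_cls (t := .psu n) hq (by norm_num : 3 ≤ 4) (fun _ => ⟨by norm_num, by norm_num⟩)
    exact fin hw (by omega) (movA_fam_psu hv h hw (by omega) (by omega) (by rw [hcw]))
  | psp n =>
    obtain ⟨w, hw, hcw⟩ := three (by intro n; exact fun h => by cases h)
    have hn : 3 ≤ n := by
      have hn2 : 2 ≤ n := h.1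
      by_contra hcon
      have : n = 2 := by omega
      exact h4 (by rw [this])
    have h5 : eta (cls (.psp n) (v ^ f) w) = 3 := by rw [hcw]; rfl
    exact fin hw (by omega) (movA_fam_psp_odd hv h hw (hw2 hw (by omega)) (by omega) (by rw [hcw]; exact hn))
  | oodd n =>
    obtain ⟨w, hw, hcw⟩ := three (by intro n; exact fun h => by cases h)
    have hn : 3 ≤ n := h.1
    exact fin hw (by omega) (movA_fam_oodd hv h hw (hw2 hw (by omega)) (hnd hw (by omega)) (by omega)
      (by rw [hcw]; exact hn))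
  | oplus n =>
    obtain ⟨w, hw, hcw⟩ := three (by intro n; exact fun h => by cases h)
    have hn : 4 ≤ n := h.1
    exact fin hw (by omega) (movA_fam_oplus hv h hw (hw2 hw (by omega)) (hnd hw (by omega)) (by omega)
      (by rw [hcw]; exact Or.inl hn) (by
        rw [hcw]
        intro (h5 : 3 + 2 = 2 * n)
        omega))
  | ominus n =>
    obtain ⟨w, hw, hcw⟩ := three (by intro n; exact fun h => by cases h)
    have hn : 4 ≤ n := h.1
    exact fin hw (by omega) (movA_fam_ominus hv h hw (hw2 hw (by omega)) (hnd hw (by omega)) (by omega)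
      (by rw [hcw]; exact Or.inl hn) (by
        rw [hcw]
        intro (h5 : 3 = 2 * n)
        omega))
  | _ => exact hc.elim

variable {G : Type u} [Group G] [Finite G] {K : Subgroup G} [K.Normal] {S : Subgroup (G ⧸ K)} [S.Normal] {t : Fam}
  {v f : ℕ}

/-- **The characteristic is adjacent to the other primes of the radical.** -/
theorem Frm.sv_adj (h : Frm G K S t v f) (ht : BigS t) {s : ℕ} (hs : s.Prime) (hsv : s ≠ v) (hsK : s ∣ Nat.card K) :
    ∃ g : G, orderOf g = v * s := by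
  obtain ⟨w, hw, hwv, hw1, hm⟩ := exists_movA ht h.prime h.f_ne h.is
  obtain ⟨P, hP, hab, hnc⟩ := hm.noncyclic h.prime hw hwv hw1
  refine exists_adj_ab K h.nil h.prime hs (Ne.symm hsv) hsK (P.map S.subtype) (hP.map _) ?_ ?_
  · rintro _ ⟨a, ha, rfl⟩ _ ⟨b, hb, rfl⟩
    rw [← map_mul, ← map_mul, hab a ha b hb]
  · intro hc
    apply hnc
    exact isCyclic_of_surjective (P.equivMapOfInjective _ S.subtype_injective).symm.toMonoidHom
      (P.equivMapOfInjective _ S.subtype_injective).symm.surjective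

end Cfsg.Agent.R2.Spec.F1
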