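import Cfsg.Agent.R2.Spec.F1.TtorCop
import Cfsg.Agent.R2.Spec.E.Duel
import Cfsg.Agent.R2.Spec.F1.OutB

/-!
# The two isolated numbers are coprime; the bound for `|Out S|` (helper23)
-/

set_option autoImplicit false
set_option linter.unusedVariables false

namespace Cfsg.Agent.R2.Spec.F1

open Subgroup Cfsg
open Cfsg.Agent.H426.LieFam Cfsg.Agent.R2.Spec Cfsg.Agent.R2.Spec.P1
open Cfsg.Agent.R2.Spec.E (PairOK outB)

universe u

theorem pair_symm {t : Fam} {i j : ℕ} (h : PairOK t i j) : PairOK t j i := by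
  cases t with
  | psl n => rcases h with ⟨h1, h2⟩ | ⟨h1, h2⟩; exacts [Or.inr ⟨h2, h1⟩, Or.inl ⟨h2, h1⟩]
  | psu n => rcases h with ⟨h1, h2⟩ | ⟨h1, h2⟩; exacts [Or.inr ⟨h2, h1⟩, Or.inl ⟨h2, h1⟩]
  | psp n => obtain ⟨h0, ⟨h1, h2⟩ | ⟨h1, h2⟩⟩ := h; exacts [⟨h0, Or.inr ⟨h2, h1⟩⟩, ⟨h0, Or.inl ⟨h2, h1⟩⟩]
  | oodd n => obtain ⟨h0, ⟨h1, h2⟩ | ⟨h1, h2⟩⟩ := h; exacts [⟨h0, Or.inr ⟨h2, h1⟩⟩, ⟨h0, Or.inl ⟨h2, h1⟩⟩]
  | oplus n =>
    rcases h with ⟨h0, ⟨h1, h2⟩ | ⟨h1, h2⟩⟩ | ⟨h0, ⟨h1, h2⟩ | ⟨h1, h2⟩⟩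
    exacts [Or.inl ⟨h0, Or.inr ⟨h2, h1⟩⟩, Or.inl ⟨h0, Or.inl ⟨h2, h1⟩⟩, Or.inr ⟨h0, Or.inr ⟨h2, h1⟩⟩,
      Or.inr ⟨h0, Or.inl ⟨h2, h1⟩⟩]
  | ominus n => rcases h with ⟨h1, h2⟩ | ⟨h1, h2⟩; exacts [Or.inr ⟨h2, h1⟩, Or.inl ⟨h2, h1⟩]
  | _ => exact h

theorem gcd_two_of_odd {q : ℕ} (hq : q % 2 = 1) : Nat.gcd 2 (q - 1) = 2 := by
  apply Nat.gcd_eq_left
  omega

/-- half of the cases -/
def PairH : Fam → ℕ → ℕ → Prop
  | .psl n, i, j => i = n ∧ j + 1 = n
  | .psu n, i, j => i = n ∧ j + 1 = n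
  | .psp n, i, j => n % 2 = 1 ∧ i = n ∧ j = 2 * n
  | .oodd n, i, j => n % 2 = 1 ∧ i = n ∧ j = 2 * n
  | .oplus n, i, j => (n % 2 = 1 ∧ i = n ∧ j = 2 * (n - 1)) ∨ (n % 2 = 0 ∧ i = n - 1 ∧ j = 2 * (n - 1))
  | .ominus n, i, j => i = 2 * n ∧ j = 2 * (n - 1)
  | _, _, _ => False

theorem pair_or {t : Fam} {i j : ℕ} (h : PairOK t i j) : PairH t i j ∨ PairH t j i := by
  cases t with
  | psl n => rcases h with ⟨h1, h2⟩ | ⟨h1, h2⟩; exacts [Or.inl ⟨h1, h2⟩, Or.inr ⟨h2, h1⟩]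
  | psu n => rcases h with ⟨h1, h2⟩ | ⟨h1, h2⟩; exacts [Or.inl ⟨h1, h2⟩, Or.inr ⟨h2, h1⟩]
  | psp n => obtain ⟨h0, ⟨h1, h2⟩ | ⟨h1, h2⟩⟩ := h; exacts [Or.inl ⟨h0, h1, h2⟩, Or.inr ⟨h0, h2, h1⟩]
  | oodd n => obtain ⟨h0, ⟨h1, h2⟩ | ⟨h1, h2⟩⟩ := h; exacts [Or.inl ⟨h0, h1, h2⟩, Or.inr ⟨h0, h2, h1⟩]
  | oplus n =>
    rcases h with ⟨h0, ⟨h1, h2⟩ | ⟨h1, h2⟩⟩ | ⟨h0, ⟨h1, h2⟩ | ⟨h1, h2⟩⟩
    exacts [Or.inl (Or.inl ⟨h0, h1, h2⟩), Or.inr (Or.inl ⟨h0, h2, h1⟩), Or.inl (Or.inr ⟨h0, h1, h2⟩),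
      Or.inr (Or.inr ⟨h0, h2, h1⟩)]
  | ominus n => rcases h with ⟨h1, h2⟩ | ⟨h1, h2⟩; exacts [Or.inl ⟨h1, h2⟩, Or.inr ⟨h2, h1⟩]
  | _ => exact h.elim

theorem pairH_coprime {t : Fam} {i j q : ℕ} (h : PairH t i j) (hn : 3 ≤ rk t) (hq : q % 2 = 1) (hq3 : 3 ≤ q) :
    Nat.Coprime (ttor t q i) (ttor t q j) := by
  cases t with
  | psl n =>
    obtain ⟨h1, h2⟩ := h
    change 3 ≤ n at hn
    have e1 : ttor (.psl n) q i = (q ^ n - 1) / ((q - 1) * Nat.gcd n (q - 1)) := by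
      change (if i = n then _ else _) = _
      rw [if_pos h1]
    have e2 : ttor (.psl n) q j = (q ^ (n - 1) - 1) / Nat.gcd n (q - 1) := by
      change (if j = n then _ else _) = _
      rw [if_neg (by omega)]
    rw [e1, e2]
    exact cop_psl (by omega) (by omega)
  | psu n =>
    obtain ⟨h1, h2⟩ := h
    change 3 ≤ n at hn
    have e1 : ttor (.psu n) q i = (if n % 2 = 0 then q ^ n - 1 else q ^ n + 1) / ((q + 1) * Nat.gcd n (q + 1)) := by
      change (if i = n then _ else _) = _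
      rw [if_pos h1]
    have e2 : ttor (.psu n) q j = (if n % 2 = 0 then q ^ (n - 1) + 1 else q ^ (n - 1) - 1) / Nat.gcd n (q + 1) := by
      change (if j = n then _ else _) = _
      rw [if_neg (by omega)]
    rw [e1, e2]
    have hqn := Nat.one_le_pow n q (by omega)
    have hqn' := Nat.one_le_pow (n - 1) q (by omega)
    refine cop_psu (by omega) (by omega) ?_ ?_
    · rcases Nat.mod_two_eq_zero_or_one n with h3 | h3
      · have he : Even n := Nat.even_iff.2 h3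
        rw [if_pos h3, he.neg_pow, he.neg_pow, one_pow, Nat.cast_sub hqn]
        push_cast; ring
      · have he : Odd n := Nat.odd_iff.2 h3
        rw [if_neg (by omega), he.neg_pow, he.neg_pow, one_pow]
        push_cast; ring
    · rcases Nat.mod_two_eq_zero_or_one n with h3 | h3
      · have he : Odd (n - 1) := Nat.odd_iff.2 (by omega)
        rw [if_pos h3, he.neg_pow, he.neg_pow, one_pow]
        push_cast; ring
      · have he : Even (n - 1) := Nat.even_iff.2 (by omega)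
        rw [if_neg (by omega), he.neg_pow, he.neg_pow, one_pow, Nat.cast_sub hqn']
        push_cast; ring
  | psp n =>
    obtain ⟨h0, h1, h2⟩ := h
    change 3 ≤ n at hn
    have e1 : ttor (.psp n) q i = (q ^ n - 1) / 2 := by
      change (if i = 2 * n then _ else _) = _
      rw [if_neg (by omega), gcd_two_of_odd hq]
    have e2 : ttor (.psp n) q j = (q ^ n + 1) / 2 := by
      change (if j = 2 * n then _ else _) = _
      rw [if_pos h2, gcd_two_of_odd hq]
    rw [e1, e2]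
    exact half_cop hq (by omega)
  | oodd n =>
    obtain ⟨h0, h1, h2⟩ := h
    change 3 ≤ n at hn
    have e1 : ttor (.oodd n) q i = (q ^ n - 1) / 2 := by
      change (if i = 2 * n then _ else _) = _
      rw [if_neg (by omega), gcd_two_of_odd hq]
    have e2 : ttor (.oodd n) q j = (q ^ n + 1) / 2 := by
      change (if j = 2 * n then _ else _) = _
      rw [if_pos h2, gcd_two_of_odd hq]
    rw [e1, e2]
    exact half_cop hq (by omega)
  | oplus n =>
    change 3 ≤ n at hn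
    rcases h with ⟨h0, h1, h2⟩ | ⟨h0, h1, h2⟩
    · have e1 : ttor (.oplus n) q i = (q ^ n - 1) / Nat.gcd 4 (q ^ n - 1) := by
        change (if i = n then _ else _) = _
        rw [if_pos h1]
      have e2 : ttor (.oplus n) q j = (q ^ (n - 1) + 1) * (q + 1) / Nat.gcd 4 (q ^ n - 1) := by
        change (if j = n then _ else if j = n - 1 then _ else if n % 2 = 0 then _ else _) = _
        rw [if_neg (by omega), if_neg (by omega), if_neg (by omega)]
      rw [e1, e2]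
      exact cop_oplus hq h0
    · have e1 : ttor (.oplus n) q i = (q ^ (n - 1) - 1) / 2 := by
        change (if i = n then _ else if i = n - 1 then _ else _) = _
        rw [if_neg (by omega), if_pos h1, gcd_two_of_odd hq]
      have e2 : ttor (.oplus n) q j = (q ^ (n - 1) + 1) / 2 := by
        change (if j = n then _ else if j = n - 1 then _ else if n % 2 = 0 then _ else _) = _
        rw [if_neg (by omega), if_neg (by omega), if_pos h0, gcd_two_of_odd hq]
      rw [e1, e2]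
      exact half_cop hq (by omega)
  | ominus n =>
    obtain ⟨h1, h2⟩ := h
    change 3 ≤ n at hn
    have e1 : ttor (.ominus n) q i = (q ^ n + 1) / Nat.gcd 4 (q ^ n + 1) := by
      change (if i = 2 * n then _ else _) = _
      rw [if_pos h1]
    have e2 : ttor (.ominus n) q j = (q ^ (n - 1) + 1) * (q - 1) / Nat.gcd 4 (q ^ n + 1) := by
      change (if j = 2 * n then _ else if j = n - 1 then _ else _) = _
      rw [if_neg (by omega), if_neg (by omega)]
    rw [e1, e2]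
    exact cop_ominus hq (by omega)
  | _ => exact h.elim

/-- **The two isolated numbers are coprime.** -/
theorem pair_coprime {t : Fam} {i j q : ℕ} (h : PairOK t i j) (hn : 3 ≤ rk t) (hq : q % 2 = 1) (hq3 : 3 ≤ q) :
    Nat.Coprime (ttor t q i) (ttor t q j) := by
  rcases pair_or h with h1 | h1
  · exact pairH_coprime h1 hn hq hq3
  · exact (pairH_coprime h1 hn hq hq3).symm

/-! ### `|Out S|` -/

theorem le_of_mul_card {a b s : ℕ} (hs : 0 < s) (h : a * s = b * s) : a = b := Nat.eq_of_mul_eq_mul_right hs h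

/-- **The order of the outer automorphism group.** -/
theorem out_le {t : Fam} (ht : BigS t) {v f : ℕ} {S : Type u} [Group S] [Finite S]
    (hZ : center S = ⊥) (hv : v.Prime) (h : Fam.Is v f S t) : Nat.card (Cfsg.Out S) ≤ outB t v f := by
  have hfin := mulAut_finite S
  have h1 : Nat.card (MulAut S) = Nat.card (Cfsg.Out S) * Nat.card S := by
    have h2 : Nat.card (MulAut S) = Nat.card (Cfsg.Out S) * Nat.card (Cfsg.Inn S) :=
      Subgroup.card_eq_card_quotient_mul_card_subgroup _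
    rwa [card_inn hZ] at h2
  obtain ⟨hc, n1, n2, n3, n4⟩ := ht
  have hvf := Fact.mk hv
  have key : ∀ {M : Type} [Group M] (e : S ≃* M) {b : ℕ}, Nat.card (MulAut M) ≤ b * Nat.card M →
      Nat.card (Cfsg.Out S) ≤ b := by
    intro M _ e b hb
    rw [Nat.card_congr (MulAut.congr e).toEquiv.symm, Nat.card_congr e.toEquiv.symm, h1] at hb
    exact Nat.le_of_mul_le_mul_right hb Nat.card_pos
  cases t with
  | psl n =>
    obtain ⟨hn, h4, F, _, _, _, hF, ⟨e⟩⟩ := h
    have hf := one_le_of_card (F := F) (by rw [Nat.card_eq_fintype_card, hF])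
    refine key e ?_
    have hcard := S0813.result v f hf hF n hn h4
    rw [Cfsg.Agent.H183.OutPSL.card_pgl_eq hn, hF] at hcard
    rw [hcard]
    change _ ≤ 2 * Nat.gcd n (v ^ f - 1) * f * _
    have hn2 : ¬ n = 2 := fun hn2 => n1 (by rw [hn2])
    rw [if_neg hn2]
    apply le_of_eq; ring
  | psu n =>
    obtain ⟨hn, h4, F, _, _, _, hF, ⟨e⟩⟩ := h
    have hF' : Nat.card F = v ^ (2 * f) := by rw [Nat.card_eq_fintype_card, hF, ← pow_mul, mul_comm]
    have hf2 := one_le_of_card hF'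
    have hf : 1 ≤ f := by omega
    refine key e ?_
    rw [S0815.result v f hf rfl hF n hn h4]
    change _ ≤ 2 * Nat.gcd n (v ^ f + 1) * f * _
    apply le_of_eq; ring
  | psp n =>
    obtain ⟨hn, h4, F, _, _, _, hF, ⟨e⟩⟩ := h
    have hf := one_le_of_card (F := F) (by rw [Nat.card_eq_fintype_card, hF])
    refine key e ?_
    rw [S0814.result v f hf hF n hn h4]
    change _ ≤ 2 * f * _
    have hn2 : ¬ (n = 2 ∧ v = 2) := fun hn2 => n4 (by rw [hn2.1])
    rw [if_neg hn2]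
    have h6 : Nat.gcd 2 (v ^ f - 1) ≤ 2 := Nat.gcd_le_left _ (by norm_num)
    refine Nat.mul_le_mul_right _ ?_
    nlinarith
  | oodd n =>
    obtain ⟨hn, h4, F, _, _, _, hF, ⟨e⟩⟩ := h
    have hf := one_le_of_card (F := F) (by rw [Nat.card_eq_fintype_card, hF])
    have hvo : Odd v := (Nat.odd_pow_iff (by omega)).1 h4
    refine key e (le_of_eq ?_)
    exact S0816.result v f hf hF hvo n hn
  | oplus n =>
    obtain ⟨hn, F, _, _, _, hF, ⟨e⟩⟩ := h
    have hf := one_le_of_card (F := F) (by rw [Nat.card_eq_fintype_card, hF])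
    refine key e ?_
    rw [S0817.result v f hf hF n hn]
    change _ ≤ (if n = 4 then 24 * f else 8 * f) * _
    have h7 : (if v = 2 then 2 else (if Even (n * (v ^ f - 1) / 2) then 8 else 4)) ≤ 8 := by
      split_ifs <;> norm_num
    refine Nat.mul_le_mul_right _ ?_
    by_cases h8 : n = 4
    · rw [if_pos h8, if_pos h8]
      nlinarith
    · rw [if_neg h8, if_neg h8]
      nlinarith
  | ominus n =>
    obtain ⟨hn, F, _, _, _, a, b, hF, hab, ⟨e⟩⟩ := h
    have hf := one_le_of_card (F := F) (by rw [Nat.card_eq_fintype_card, hF])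
    refine key e ?_
    rw [S0818.result v f hf hF n hn a b hab]
    change _ ≤ 8 * f * _
    have h7 : (if v = 2 then 2 else (if Even (n * (v ^ f - 1) / 2) then 4 else 8)) ≤ 8 := by
      split_ifs <;> norm_num
    refine Nat.mul_le_mul_right _ ?_
    nlinarith
  | g2 => exact hc.elim
  | f4 => exact hc.elim
  | e6 => exact hc.elim
  | e7 => exact hc.elim
  | e8 => exact hc.elim
  | td4 => exact hc.elim
  | te6 => exact hc.elim
  | sz => exact hc.elim
  | tf4 => exact hc.elim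
  | ree => exact hc.elim

end Cfsg.Agent.R2.Spec.F1
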