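import Cfsg.Agent.R2.Spec.F1.RegJ
import Cfsg.Agent.R2.Spec.F1.PairCop
import Cfsg.Agent.R2.Spec.P1.TopTwo

/-!
# The two isolated numbers (helper23): existence of the `Duel`

* `order_fac2` : the order of an element of `G` is `κ h E` with `κ ∣ |K|`, `h ∣ |G / K : S|`, `E` an order of `S`;
* `exists_duel` : `RegT t`, `t` not `psp n`, `oodd n` with `n` even.
-/

set_option autoImplicit false
set_option linter.unusedSectionVars false
set_option linter.unusedVariables false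

namespace Cfsg.Agent.R2.Spec.F1

open Subgroup Cfsg
open Cfsg.Agent.H426.LieFam Cfsg.Agent.R2.Spec Cfsg.Agent.R2.Spec.P1
open Cfsg.Agent.H420.QR
open Cfsg.Agent.R2.Spec.E (PairOK outB Duel)

universe u w

/-- **The order of an element.** -/
theorem order_fac2 {G : Type u} [Group G] [Finite G] {K : Subgroup G} [K.Normal] {S : Subgroup (G ⧸ K)} [S.Normal]
    (x : G) : ∃ κ h E, orderOf x = κ * h * E ∧ κ ∣ Nat.card K ∧ h ∣ S.index ∧ ∃ y : S, orderOf y = E := by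
  obtain ⟨a, ha⟩ : ∃ a, a = QuotientGroup.mk' K x := ⟨_, rfl⟩
  have h1 : orderOf a ∣ orderOf x := by
    rw [ha]
    exact orderOf_map_dvd _ _
  have ha0 : orderOf a ≠ 0 := (orderOf_pos _).ne'
  have h2 : x ^ orderOf a ∈ K := by
    rw [← QuotientGroup.eq_one_iff]
    change QuotientGroup.mk' K (x ^ orderOf a) = 1
    rw [map_pow, ← ha, pow_orderOf_eq_one]
  have h3 : orderOf (x ^ orderOf a) ∣ Nat.card K := by
    rw [← Subgroup.orderOf_mk _ h2]
    exact orderOf_dvd_natCard _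
  rw [orderOf_pow_of_dvd ha0 h1] at h3
  obtain ⟨h, hh⟩ : ∃ h, h = orderOf (QuotientGroup.mk' S a) := ⟨_, rfl⟩
  have h4 : h ∣ S.index := by
    rw [hh]
    exact orderOf_dvd_natCard _
  have h5 : h ∣ orderOf a := by
    rw [hh]
    exact orderOf_map_dvd _ _
  have h6 : a ^ h ∈ S := by
    rw [← QuotientGroup.eq_one_iff]
    change QuotientGroup.mk' S (a ^ h) = 1
    rw [map_pow, hh, pow_orderOf_eq_one]
  have h0 : h ≠ 0 := by
    rw [hh]
    exact (orderOf_pos _).ne'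
  refine ⟨orderOf x / orderOf a, h, orderOf a / h, ?_, h3, h4, ⟨a ^ h, h6⟩, ?_⟩
  · rw [mul_assoc, Nat.mul_div_cancel' h5, Nat.div_mul_cancel h1]
  · rw [Subgroup.orderOf_mk, orderOf_pow_of_dvd h0 h5]

/-- **The order of the outer automorphism group divides `outB`.** -/
theorem out_dvd {t : Fam} (ht : BigS t) {v f : ℕ} {S : Type u} [Group S] [Finite S]
    (hZ : center S = ⊥) (hv : v.Prime) (h : Fam.Is v f S t) : Nat.card (Cfsg.Out S) ∣ outB t v f := by
  have hfin := mulAut_finite S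
  have h1 : Nat.card (MulAut S) = Nat.card (Cfsg.Out S) * Nat.card S := by
    have h2 : Nat.card (MulAut S) = Nat.card (Cfsg.Out S) * Nat.card (Cfsg.Inn S) :=
      Subgroup.card_eq_card_quotient_mul_card_subgroup _
    rwa [card_inn hZ] at h2
  obtain ⟨hc, n1, n2, n3, n4⟩ := ht
  have hvf := Fact.mk hv
  have key : ∀ {M : Type} [Group M] (e : S ≃* M) {b : ℕ}, Nat.card (MulAut M) ∣ b * Nat.card M →
      Nat.card (Cfsg.Out S) ∣ b := by
    intro M _ e b hb
    rw [Nat.card_congr (MulAut.congr e).toEquiv.symm, Nat.card_congr e.toEquiv.symm, h1] at hb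
    exact Nat.dvd_of_mul_dvd_mul_right Nat.card_pos hb
  cases t with
  | psl n =>
    obtain ⟨hn, h4, F, _, _, _, hF, ⟨e⟩⟩ := h
    have hf := one_le_of_card (F := F) (by rw [Nat.card_eq_fintype_card, hF])
    refine key e ?_
    have hcard := S0813.result v f hf hF n hn h4
    rw [Cfsg.Agent.H183.OutPSL.card_pgl_eq hn, hF] at hcard
    rw [hcard]
    change _ ∣ 2 * Nat.gcd n (v ^ f - 1) * f * _
    have hn2 : ¬ n = 2 := fun hn2 => n1 (by rw [hn2])
    rw [if_neg hn2]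
    apply dvd_of_eq; ring
  | psu n =>
    obtain ⟨hn, h4, F, _, _, _, hF, ⟨e⟩⟩ := h
    have hF' : Nat.card F = v ^ (2 * f) := by rw [Nat.card_eq_fintype_card, hF, ← pow_mul, mul_comm]
    have hf2 := one_le_of_card hF'
    have hf : 1 ≤ f := by omega
    refine key e ?_
    rw [S0815.result v f hf rfl hF n hn h4]
    change _ ∣ 2 * Nat.gcd n (v ^ f + 1) * f * _
    apply dvd_of_eq; ring
  | psp n =>
    obtain ⟨hn, h4, F, _, _, _, hF, ⟨e⟩⟩ := h
    have hf := one_le_of_card (F := F) (by rw [Nat.card_eq_fintype_card, hF])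
    refine key e ?_
    rw [S0814.result v f hf hF n hn h4]
    change _ ∣ 2 * f * _
    have hn2 : ¬ (n = 2 ∧ v = 2) := fun hn2 => n4 (by rw [hn2.1])
    rw [if_neg hn2, one_mul]
    exact Nat.mul_dvd_mul_right (Nat.mul_dvd_mul_right (Nat.gcd_dvd_left _ _) _) _
  | oodd n =>
    obtain ⟨hn, h4, F, _, _, _, hF, ⟨e⟩⟩ := h
    have hf := one_le_of_card (F := F) (by rw [Nat.card_eq_fintype_card, hF])
    have hvo : Odd v := (Nat.odd_pow_iff (by omega)).1 h4
    exact key e (dvd_of_eq (S0816.result v f hf hF hvo n hn))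
  | oplus n =>
    obtain ⟨hn, F, _, _, _, hF, ⟨e⟩⟩ := h
    have hf := one_le_of_card (F := F) (by rw [Nat.card_eq_fintype_card, hF])
    refine key e ?_
    rw [S0817.result v f hf hF n hn]
    change _ ∣ (if n = 4 then 24 * f else 8 * f) * _
    have h7 : (if v = 2 then 2 else (if Even (n * (v ^ f - 1) / 2) then 8 else 4)) ∣ 8 := by
      split_ifs
      · exact ⟨4, by norm_num⟩
      · exact dvd_rfl
      · exact ⟨2, by norm_num⟩
    refine Nat.mul_dvd_mul_right ?_ _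
    by_cases h8 : n = 4
    · rw [if_pos h8, if_pos h8, show (24 : ℕ) = 3 * 8 by norm_num]
      exact Nat.mul_dvd_mul_right (Nat.mul_dvd_mul dvd_rfl h7) _
    · rw [if_neg h8, if_neg h8, one_mul]
      exact Nat.mul_dvd_mul_right h7 _
  | ominus n =>
    obtain ⟨hn, F, _, _, _, a, b, hF, hab, ⟨e⟩⟩ := h
    have hf := one_le_of_card (F := F) (by rw [Nat.card_eq_fintype_card, hF])
    refine key e ?_
    rw [S0818.result v f hf hF n hn a b hab]
    change _ ∣ 8 * f * _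
    have h7 : (if v = 2 then 2 else (if Even (n * (v ^ f - 1) / 2) then 4 else 8)) ∣ 8 := by
      split_ifs
      · exact ⟨4, by norm_num⟩
      · exact ⟨2, by norm_num⟩
      · exact dvd_rfl
    exact Nat.mul_dvd_mul_right (Nat.mul_dvd_mul_right h7 _) _
  | g2 => exact hc.elim
  | f4 => exact hc.elim
  | e6 => exact hc.elim
  | e7 => exact hc.elim
  | e8 => exact hc.elim
  | td4 => exact hc.elim
  | te6 => exact hc.elim
  | sz => exact hc.elim
  | tf4 => exact hc.elim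
  | ree => exact hc.elim

/-- the isolated classes -/
theorem top_of_iso {t : Fam} (ht : Classical t) {i : ℕ} (h3 : 3 ≤ i) (hm : mem t i) (hi : nap t i) : top t i := by
  cases t with
  | psl n =>
    change i ≤ n at hm
    change n < i + 2 at hi
    exact ⟨h3, by omega⟩
  | psu n =>
    change i ≤ n at hm
    change n < i + 2 at hi
    exact ⟨h3, by omega⟩
  | psp n =>
    change eta i ≤ n at hm
    change n < eta i + 1 at hi
    change i = 2 * n ∨ (i = n ∧ n % 2 = 1)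
    rcases eta_cases i with ⟨h1, h2⟩ | ⟨h1, h2⟩
    · rw [Nat.odd_iff] at h1
      omega
    · omega
  | oodd n =>
    change eta i ≤ n at hm
    change n < eta i + 1 at hi
    change i = 2 * n ∨ (i = n ∧ n % 2 = 1)
    rcases eta_cases i with ⟨h1, h2⟩ | ⟨h1, h2⟩
    · rw [Nat.odd_iff] at h1
      omega
    · omega
  | oplus n =>
    change eta i + 1 ≤ n ∨ (i = n ∧ n % 2 = 1) at hm
    change n < eta i + 2 at hi
    change (i = n ∧ n % 2 = 1) ∨ i = 2 * (n - 1) ∨ (i = n - 1 ∧ n % 2 = 0)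
    rcases eta_cases i with ⟨h1, h2⟩ | ⟨h1, h2⟩
    · rw [Nat.odd_iff] at h1
      omega
    · rw [Nat.even_iff] at h1
      omega
  | ominus n =>
    change eta i + 1 ≤ n ∨ i = 2 * n at hm
    change n < eta i + 2 at hi
    change i = 2 * n ∨ i = 2 * (n - 1) ∨ (i = n - 1 ∧ n % 2 = 0)
    rcases eta_cases i with ⟨h1, h2⟩ | ⟨h1, h2⟩
    · rw [Nat.odd_iff] at h1
      omega
    · omega
  | _ => exact ht.elim

theorem pair_left {t : Fam} {i j : ℕ} (h : PairOK t i j) (hn : 5 ≤ rk t) :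
    3 ≤ i ∧ mem t i ∧ nap t i ∧ rk t < 2 * wt t i ∧ i ≠ j := by
  cases t with
  | psl n =>
    change 5 ≤ n at hn
    change (i = n ∧ j + 1 = n) ∨ (i + 1 = n ∧ j = n) at h
    exact ⟨by omega, show i ≤ n by omega, show n < i + 2 by omega, show n < 2 * i by omega, by omega⟩
  | psu n =>
    change 5 ≤ n at hn
    change (i = n ∧ j + 1 = n) ∨ (i + 1 = n ∧ j = n) at h
    exact ⟨by omega, show i ≤ n by omega, show n < i + 2 by omega, show n < 2 * i by omega, by omega⟩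
  | psp n =>
    change 5 ≤ n at hn
    change n % 2 = 1 ∧ ((i = n ∧ j = 2 * n) ∨ (i = 2 * n ∧ j = n)) at h
    have h1 : eta i = n := by
      rcases h.2 with h2 | h2
      · rw [h2.1]; exact eta_odd h.1
      · rw [h2.1]; exact eta_two_mul' n
    exact ⟨by omega, show eta i ≤ n by omega, show n < eta i + 1 by omega, show n < 2 * eta i by omega, by omega⟩
  | oodd n =>
    change 5 ≤ n at hn
    change n % 2 = 1 ∧ ((i = n ∧ j = 2 * n) ∨ (i = 2 * n ∧ j = n)) at h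
    have h1 : eta i = n := by
      rcases h.2 with h2 | h2
      · rw [h2.1]; exact eta_odd h.1
      · rw [h2.1]; exact eta_two_mul' n
    exact ⟨by omega, show eta i ≤ n by omega, show n < eta i + 1 by omega, show n < 2 * eta i by omega, by omega⟩
  | oplus n =>
    change 5 ≤ n at hn
    have e := eta_two_mul' (n - 1)
    rcases h with ⟨h0, ⟨h1, h2⟩ | ⟨h1, h2⟩⟩ | ⟨h0, ⟨h1, h2⟩ | ⟨h1, h2⟩⟩
    · have h3 : eta i = n := by rw [h1]; exact eta_odd h0
      exact ⟨by omega, Or.inr ⟨h1, h0⟩, show n < eta i + 2 by omega, show n < 2 * eta i by omega, by omega⟩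
    · rw [← h1] at e
      exact ⟨by omega, Or.inl (by omega), show n < eta i + 2 by omega, show n < 2 * eta i by omega, by omega⟩
    · have h3 : eta i = n - 1 := by rw [h1]; exact eta_odd (by omega)
      exact ⟨by omega, Or.inl (by omega), show n < eta i + 2 by omega, show n < 2 * eta i by omega, by omega⟩
    · rw [← h1] at e
      exact ⟨by omega, Or.inl (by omega), show n < eta i + 2 by omega, show n < 2 * eta i by omega, by omega⟩
  | ominus n =>
    change 5 ≤ n at hn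
    have e := eta_two_mul' (n - 1)
    have e' := eta_two_mul' n
    rcases h with ⟨h1, h2⟩ | ⟨h1, h2⟩
    · rw [← h1] at e'
      exact ⟨by omega, Or.inr h1, show n < eta i + 2 by omega, show n < 2 * eta i by omega, by omega⟩
    · rw [← h1] at e
      exact ⟨by omega, Or.inl (by omega), show n < eta i + 2 by omega, show n < 2 * eta i by omega, by omega⟩
  | _ => exact h.elim

theorem exists_pair {t : Fam} (ht : Classical t) (hex : ∀ n, (t = .psp n ∨ t = .oodd n) → n % 2 = 1) (hn : 5 ≤ rk t) :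
    ∃ i j, PairOK t i j := by
  cases t with
  | psl n =>
    change 5 ≤ n at hn
    exact ⟨n, n - 1, Or.inl ⟨rfl, by omega⟩⟩
  | psu n =>
    change 5 ≤ n at hn
    exact ⟨n, n - 1, Or.inl ⟨rfl, by omega⟩⟩
  | psp n => exact ⟨n, 2 * n, hex n (Or.inl rfl), Or.inl ⟨rfl, rfl⟩⟩
  | oodd n => exact ⟨n, 2 * n, hex n (Or.inr rfl), Or.inl ⟨rfl, rfl⟩⟩
  | oplus n =>
    rcases Nat.mod_two_eq_zero_or_one n with h | h
    · exact ⟨n - 1, 2 * (n - 1), Or.inr ⟨h, Or.inl ⟨rfl, rfl⟩⟩⟩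
    · exact ⟨n, 2 * (n - 1), Or.inl ⟨h, Or.inl ⟨rfl, rfl⟩⟩⟩
  | ominus n => exact ⟨2 * n, 2 * (n - 1), Or.inl ⟨rfl, rfl⟩⟩
  | _ => exact ht.elim

section

variable {t : Fam} {p f : ℕ} {L : Type w} [Group L] [Finite L] {G : Type u} [Group G] [Finite G]
variable {K : Subgroup G} [K.Normal] {S : Subgroup (G ⧸ K)} [S.Normal]
variable {t' : Fam} {v f' : ℕ}

/-- **One of the two isolated numbers, prime to the characteristic of `S`.** -/
theorem LS.clean (h : LS t p f L G) (hL : Fam.Is p f L t) (hR : Red G K S) (hF : Frm G K S t' v f') (hS : BigS t')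
    (hp2 : p ≠ 2) (hT : IsoRk t) (hn : 5 ≤ rk t) {i j : ℕ} (hij : PairOK t i j) (hv : ¬ v ∣ ttor t (p ^ f) i) :
    ∃ i' H : ℕ, top t' i' ∧ 3 ≤ i' ∧ mem t' i' ∧ nap t' i' ∧
      (∀ r : ℕ, r.Prime → cls t (p ^ f) r = i → r ≠ v ∧ r ∣ Nat.card S ∧ cls t' (v ^ f') r = i') ∧
      ttor t (p ^ f) i = H * ttor t' (v ^ f') i' ∧ (∀ r : ℕ, r.Prime → cls t (p ^ f) r = i → ¬ r ∣ H) ∧
      ∃ h κ : ℕ, H ∣ h * κ ∧ 1 ≤ h ∧ h ∣ Nat.card (Cfsg.Out S) ∧ h ∣ outB t' v f' ∧ 1 ≤ κ ∧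
        κ ∣ ttor t (p ^ f) i ∧
        (κ ≠ 1 → ∀ w : ℕ, In t (p ^ f) j w → 3 ≤ cls t' (v ^ f') w ∧ An t' (cls t' (v ^ f') w)) ∧
        ∀ s : ℕ, s.Prime → s ∣ κ → s ∣ Nat.card K ∧ s ≠ v ∧ s ≠ p ∧ cls t (p ^ f) s ≤ 2 := by
  have hq3 := h.q_three hp2
  obtain ⟨hi3, him, hin, hib, hije⟩ := pair_left hij hn
  obtain ⟨hj3, hjm, hjn, hjb, -⟩ := pair_left (pair_symm hij) hn
  have htopi := top_of_iso h.cla hi3 him hin
  have htopj := top_of_iso h.cla hj3 hjm hjn
  have htf := top_facts_all h.cla h.prime hL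
  have htf' := top_facts_all hF.cla hF.prime hF.is
  obtain ⟨M, hM⟩ : ∃ M, M = ttor t (p ^ f) i := ⟨_, rfl⟩
  obtain ⟨xL, hxL⟩ := htf.elt _ htopi
  rw [← hM] at hxL
  -- the orders divisible by a prime of the class `i`
  have hub : ∀ {r o : ℕ}, In t (p ^ f) i r → r ∣ o → (∃ g : G, orderOf g = o) → o ∣ M := by
    intro r o hr hro hg
    obtain ⟨y, hy⟩ := (h.ord _).1 hg
    have := htf.ub r hr.prime (hr.not_dvd h.fpos) (by rw [hr.cls_eq]; exact htopi) y (by rw [hy]; exact hro)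
    rw [hr.cls_eq, hy, ← hM] at this
    exact this
  have hubj : ∀ {r o : ℕ}, In t (p ^ f) j r → r ∣ o → (∃ g : G, orderOf g = o) → o ∣ ttor t (p ^ f) j := by
    intro r o hr hro hg
    obtain ⟨y, hy⟩ := (h.ord _).1 hg
    have := htf.ub r hr.prime (hr.not_dvd h.fpos) (by rw [hr.cls_eq]; exact htopj) y (by rw [hy]; exact hro)
    rw [hr.cls_eq, hy] at this
    exact this
  -- the primes of the class `i`
  have hgood : ∀ {r : ℕ}, In t (p ^ f) i r → ¬ r ∣ Nat.card K * S.index ∧ r ∣ Nat.card S := fun {r} hr =>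
    h.good_iso hR hF hp2 hT hr.prime (by rw [hr.cls_eq]; exact hi3) (by rw [hr.cls_eq]; exact him)
      (by rw [hr.cls_eq]; exact hin)
  have hdvd : ∀ {r : ℕ}, In t (p ^ f) i r → r ∣ M := by
    intro r hr
    have hfr := Fact.mk hr.prime
    obtain ⟨g, hg⟩ := exists_prime_orderOf_dvd_card' (G := G) r (hr.dvd h)
    exact hub hr dvd_rfl ⟨g, hg⟩
  have hnev : ∀ {r : ℕ}, In t (p ^ f) i r → r ≠ v := by
    rintro r hr rfl
    exact hv (by rw [← hM]; exact hdvd hr)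
  have hnap : ∀ {r : ℕ}, In t (p ^ f) i r → 3 ≤ cls t' (v ^ f') r ∧ nap t' (cls t' (v ^ f') r) := by
    intro r hr
    refine hF.v_nap hS hr.prime hr.ne_two (hnev hr) (hgood hr).2 fun hg => ?_
    have := hub hr (Dvd.intro_left _ rfl) (exists_of_S hg)
    exact hv (by rw [← hM]; exact (Dvd.intro _ rfl).trans this)
  obtain ⟨w0, hw0⟩ := exists_in h hq3 hi3 him
  obtain ⟨a1, a2⟩ := hnap hw0
  have hm0 := hF.mem_cls hw0.prime hw0.ne_two (hgood hw0).2 a1
  have huniq : ∀ r : ℕ, r.Prime → cls t (p ^ f) r = i → cls t' (v ^ f') r = cls t' (v ^ f') w0 := by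
    intro r hr hri
    have hrI : In t (p ^ f) i r := ⟨hr, hri, hi3, him⟩
    by_cases e : r = w0
    · rw [e]
    obtain ⟨b1, b2⟩ := hnap hrI
    refine hF.same_top hS hr hw0.prime e (hgood hrI).2 (hgood hw0).2 b1 a1 (hF.nap_big hS b2) (hF.nap_big hS a2)
      (adj_S_of_good hr hw0.prime (hgood hrI).1 (hgood hw0).1 ?_)
    rw [h.adj_iff hrI hw0 e]
    exact fun hna => na_ne hna rfl
  have htop' := top_of_iso hF.cla a1 hm0 a2
  obtain ⟨P, hP⟩ : ∃ P, P = ttor t' (v ^ f') (cls t' (v ^ f') w0) := ⟨_, rfl⟩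
  -- the decomposition
  obtain ⟨x, hx⟩ := (h.ord M).2 ⟨xL, hxL⟩
  obtain ⟨κ, a, E, hE, hκ, ha, y, hy⟩ := order_fac2 (K := K) (S := S) x
  rw [hx] at hE
  have hwM := hdvd hw0
  have hwE : w0 ∣ E := by
    rw [hE] at hwM
    rcases hw0.prime.dvd_mul.1 hwM with h1 | h1
    · exfalso
      rcases hw0.prime.dvd_mul.1 h1 with h2 | h2
      · exact (hgood hw0).1 ((h2.trans hκ).mul_right _)
      · exact (hgood hw0).1 (Dvd.dvd.mul_left (h2.trans ha) _)
    · exact h1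
  have hEP : E ∣ P := by
    have := htf'.ub w0 hw0.prime (fun hd => (cls_facts hw0.prime a1).2.1 (hd.trans (dvd_pow_self v hF.f_ne))) htop' y
      (by rw [hy]; exact hwE)
    rwa [hy, ← hP] at this
  have hPM : P ∣ M := by
    obtain ⟨y', hy'⟩ := htf'.elt _ htop'
    rw [← hP] at hy'
    exact hub hw0 (hwE.trans hEP) (exists_of_S ⟨y', hy'⟩)
  have hM0 : M ≠ 0 := by
    rw [← hxL]
    exact (orderOf_pos xL).ne'
  obtain ⟨H, hH⟩ := hPM
  obtain ⟨c, hc⟩ := hEP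
  have hP0 : P ≠ 0 := by
    rintro rfl
    rw [zero_mul] at hH
    exact hM0 hH
  have hE0 : E ≠ 0 := by
    rintro rfl
    rw [zero_mul] at hc
    exact hP0 hc
  have hκ0 : κ ≠ 0 := by
    rintro rfl
    rw [zero_mul, zero_mul] at hE
    exact hM0 hE
  have ha0 : a ≠ 0 := by
    rintro rfl
    rw [mul_zero, zero_mul] at hE
    exact hM0 hE
  have hHd : H ∣ a * κ := by
    have h1 : E * (c * H) = E * (a * κ) := by
      calc E * (c * H) = (E * c) * H := by ring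
        _ = P * H := by rw [← hc]
        _ = M := hH.symm
        _ = κ * a * E := hE
        _ = E * (a * κ) := by ring
    have h2 := Nat.eq_of_mul_eq_mul_left (Nat.pos_of_ne_zero hE0) h1
    exact ⟨c, by rw [← h2]; ring⟩
  have hfin := mulAut_finite S
  have hfinO : Finite (Cfsg.Out S) := Quotient.finite _
  have haO : a ∣ Nat.card (Cfsg.Out S) := ha.trans hF.index_dvd_out
  have hOpos : 0 < Nat.card (Cfsg.Out S) := Nat.card_pos
  have hκM : κ ∣ M := by rw [hE, mul_assoc]; exact Dvd.intro _ rfl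
  have hcop := pair_coprime hij (by omega) (h.q_odd hp2) hq3
  rw [← hM] at hcop
  have hKs : ∀ s : ℕ, s.Prime → s ∣ κ → s ≠ v ∧ s ≠ p ∧ cls t (p ^ f) s ≤ 2 := by
    intro s hs hsκ
    have hsM := hsκ.trans hκM
    have hsv : s ≠ v := by
      rintro rfl
      exact hv (by rw [← hM]; exact hsM)
    refine ⟨hsv, ?_, h.kprime_cls hR hF hS hn hq3 hs hsv (hsκ.trans hκ)⟩
    rintro rfl
    have hsw : w0 ≠ s := fun e => hw0.not_dvd h.fpos (by rw [e])
    have h1 : ∃ g : G, orderOf g = w0 * s :=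
      exists_dvd_order hM0 (((Nat.coprime_primes hw0.prime hs).2 hsw).mul_dvd_of_dvd_of_dvd hwM hsM) ⟨x, hx⟩
    exact (h.adjp_iff hw0).1 h1 hin
  have hcopH : ∀ r : ℕ, r.Prime → cls t (p ^ f) r = i → ¬ r ∣ H := by
    intro r hr hri hd
    have hrI : In t (p ^ f) i r := ⟨hr, hri, hi3, him⟩
    rcases hr.dvd_mul.1 (hd.trans hHd) with h1 | h1
    · exact (hgood hrI).1 (Dvd.dvd.mul_left (h1.trans ha) _)
    · exact (hgood hrI).1 ((h1.trans hκ).mul_right _)
  refine ⟨cls t' (v ^ f') w0, H, htop', a1, hm0, a2, fun r hr hri => ⟨hnev ⟨hr, hri, hi3, him⟩,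
    (hgood ⟨hr, hri, hi3, him⟩).2, huniq r hr hri⟩, by rw [← hM, ← hP, hH, mul_comm], hcopH, a, κ, hHd,
    Nat.pos_of_ne_zero ha0, haO, haO.trans (out_dvd hS hF.center hF.prime hF.is),
    Nat.pos_of_ne_zero hκ0, by rw [← hM]; exact hκM, ?_, fun s hs hsκ => ⟨hsκ.trans hκ, hKs s hs hsκ⟩⟩
  intro hκ1 w1 hw1
  obtain ⟨s, hs, hsκ⟩ := Nat.exists_prime_and_dvd hκ1
  obtain ⟨b1, b2, b3⟩ := hKs s hs hsκ
  have hg1 : ¬ w1 ∣ Nat.card K * S.index ∧ w1 ∣ Nat.card S :=
    h.good_iso hR hF hp2 hT hw1.prime (by rw [hw1.cls_eq]; exact hj3) (by rw [hw1.cls_eq]; exact hjm)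
      (by rw [hw1.cls_eq]; exact hjn)
  have hws : w1 ≠ s := by
    rintro rfl
    rw [hw1.cls_eq] at b3
    omega
  have hna : ¬ ∃ g : G, orderOf g = s * w1 := by
    intro hg
    have h1 := hubj hw1 (Dvd.intro_left _ rfl) hg
    have h2 : s ∣ ttor t (p ^ f) j := (Dvd.intro _ rfl).trans h1
    have h3 : s ∣ 1 := by
      rw [← hcop]
      exact Nat.dvd_gcd (hsκ.trans hκM) h2
    exact hs.one_lt.ne' (Nat.dvd_one.1 h3)
  exact (hF.k_an hS hs b1 (hsκ.trans hκ) hw1.prime hw1.ne_two hws hg1.2 hna).2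

/-- **The other number**, if its primes are isolated in `S`. -/
theorem LS.iso_num (h : LS t p f L G) (hL : Fam.Is p f L t) (hR : Red G K S) (hF : Frm G K S t' v f')
    (hp2 : p ≠ 2) (hT : IsoRk t) {j w : ℕ} (hw : In t (p ^ f) j w) (hj : nap t j) (h3 : 3 ≤ cls t' (v ^ f') w)
    (htop' : top t' (cls t' (v ^ f') w)) :
    ∃ H' : ℕ, ttor t (p ^ f) j = H' * ttor t' (v ^ f') (cls t' (v ^ f') w) ∧
      ∀ r : ℕ, r.Prime → cls t (p ^ f) r = j → ¬ r ∣ H' := by
  have htf := top_facts_all h.cla h.prime hL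
  have htf' := top_facts_all hF.cla hF.prime hF.is
  have htopj := top_of_iso h.cla hw.reg hw.mem hj
  obtain ⟨M, hM⟩ : ∃ M, M = ttor t (p ^ f) j := ⟨_, rfl⟩
  obtain ⟨xL, hxL⟩ := htf.elt _ htopj
  rw [← hM] at hxL
  have hub : ∀ {r o : ℕ}, In t (p ^ f) j r → r ∣ o → (∃ g : G, orderOf g = o) → o ∣ M := by
    intro r o hr hro hg
    obtain ⟨y, hy⟩ := (h.ord _).1 hg
    have := htf.ub r hr.prime (hr.not_dvd h.fpos) (by rw [hr.cls_eq]; exact htopj) y (by rw [hy]; exact hro)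
    rw [hr.cls_eq, hy, ← hM] at this
    exact this
  have hgood : ∀ {r : ℕ}, In t (p ^ f) j r → ¬ r ∣ Nat.card K * S.index ∧ r ∣ Nat.card S := fun {r} hr =>
    h.good_iso hR hF hp2 hT hr.prime (by rw [hr.cls_eq]; exact hr.reg) (by rw [hr.cls_eq]; exact hr.mem)
      (by rw [hr.cls_eq]; exact hj)
  have hwM : w ∣ M := by
    have hfr := Fact.mk hw.prime
    obtain ⟨g, hg⟩ := exists_prime_orderOf_dvd_card' (G := G) w (hw.dvd h)
    exact hub hw dvd_rfl ⟨g, hg⟩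
  obtain ⟨P, hP⟩ : ∃ P, P = ttor t' (v ^ f') (cls t' (v ^ f') w) := ⟨_, rfl⟩
  obtain ⟨x, hx⟩ := (h.ord M).2 ⟨xL, hxL⟩
  obtain ⟨κ, a, E, hE, hκ, ha, y, hy⟩ := order_fac2 (K := K) (S := S) x
  rw [hx] at hE
  have hwE : w ∣ E := by
    rw [hE] at hwM
    rcases hw.prime.dvd_mul.1 hwM with h1 | h1
    · exfalso
      rcases hw.prime.dvd_mul.1 h1 with h2 | h2
      · exact (hgood hw).1 ((h2.trans hκ).mul_right _)
      · exact (hgood hw).1 (Dvd.dvd.mul_left (h2.trans ha) _)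
    · exact h1
  have hEP : E ∣ P := by
    have := htf'.ub w hw.prime (fun hd => (cls_facts hw.prime h3).2.1 (hd.trans (dvd_pow_self v hF.f_ne))) htop' y
      (by rw [hy]; exact hwE)
    rwa [hy, ← hP] at this
  have hPM : P ∣ M := by
    obtain ⟨y', hy'⟩ := htf'.elt _ htop'
    rw [← hP] at hy'
    exact hub hw (hwE.trans hEP) (exists_of_S ⟨y', hy'⟩)
  have hM0 : M ≠ 0 := by
    rw [← hxL]
    exact (orderOf_pos xL).ne'
  obtain ⟨H, hH⟩ := hPM
  obtain ⟨c, hc⟩ := hEP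
  have hP0 : P ≠ 0 := by
    rintro rfl
    rw [zero_mul] at hH
    exact hM0 hH
  have hE0 : E ≠ 0 := by
    rintro rfl
    rw [zero_mul] at hc
    exact hP0 hc
  have hHd : H ∣ a * κ := by
    have h1 : E * (c * H) = E * (a * κ) := by
      calc E * (c * H) = (E * c) * H := by ring
        _ = P * H := by rw [← hc]
        _ = M := hH.symm
        _ = κ * a * E := hE
        _ = E * (a * κ) := by ring
    have h2 := Nat.eq_of_mul_eq_mul_left (Nat.pos_of_ne_zero hE0) h1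
    exact ⟨c, by rw [← h2]; ring⟩
  refine ⟨H, by rw [← hM, ← hP, hH, mul_comm], ?_⟩
  intro r hr hri hd
  have hrI : In t (p ^ f) j r := ⟨hr, hri, hw.reg, hw.mem⟩
  rcases hr.dvd_mul.1 (hd.trans hHd) with h1 | h1
  · exact (hgood hrI).1 (Dvd.dvd.mul_left (h1.trans ha) _)
  · exact (hgood hrI).1 ((h1.trans hκ).mul_right _)

/-- the radical meets at most one of the two numbers (apart from `v`) -/
theorem LS.not_both (h : LS t p f L G) (hL : Fam.Is p f L t) (hR : Red G K S) (hF : Frm G K S t' v f') (hS : BigS t')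
    (hp2 : p ≠ 2) (hT : IsoRk t) (hn : 5 ≤ rk t) {i j : ℕ} (hij : PairOK t i j) {s s' : ℕ} (hs : s.Prime)
    (hs' : s'.Prime) (hsv : s ≠ v) (hsv' : s' ≠ v) (hsK : s ∣ Nat.card K) (hsK' : s' ∣ Nat.card K)
    (hsM : s ∣ ttor t (p ^ f) i) (hsN : s' ∣ ttor t (p ^ f) j) : False := by
  have hq3 := h.q_three hp2
  have htf := top_facts_all h.cla h.prime hL
  have hcop := pair_coprime hij (by omega) (h.q_odd hp2) hq3
  have key : ∀ {i j : ℕ}, PairOK t i j → Nat.Coprime (ttor t (p ^ f) i) (ttor t (p ^ f) j) →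
      ∀ {s : ℕ}, s.Prime → s ≠ v → s ∣ Nat.card K → s ∣ ttor t (p ^ f) i → ∃ w, In t (p ^ f) j w ∧ w ∣ Nat.card S ∧
        w ≠ v ∧ An t' (cls t' (v ^ f') w) := by
    intro i j hij hcop s hs hsv hsK hsM
    obtain ⟨hj3, hjm, hjn, hjb, -⟩ := pair_left (pair_symm hij) hn
    obtain ⟨w1, hw1⟩ := exists_in h hq3 hj3 hjm
    have hgj : ¬ w1 ∣ Nat.card K * S.index ∧ w1 ∣ Nat.card S :=
      h.good_iso hR hF hp2 hT hw1.prime (by rw [hw1.cls_eq]; exact hj3) (by rw [hw1.cls_eq]; exact hjm)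
        (by rw [hw1.cls_eq]; exact hjn)
    have hws : w1 ≠ s := fun e => hgj.1 (by rw [e]; exact hsK.mul_right _)
    have hna : ¬ ∃ g : G, orderOf g = s * w1 := by
      intro hg
      obtain ⟨y, hy⟩ := (h.ord _).1 hg
      have h1 := htf.ub w1 hw1.prime (hw1.not_dvd h.fpos)
        (by rw [hw1.cls_eq]; exact top_of_iso h.cla hj3 hjm hjn) y (by rw [hy]; exact Dvd.intro_left _ rfl)
      rw [hw1.cls_eq, hy] at h1
      have h3 : s ∣ 1 := by
        rw [← hcop]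
        exact Nat.dvd_gcd hsM ((Dvd.intro _ rfl).trans h1)
      exact hs.one_lt.ne' (Nat.dvd_one.1 h3)
    obtain ⟨g1, g2, g3⟩ := hF.k_an hS hs hsv hsK hw1.prime hw1.ne_two hws hgj.2 hna
    exact ⟨w1, hw1, hgj.2, g1, g3⟩
  obtain ⟨w1, hw1, hw1S, hw1v, hw1A⟩ := key hij hcop hs hsv hsK hsM
  obtain ⟨w0, hw0, hw0S, hw0v, hw0A⟩ := key (pair_symm hij) hcop.symm hs' hsv' hsK' hsN
  obtain ⟨hi3, him, hin, hib, hije⟩ := pair_left hij hn
  obtain ⟨hj3, hjm, hjn, hjb, -⟩ := pair_left (pair_symm hij) hn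
  have hnaL : na t i j := na_of_big h.cla ⟨hi3, him, hib⟩ ⟨hj3, hjm, hjb⟩ hije
  exact h.not_adj_S hw0 hw1 hnaL (adj_same' hF.cla hF.prime hF.is hw0.prime hw1.prime hw0.ne_two hw1.ne_two
    (hw0.ne hw1 (na_ne hnaL)) hw0v hw1v hw0S hw1S (an_unique hF.cla hw0A hw1A))

theorem nap_of_an {t : Fam} (ht : Classical t) {i : ℕ} (hi : An t i) : nap t i := by
  cases t with
  | psl n =>
    have h : i = n := hi
    exact show n < i + 2 by omega
  | psu n =>
    have h : i % 2 = 1 ∧ (i = n ∨ i + 1 = n) := hi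
    exact show n < i + 2 by omega
  | psp n =>
    have h : i = 2 * n := hi
    have h1 := eta_two_mul' n
    rw [← h] at h1
    exact show n < eta i + 1 by omega
  | oodd n =>
    have h : i = 2 * n := hi
    have h1 := eta_two_mul' n
    rw [← h] at h1
    exact show n < eta i + 1 by omega
  | oplus n =>
    have h : i + 2 = 2 * n := hi
    have h1 := eta_two_mul' (n - 1)
    rw [show 2 * (n - 1) = i by omega] at h1
    exact show n < eta i + 2 by omega
  | ominus n =>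
    have h : i = 2 * n := hi
    have h1 := eta_two_mul' n
    rw [← h] at h1
    exact show n < eta i + 2 by omega
  | _ => exact ht.elim

/-- **The characteristic of `S` in the second number**: it is of class at most two in `L`, or `S` is of type `Ω⁻`. -/
theorem LS.v_low (h : LS t p f L G) (hL : Fam.Is p f L t) (hR : Red G K S) (hF : Frm G K S t' v f') (hS : BigS t')
    (hp2 : p ≠ 2) (hvp : v ≠ p) (hT : IsoRk t) (hn : 5 ≤ rk t) {i j : ℕ} (hij : PairOK t i j)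
    (hvM : ¬ v ∣ ttor t (p ^ f) i) (hvN : v ∣ ttor t (p ^ f) j) {w1 : ℕ} (hw1 : In t (p ^ f) j w1)
    (hr3 : 3 ≤ cls t' (v ^ f') w1) (hA : An t' (cls t' (v ^ f') w1)) : cls t (p ^ f) v ≤ 2 ∨ ∃ m, t' = .ominus m := by
  by_contra hcon
  rw [not_or, not_le] at hcon
  obtain ⟨hk, hno⟩ := hcon
  have hq3 := h.q_three hp2
  obtain ⟨hi3, him, hin, hib, hije⟩ := pair_left hij hn
  obtain ⟨hj3, hjm, hjn, hjb, -⟩ := pair_left (pair_symm hij) hn
  have htf := top_facts_all h.cla h.prime hL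
  -- `v` as a prime of `L`
  have hv5 := (cls_facts hF.prime (show 3 ≤ cls t (p ^ f) v by omega)).1
  have hvG : v ∣ Nat.card G := by
    rw [card_eq_mul (K := K) (S := S)]
    exact Dvd.dvd.mul_right hF.vdvd _
  have hvp' : ¬ v ∣ p := fun hd => hvp ((Nat.prime_dvd_prime_iff_eq hF.prime h.prime).1 hd)
  have hvm : mem t (cls t (p ^ f) v) :=
    (h.adj.dvd v hF.prime (by omega) hvp' (by omega)).1 ((h.dvd_iff hF.prime).1 hvG)
  have hvI : In t (p ^ f) (cls t (p ^ f) v) v := ⟨hF.prime, rfl, by omega, hvm⟩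
  obtain ⟨a, b, ha, hb, hab, hka, hkb⟩ := top_two' h.cla hn (show 3 ≤ cls t (p ^ f) v by omega) hvm
  -- the second class is adjacent to `v`
  have hw1v : w1 ≠ v := h.iso_ne_v hR hF hS hp2 hvp.symm hT hw1 hjn
  have hjv : ¬ na t (cls t (p ^ f) v) j := by
    intro hna
    have hne := hvI.ne hw1 (na_ne hna)
    have hw1N : w1 ∣ ttor t (p ^ f) j := by
      have hfr := Fact.mk hw1.prime
      obtain ⟨y, hy⟩ := exists_prime_orderOf_dvd_card' (G := L) w1 ((h.dvd_iff hw1.prime).1 (hw1.dvd h))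
      have := htf.ub w1 hw1.prime (hw1.not_dvd h.fpos)
        (by rw [hw1.cls_eq]; exact top_of_iso h.cla hj3 hjm hjn) y (by rw [hy])
      rw [hw1.cls_eq, hy] at this
      exact this
    obtain ⟨x, hx⟩ := htf.elt _ (top_of_iso h.cla hj3 hjm hjn)
    have hN0 : ttor t (p ^ f) j ≠ 0 := by rw [← hx]; exact (orderOf_pos x).ne'
    have h1 : ∃ g : G, orderOf g = v * w1 := exists_dvd_order hN0
      (((Nat.coprime_primes hF.prime hw1.prime).2 hne).mul_dvd_of_dvd_of_dvd hvN hw1N) ((h.ord _).2 ⟨x, hx⟩)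
    exact (h.adj_iff hvI hw1 hne).1 h1 hna
  -- a third class
  obtain ⟨l, hl, hli, hlj, hkl⟩ : ∃ l, Big t l ∧ l ≠ i ∧ l ≠ j ∧ na t (cls t (p ^ f) v) l := by
    by_cases h1 : a = i
    · refine ⟨b, hb, fun h2 => hab (by rw [h1, h2]), fun h2 => hjv (by rw [← h2]; exact hkb), hkb⟩
    · exact ⟨a, ha, h1, fun h2 => hjv (by rw [← h2]; exact hka), hka⟩
  obtain ⟨w2, hw2⟩ := exists_in h hq3 hl.1 hl.2.1
  obtain ⟨w0, hw0⟩ := exists_in h hq3 hi3 him
  have hgj : ¬ w1 ∣ Nat.card K * S.index ∧ w1 ∣ Nat.card S :=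
    h.good_iso hR hF hp2 hT hw1.prime (by rw [hw1.cls_eq]; exact hj3) (by rw [hw1.cls_eq]; exact hjm)
      (by rw [hw1.cls_eq]; exact hjn)
  have hgi : ¬ w0 ∣ Nat.card K * S.index ∧ w0 ∣ Nat.card S :=
    h.good_iso hR hF hp2 hT hw0.prime (by rw [hw0.cls_eq]; exact hi3) (by rw [hw0.cls_eq]; exact him)
      (by rw [hw0.cls_eq]; exact hin)
  have hw0v : w0 ≠ v := h.iso_ne_v hR hF hS hp2 hvp.symm hT hw0 hin
  have hw2v : w2 ≠ v := (hvI.ne hw2 (na_ne hkl)).symm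
  have hna2 : ¬ ∃ g : G, orderOf g = v * w2 := fun hg => (h.adj_iff hvI hw2 hw2v.symm).1 hg hkl
  have hg2 := hF.good_of_na_v hS hw2.prime hw2.five hw2v (hw2.dvd h) hna2
  have hna0 : ¬ ∃ g : G, orderOf g = v * w0 := by
    rintro ⟨g, hg⟩
    obtain ⟨y, hy⟩ := (h.ord _).1 ⟨g, hg⟩
    have := htf.ub w0 hw0.prime (hw0.not_dvd h.fpos)
      (by rw [hw0.cls_eq]; exact top_of_iso h.cla hi3 him hin) y (by rw [hy]; exact Dvd.intro_left _ rfl)
    rw [hw0.cls_eq, hy] at this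
    exact hvM ((Dvd.intro _ rfl).trans this)
  have hna1 : ¬ ∃ g : S, orderOf g = v * w1 := by
    intro hg
    have h2 := (adjFacts hF.cla hF.prime hF.is).adjp w1 hw1.prime hw1.ne_two
      (fun hd => hw1v ((Nat.prime_dvd_prime_iff_eq hw1.prime hF.prime).1 hd)) hr3
      (hF.mem_cls hw1.prime hw1.ne_two hgj.2 hr3)
    exact h2.1 (by rwa [mul_comm]) (nap_of_an hF.cla hA)
  have n01 := h.not_adj_S (S := S) hw0 hw1 (na_of_big h.cla ⟨hi3, him, hib⟩ ⟨hj3, hjm, hjb⟩ hije)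
  have n02 := h.not_adj_S (S := S) hw0 hw2 (na_of_big h.cla ⟨hi3, him, hib⟩ hl (Ne.symm hli))
  have n12 := h.not_adj_S (S := S) hw1 hw2 (na_of_big h.cla ⟨hj3, hjm, hjb⟩ hl (Ne.symm hlj))
  have d01 := hw0.ne hw1 hije
  have d02 := hw0.ne hw2 (Ne.symm hli)
  have d12 := hw1.ne hw2 (Ne.symm hlj)
  have hsym : ∀ {x y : ℕ}, (¬ ∃ g : S, orderOf g = x * y) → ¬ ∃ g : S, orderOf g = y * x := by
    intro x y hxy
    rwa [mul_comm]
  have hfew := hF.v_few (X := {w0, w1, w2}) (by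
    intro x hx
    rw [Finset.mem_insert, Finset.mem_insert, Finset.mem_singleton] at hx
    rcases hx with rfl | rfl | rfl
    · exact ⟨hw0.prime, hw0.five, hw0v, hgi.2⟩
    · exact ⟨hw1.prime, hw1.five, hw1v, hgj.2⟩
    · exact ⟨hw2.prime, hw2.five, hw2v, hg2.2⟩) (by
    intro x hx
    rw [Finset.mem_insert, Finset.mem_insert, Finset.mem_singleton] at hx
    rcases hx with rfl | rfl | rfl
    · exact fun hg => hna0 (exists_of_S hg)
    · exact hna1
    · exact fun hg => hna2 (exists_of_S hg)) (by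
    intro x hx y hy hxy
    rw [Finset.mem_insert, Finset.mem_insert, Finset.mem_singleton] at hx hy
    rcases hx with rfl | rfl | rfl <;> rcases hy with rfl | rfl | rfl
    · exact absurd rfl hxy
    · exact n01
    · exact n02
    · exact hsym n01
    · exact absurd rfl hxy
    · exact n12
    · exact hsym n02
    · exact hsym n12
    · exact absurd rfl hxy)
  have hcard : ({w0, w1, w2} : Finset ℕ).card = 3 := Finset.card_eq_three.2 ⟨w0, w1, w2, d01, d02, d12, rfl⟩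
  exact hno (hfew.2 (by rw [hcard])).1

/-- **The second number if the radical meets the first one.** -/
theorem LS.gam (h : LS t p f L G) (hL : Fam.Is p f L t) (hR : Red G K S) (hF : Frm G K S t' v f') (hS : BigS t')
    (hp2 : p ≠ 2) (hT : IsoRk t) (hn : 5 ≤ rk t) {i j : ℕ} (hij : PairOK t i j) {s : ℕ} (hs : s.Prime) (hsv : s ≠ v)
    (hsK : s ∣ Nat.card K) (hsM : s ∣ ttor t (p ^ f) i) {w : ℕ} (hw : In t (p ^ f) j w)
    (h3 : 3 ≤ cls t' (v ^ f') w) (htop' : top t' (cls t' (v ^ f') w)) :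
    ∃ h' e : ℕ, (∀ H' : ℕ, ttor t (p ^ f) j = H' * ttor t' (v ^ f') (cls t' (v ^ f') w) → H' ∣ h' * v ^ e) ∧
      h' ∣ outB t' v f' ∧ v ^ e ∣ ttor t (p ^ f) j := by
  obtain ⟨hj3, hjm, hj, hjb, -⟩ := pair_left (pair_symm hij) hn
  have htf := top_facts_all h.cla h.prime hL
  have htf' := top_facts_all hF.cla hF.prime hF.is
  have htopj := top_of_iso h.cla hw.reg hw.mem hj
  obtain ⟨M, hM⟩ : ∃ M, M = ttor t (p ^ f) j := ⟨_, rfl⟩
  obtain ⟨xL, hxL⟩ := htf.elt _ htopj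
  rw [← hM] at hxL
  have hub : ∀ {r o : ℕ}, In t (p ^ f) j r → r ∣ o → (∃ g : G, orderOf g = o) → o ∣ M := by
    intro r o hr hro hg
    obtain ⟨y, hy⟩ := (h.ord _).1 hg
    have := htf.ub r hr.prime (hr.not_dvd h.fpos) (by rw [hr.cls_eq]; exact htopj) y (by rw [hy]; exact hro)
    rw [hr.cls_eq, hy, ← hM] at this
    exact this
  have hgood : ∀ {r : ℕ}, In t (p ^ f) j r → ¬ r ∣ Nat.card K * S.index ∧ r ∣ Nat.card S := fun {r} hr =>
    h.good_iso hR hF hp2 hT hr.prime (by rw [hr.cls_eq]; exact hr.reg) (by rw [hr.cls_eq]; exact hr.mem)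
      (by rw [hr.cls_eq]; exact hj)
  have hwM : w ∣ M := by
    have hfr := Fact.mk hw.prime
    obtain ⟨g, hg⟩ := exists_prime_orderOf_dvd_card' (G := G) w (hw.dvd h)
    exact hub hw dvd_rfl ⟨g, hg⟩
  obtain ⟨P, hP⟩ : ∃ P, P = ttor t' (v ^ f') (cls t' (v ^ f') w) := ⟨_, rfl⟩
  obtain ⟨x, hx⟩ := (h.ord M).2 ⟨xL, hxL⟩
  obtain ⟨κ, a, E, hE, hκ, ha, y, hy⟩ := order_fac2 (K := K) (S := S) x
  rw [hx] at hE
  have hwE : w ∣ E := by
    rw [hE] at hwM
    rcases hw.prime.dvd_mul.1 hwM with h1 | h1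
    · exfalso
      rcases hw.prime.dvd_mul.1 h1 with h2 | h2
      · exact (hgood hw).1 ((h2.trans hκ).mul_right _)
      · exact (hgood hw).1 (Dvd.dvd.mul_left (h2.trans ha) _)
    · exact h1
  have hEP : E ∣ P := by
    have := htf'.ub w hw.prime (fun hd => (cls_facts hw.prime h3).2.1 (hd.trans (dvd_pow_self v hF.f_ne))) htop' y
      (by rw [hy]; exact hwE)
    rwa [hy, ← hP] at this
  have hM0 : M ≠ 0 := by
    rw [← hxL]
    exact (orderOf_pos xL).ne'
  have hκM : κ ∣ M := by rw [hE, mul_assoc]; exact Dvd.intro _ rfl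
  have hκ0 : κ ≠ 0 := by
    rintro rfl
    rw [zero_mul, zero_mul] at hE
    exact hM0 hE
  -- only `v`
  obtain ⟨e, he⟩ : ∃ e, κ = v ^ e := by
    refine ⟨_, Nat.eq_prime_pow_of_unique_prime_dvd hκ0 fun {s'} hs' hsκ' => ?_⟩
    by_contra hne
    exact h.not_both hL hR hF hS hp2 hT hn hij hs hs' hsv hne hsK (hsκ'.trans hκ) hsM (by
      rw [← hM]; exact hsκ'.trans hκM)
  obtain ⟨c, hc⟩ := hEP
  refine ⟨a, e, ?_, ?_, by rw [← he, ← hM]; exact hκM⟩
  · intro H hH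
    rw [← hM, ← hP] at hH
    have hP0 : P ≠ 0 := by
      rintro rfl
      rw [mul_zero] at hH
      exact hM0 hH
    have hE0 : E ≠ 0 := by
      rintro rfl
      rw [zero_mul] at hc
      exact hP0 hc
    have h1 : E * (c * H) = E * (a * κ) := by
      calc E * (c * H) = H * (E * c) := by ring
        _ = H * P := by rw [← hc]
        _ = M := hH.symm
        _ = κ * a * E := hE
        _ = E * (a * κ) := by ring
    have h2 := Nat.eq_of_mul_eq_mul_left (Nat.pos_of_ne_zero hE0) h1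
    exact ⟨c, by rw [← he, ← h2]; ring⟩
  · have hfin := mulAut_finite S
    have hfinO : Finite (Cfsg.Out S) := Quotient.finite _
    exact (ha.trans hF.index_dvd_out).trans (out_dvd hS hF.center hF.prime hF.is)

/-- **The duel for a prime of the second class which is regular in `S`.** -/
theorem LS.duel_of (h : LS t p f L G) (hL : Fam.Is p f L t) (hR : Red G K S) (hF : Frm G K S t' v f') (hvp : v ≠ p)
    (hp2 : p ≠ 2) (hT : IsoRk t) (hn : 5 ≤ rk t) (hS : BigS t') {i j : ℕ} (hij : PairOK t i j)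
    (hv : ¬ v ∣ ttor t (p ^ f) i)
    (hdirty : (∃ s : ℕ, s.Prime ∧ s ∣ Nat.card K ∧ s ∣ ttor t (p ^ f) i) → v ∣ ttor t (p ^ f) j)
    {w1 : ℕ} (hw1 : In t (p ^ f) j w1) (hreg : 3 ≤ cls t' (v ^ f') w1) :
    ∃ i' j' H : ℕ, Duel t p f i j t' v f' i' j' w1 H S := by
  have hq3 := h.q_three hp2
  obtain ⟨hi3, him, hin, hib, hije⟩ := pair_left hij hn
  obtain ⟨hj3, hjm, hjn, hjb, -⟩ := pair_left (pair_symm hij) hn
  have htopj := top_of_iso h.cla hj3 hjm hjn
  have htf := top_facts_all h.cla h.prime hL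
  obtain ⟨i', H, c1, c2, c3, c4, c5, c6, c7, a, κ, d1, d2, d3, d4, d5, d6, d7, d8⟩ :=
    h.clean hL hR hF hS hp2 hT hn hij hv
  have hgj : ¬ w1 ∣ Nat.card K * S.index ∧ w1 ∣ Nat.card S :=
    h.good_iso hR hF hp2 hT hw1.prime (by rw [hw1.cls_eq]; exact hj3) (by rw [hw1.cls_eq]; exact hjm)
      (by rw [hw1.cls_eq]; exact hjn)
  obtain ⟨w0, hw0⟩ := exists_in h hq3 hi3 him
  obtain ⟨e1, e2, e3⟩ := c5 w0 hw0.prime hw0.cls_eq
  have hnaL : na t i j := na_of_big h.cla ⟨hi3, him, hib⟩ ⟨hj3, hjm, hjb⟩ hije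
  have hne := hw0.ne hw1 (na_ne hnaL)
  have hnaS := h.not_adj_S (S := S) hw0 hw1 hnaL
  rw [hF.na_of hw0.prime hw1.prime hne (by rw [e3]; exact c2) hreg e2 hgj.2, not_not, e3] at hnaS
  refine ⟨i', cls t' (v ^ f') w1, H, ?_⟩
  exact
    { p_prime := h.prime
      p_ne := hp2
      f_pos := h.fpos
      cla := h.cla
      pair := hij
      v_prime := hF.prime
      vp := hvp
      f'_pos := Nat.pos_of_ne_zero hF.f_ne
      big := hS
      is := hF.is
      vM := hv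
      topi' := c1
      eqM := c6
      copH := c7
      copMN := pair_coprime hij (by omega) (h.q_odd hp2) hq3
      primi := fun r hr hri => ⟨(c5 r hr hri).2.1, (c5 r hr hri).2.2⟩
      w_prime := hw1.prime
      w5 := hw1.five
      clsw := hw1.cls_eq
      clsw' := rfl
      j'3 := hreg
      memj' := hF.mem_cls hw1.prime hw1.ne_two hgj.2 hreg
      na' := hnaS
      wS := hgj.2
      ordw := by
        intro y hy
        obtain ⟨z, hz⟩ := (h.ord _).1 (exists_of_S ⟨y, rfl⟩)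
        have := htf.ub w1 hw1.prime (hw1.not_dvd h.fpos) (by rw [hw1.cls_eq]; exact htopj) z (by rw [hz]; exact hy)
        rw [hw1.cls_eq, hz] at this
        exact this
      copH' := fun ht => h.iso_num hL hR hF hp2 hT hw1 hjn hreg ht
      cof := ⟨a, κ, d1, d4, d5, d6, fun hκ => by
        obtain ⟨s, hs, hsκ⟩ := Nat.exists_prime_and_dvd hκ
        obtain ⟨k1, k2, k3, k4⟩ := d8 s hs hsκ
        have hvN := hdirty ⟨s, hs, k1, hsκ.trans d6⟩
        have hA := (d7 hκ w1 hw1).2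
        have hmem' := hF.mem_cls hw1.prime hw1.ne_two hgj.2 hreg
        obtain ⟨h', e, g1, g2, g3⟩ := h.gam hL hR hF hS hp2 hT hn hij hs k2 k1 (hsκ.trans d6) hw1 hreg
          (top_of_iso hF.cla hreg hmem' (nap_of_an hF.cla hA))
        exact ⟨hA, hvN, h', e, g1, g2, g3, h.v_low hL hR hF hS hp2 hvp hT hn hij hv hvN hw1 hreg hA⟩,
        fun s hs hsκ => (d8 s hs hsκ).2⟩ }

/-- one of the two numbers is prime to `v`; if the radical meets it then `v` divides the other number -/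
theorem LS.exists_clean (h : LS t p f L G) (hL : Fam.Is p f L t) (hR : Red G K S) (hF : Frm G K S t' v f')
    (hS : BigS t') (hp2 : p ≠ 2) (hT : IsoRk t) (hn : 5 ≤ rk t)
    (hex : ∀ n, (t = .psp n ∨ t = .oodd n) → n % 2 = 1) : ∃ i j, PairOK t i j ∧ ¬ v ∣ ttor t (p ^ f) i ∧
      ((∃ s : ℕ, s.Prime ∧ s ∣ Nat.card K ∧ s ∣ ttor t (p ^ f) i) → v ∣ ttor t (p ^ f) j) := by
  obtain ⟨i, j, hij⟩ := exists_pair h.cla hex hn
  have hcop := pair_coprime hij (by omega) (h.q_odd hp2) (h.q_three hp2)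
  by_cases h1 : v ∣ ttor t (p ^ f) i
  · refine ⟨j, i, pair_symm hij, fun h2 => ?_, fun _ => h1⟩
    have h3 : v ∣ 1 := by
      rw [← hcop]
      exact Nat.dvd_gcd h1 h2
    exact hF.prime.one_lt.ne' (Nat.dvd_one.1 h3)
  · by_cases h2 : v ∣ ttor t (p ^ f) j
    · exact ⟨i, j, hij, h1, fun _ => h2⟩
    · by_cases h3 : ∃ s : ℕ, s.Prime ∧ s ∣ Nat.card K ∧ s ∣ ttor t (p ^ f) i
      · refine ⟨j, i, pair_symm hij, h2, fun h4 => ?_⟩
        exfalso
        obtain ⟨s, hs, hsK, hsM⟩ := h3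
        obtain ⟨s', hs', hsK', hsN⟩ := h4
        exact h.not_both hL hR hF hS hp2 hT hn hij hs hs' (fun e => h1 (by rw [← e]; exact hsM))
          (fun e => h2 (by rw [← e]; exact hsN)) hsK hsK' hsM hsN
      · exact ⟨i, j, hij, h1, fun h4 => absurd h4 h3⟩

/-- **Existence of the duel.** -/
theorem exists_duel (h : LS t p f L G) (hL : Fam.Is p f L t) (hR : Red G K S) (hF : Frm G K S t' v f') (hvp : v ≠ p)
    (hp2 : p ≠ 2) (hT : RegT t) (hS : BigS t') (hex : ∀ n, (t = .psp n ∨ t = .oodd n) → n % 2 = 1) :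
    ∃ i j i' j' w H : ℕ, Duel t p f i j t' v f' i' j' w H S := by
  have hn := rk_five hT
  have hT' := small_isoRk hT
  have hq3 := h.q_three hp2
  obtain ⟨i, j, hij, hv, hd⟩ := h.exists_clean hL hR hF hS hp2 hT' hn hex
  obtain ⟨hj3, hjm, hjn, hjb, -⟩ := pair_left (pair_symm hij) hn
  obtain ⟨w1, hw1⟩ := exists_in h hq3 hj3 hjm
  have hwv := h.iso_ne_v hR hF hS hp2 hvp.symm hT' hw1 hjn
  obtain ⟨i', j', H, hD⟩ := h.duel_of hL hR hF hvp hp2 hT' hn hS hij hv hd hw1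
    (h.iso_reg hR hF hS hp2 hT hw1 hwv hjn)
  exact ⟨i, j, i', j', w1, H, hD⟩

/-- **Existence of the duel, or a prime of the second class irregular in `S`** (`IsoRk t`). -/
theorem exists_duel_or (h : LS t p f L G) (hL : Fam.Is p f L t) (hR : Red G K S) (hF : Frm G K S t' v f')
    (hvp : v ≠ p) (hp2 : p ≠ 2) (hT : IsoRk t) (hn : 5 ≤ rk t) (hS : BigS t')
    (hex : ∀ n, (t = .psp n ∨ t = .oodd n) → n % 2 = 1) :
    (∃ i j i' j' w H : ℕ, Duel t p f i j t' v f' i' j' w H S) ∨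
    ∃ i j i' H a : ℕ, PairOK t i j ∧ ¬ v ∣ ttor t (p ^ f) i ∧ top t' i' ∧ 3 ≤ i' ∧ mem t' i' ∧ nap t' i' ∧
      (∀ r : ℕ, r.Prime → cls t (p ^ f) r = i → r ≠ v ∧ r ∣ Nat.card S ∧ cls t' (v ^ f') r = i') ∧
      ttor t (p ^ f) i = H * ttor t' (v ^ f') i' ∧ (∀ r : ℕ, r.Prime → cls t (p ^ f) r = i → ¬ r ∣ H) ∧
      H ∣ a ∧ 1 ≤ a ∧ a ∣ Nat.card (Cfsg.Out S) ∧ a ∣ outB t' v f' ∧
      (∀ r : ℕ, r.Prime → cls t (p ^ f) r = j → r ≠ v ∧ ¬ r ∣ Nat.card K * S.index ∧ r ∣ Nat.card S ∧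
        cls t' (v ^ f') r ≤ 2) ∧
      ∀ r : ℕ, r.Prime → cls t (p ^ f) r = j → ∀ x : S, r ∣ orderOf x → orderOf x ∣ ttor t (p ^ f) j := by
  have hq3 := h.q_three hp2
  obtain ⟨i, j, hij, hv, hd⟩ := h.exists_clean hL hR hF hS hp2 hT hn hex
  obtain ⟨hj3, hjm, hjn, hjb, -⟩ := pair_left (pair_symm hij) hn
  by_cases hex2 : ∃ w1, In t (p ^ f) j w1 ∧ 3 ≤ cls t' (v ^ f') w1
  · obtain ⟨w1, hw1, hreg⟩ := hex2
    left
    obtain ⟨i', j', H, hD⟩ := h.duel_of hL hR hF hvp hp2 hT hn hS hij hv hd hw1 hreg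
    exact ⟨i, j, i', j', w1, H, hD⟩
  · right
    push Not at hex2
    obtain ⟨i', H, c1, c2, c3, c4, c5, c6, c7, a, κ, d1, d2, d3, d4, d5, d6, d7, d8⟩ :=
      h.clean hL hR hF hS hp2 hT hn hij hv
    have htopj := top_of_iso h.cla hj3 hjm hjn
    have htf := top_facts_all h.cla h.prime hL
    have hκ : κ = 1 := by
      by_contra hcon
      obtain ⟨w1, hw1⟩ := exists_in h hq3 hj3 hjm
      have := (d7 hcon w1 hw1).1
      have := hex2 w1 hw1
      omega
    refine ⟨i, j, i', H, a, hij, hv, c1, c2, c3, c4, c5, c6, c7, by rw [hκ, mul_one] at d1; exact d1, d2, d3, d4, ?_, ?_⟩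
    · intro r hr hrj
      have hrI : In t (p ^ f) j r := ⟨hr, hrj, hj3, hjm⟩
      obtain ⟨g1, g2⟩ := h.good_iso hR hF hp2 hT hr (by rw [hrj]; exact hj3) (by rw [hrj]; exact hjm)
        (by rw [hrj]; exact hjn)
      have := hex2 r hrI
      exact ⟨h.iso_ne_v hR hF hS hp2 hvp.symm hT hrI hjn, g1, g2, by omega⟩
    · intro r hr hrj x hx
      have hrI : In t (p ^ f) j r := ⟨hr, hrj, hj3, hjm⟩
      obtain ⟨z, hz⟩ := (h.ord _).1 (exists_of_S ⟨x, rfl⟩)
      have := htf.ub r hr (hrI.not_dvd h.fpos) (by rw [hrj]; exact htopj) z (by rw [hz]; exact hx)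
      rw [hrj, hz] at this
      exact this

end

end Cfsg.Agent.R2.Spec.F1
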