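import Cfsg.Agent.R2.Spec.F1.ExcFld
import Cfsg.Agent.R2.Spec.F1.DuelEx
import Cfsg.Agent.H372.SzSpec
import Cfsg.Agent.OddCyclic.ClaimC.SzIso
import Cfsg.Agent.S1159
import Cfsg.Agent.S2238

/-!
# The frame, `S` exceptional (helper23)

`ExFrm G K S t v f` : `K` nilpotent normal, `S` simple normal in `G / K` with trivial centralizer, `S` exceptional of family
`t` over the field with `v ^ f` elements.

* `ExFrm.kcase` : `r ∣ |K|`, `r ≠ v`, `x ∣ |S|` odd, not adjacent to `r` in `G`: `x = v`, or `x` is not adjacent to `v` in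
  `S`, or `v = 2` and `x` is a Fermat prime, or `t = tf4`;
* `ExFrm.vcase` : `r = v` : `x` is not adjacent to `v` in `S`;
* `ExFrm.fcase` : `r ≥ 5` does not divide `|K|` and divides the index: `x ≠ v` and `x ≡ 1 mod r`;
* `ExFrm.bad` : the three cases;
* `LS.ehc` : the field case: the congruences `HC`; `LS.ebad` : class form.
-/

set_option autoImplicit false
set_option linter.unusedSectionVars false
set_option linter.unusedVariables false

namespace Cfsg.Agent.R2.Spec.F1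

open Subgroup Cfsg
open Cfsg.Agent.H426.LieFam Cfsg.Agent.R2.Spec Cfsg.Agent.R2.Spec.P1
open Cfsg.Agent.H420.QR

universe u w

/-- the frame, `S` exceptional -/
structure ExFrm (G : Type u) [Group G] (K : Subgroup G) [K.Normal] (S : Subgroup (G ⧸ K)) [S.Normal] (t : Fam)
    (v f : ℕ) : Prop where
  nil : Group.IsNilpotent ↥K
  simple : IsSimpleGroup ↥S
  nonab : ∃ a b : ↥S, a * b ≠ b * a
  cent : centralizer (S : Set (G ⧸ K)) = ⊥
  exc : Exc t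
  prime : v.Prime
  is : Fam.Is v f ↥S t

/-- Borel–Tits for the exceptional groups except `Sz`, `Ree`, `²F₄` -/
theorem isLieFilt_exc {t : Fam} (ht : Exc t) (h1 : t ≠ .sz) (h2 : t ≠ .ree) (h3 : t ≠ .tf4) {v f : ℕ}
    (hv : v.Prime) {S : Type u} [Group S] (h : Fam.Is v f S t) : Cfsg.Agent.KFacts.RgdLieCharP.IsLieFilt v S := by
  have key : ∀ {F : Type} [Field F] [Fintype F] {n : ℕ}, Fintype.card F = (v ^ f) ^ n → IsPrimePow (v ^ f) := by
    intro F _ _ n hF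
    exact hv.isPrimePow.pow (by have := Cfsg.Agent.R2.Spec.X4.H18.f_pos_of_card hF; omega)
  cases t with
  | g2 =>
    obtain ⟨h3, F, i1, i2, hch, hF, ⟨e⟩⟩ := h
    refine Or.inr (Or.inr (Or.inr (Or.inr (Or.inr (Or.inr (Or.inl ?_))))))
    exact ⟨F, i1, i2, hch, Or.inl ⟨by rw [hF]; exact h3, ⟨e⟩⟩⟩
  | f4 =>
    obtain ⟨F, i1, i2, hch, hF, ⟨e⟩⟩ := h
    refine Or.inr (Or.inr (Or.inr (Or.inr (Or.inr (Or.inr (Or.inl ?_))))))
    exact ⟨F, i1, i2, hch, Or.inr (Or.inl ⟨e⟩)⟩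
  | e6 =>
    obtain ⟨F, i1, i2, hch, hF, ⟨e⟩⟩ := h
    refine Or.inr (Or.inr (Or.inr (Or.inr (Or.inr (Or.inr (Or.inl ?_))))))
    exact ⟨F, i1, i2, hch, Or.inr (Or.inr (Or.inl ⟨e⟩))⟩
  | e7 =>
    obtain ⟨F, i1, i2, hch, hF, ⟨e⟩⟩ := h
    refine Or.inr (Or.inr (Or.inr (Or.inr (Or.inr (Or.inr (Or.inl ?_))))))
    exact ⟨F, i1, i2, hch, Or.inr (Or.inr (Or.inr (Or.inl ⟨e⟩)))⟩
  | e8 =>
    obtain ⟨F, i1, i2, hch, hF, ⟨e⟩⟩ := h
    refine Or.inr (Or.inr (Or.inr (Or.inr (Or.inr (Or.inr (Or.inl ?_))))))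
    exact ⟨F, i1, i2, hch, Or.inr (Or.inr (Or.inr (Or.inr ⟨e⟩)))⟩
  | te6 =>
    obtain ⟨F, i1, i2, hch, hF, ⟨e⟩⟩ := h
    refine Or.inr (Or.inr (Or.inr (Or.inr (Or.inr (Or.inr (Or.inr ?_))))))
    exact ⟨F, i1, i2, hch, _, key hF, Or.inl ⟨hF, ⟨e⟩⟩⟩
  | td4 =>
    obtain ⟨F, i1, i2, hch, hF, ⟨e⟩⟩ := h
    refine Or.inr (Or.inr (Or.inr (Or.inr (Or.inr (Or.inr (Or.inr ?_))))))
    exact ⟨F, i1, i2, hch, _, key hF, Or.inr ⟨hF, ⟨e⟩⟩⟩
  | sz => exact absurd rfl h1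
  | ree => exact absurd rfl h2
  | tf4 => exact absurd rfl h3
  | psl n => exact ht.elim
  | psp n => exact ht.elim
  | psu n => exact ht.elim
  | oodd n => exact ht.elim
  | oplus n => exact ht.elim
  | ominus n => exact ht.elim

/-- Suzuki groups: the characteristic is isolated -/
theorem sz_isol {v f : ℕ} {S : Type u} [Group S] (h : Fam.Is v f S .sz) {x : ℕ} (hx : x.Prime) (hxv : x ≠ v) :
    ¬ ∃ g : S, orderOf g = x * v := by
  obtain ⟨hv2, m, hm, -, F, _, _, hF, ⟨e⟩⟩ := h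
  obtain ⟨e'⟩ := Cfsg.Agent.OddCyclic.ClaimC.SzIso.iso hm hF
  rw [hv2] at hxv ⊢
  rintro ⟨g, hg⟩
  obtain ⟨z, hz⟩ := exists_congr_order (e.trans e'.symm).symm ⟨g, hg⟩
  have hz1 : z ≠ 1 := by
    rintro rfl
    rw [orderOf_one] at hz
    have := hx.two_le
    omega
  obtain ⟨U, ⟨hU, hzU⟩, -⟩ := Cfsg.Agent.S2238.result hm hF z hz1
  have hfin : Finite ↥(Cfsg.Sz F m) := inferInstance
  have h2 : orderOf z ∣ Nat.card U := by
    rw [← Subgroup.orderOf_mk z hzU]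
    exact orderOf_dvd_natCard _
  rw [hz] at h2
  rcases hU with ⟨P, rfl⟩ | ⟨-, hc⟩
  · have hF2 := Fact.mk Nat.prime_two
    obtain ⟨n, hn⟩ := (IsPGroup.iff_card.1 P.isPGroup')
    rw [hn] at h2
    exact hxv ((Nat.prime_dvd_prime_iff_eq hx Nat.prime_two).1 (hx.dvd_of_dvd_pow ((Dvd.intro _ rfl).trans h2)))
  · have e0 : 2 ∣ 2 ^ (2 * m + 1) := dvd_pow_self 2 (by omega)
    have e2 : 2 ∣ 2 ^ (m + 1) := dvd_pow_self 2 (by omega)
    have e3 : 1 ≤ 2 ^ (2 * m + 1) := Nat.one_le_two_pow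
    have e4 : 2 ^ (m + 1) ≤ 2 ^ (2 * m + 1) := Nat.pow_le_pow_right (by norm_num) (by omega)
    have h3 : 2 ∣ Nat.card U := (Dvd.intro_left _ rfl).trans h2
    simp only [Set.mem_insert_iff, Set.mem_singleton_iff] at hc
    rcases hc with hc | hc | hc <;> rw [hc] at h3 <;> omega

theorem ree_isol {v f : ℕ} {S : Type u} [Group S] (h : Fam.Is v f S .ree) {x : ℕ} (hx : x.Prime) (hx2 : x ≠ 2)
    (hxv : x ≠ v) : ¬ ∃ g : S, orderOf g = x * v := by
  obtain ⟨hv3, m, hm, -, F, _, _, hF, ⟨e⟩⟩ := h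
  rw [hv3] at hxv ⊢
  intro hg
  have hg' := exists_congr_order e.symm hg
  rw [Cfsg.Agent.S1159.result hm hF] at hg'
  revert hg'
  have e0 : 3 ∣ 3 ^ (2 * m + 1) := dvd_pow_self 3 (by omega)
  have e2 : 3 ∣ 3 ^ (m + 1) := dvd_pow_self 3 (by omega)
  have e3 : 1 ≤ 3 ^ (2 * m + 1) := Nat.one_le_pow _ _ (by norm_num)
  have e4 : 3 ^ (m + 1) ≤ 3 ^ (2 * m + 1) := Nat.pow_le_pow_right (by norm_num) (by omega)
  have e5 : 3 ∣ x * 3 := Dvd.intro_left _ rfl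
  have e6 : 3 ^ (2 * m + 1) % 2 = 1 := by
    rw [Nat.pow_mod]
    norm_num
  have h1 : ¬ x ∣ 3 := fun hd => hxv ((Nat.prime_dvd_prime_iff_eq hx Nat.prime_three).1 hd)
  have h2 : ¬ x ∣ 2 := fun hd => hx2 ((Nat.prime_dvd_prime_iff_eq hx Nat.prime_two).1 hd)
  rintro (h | h | h | h | h | h)
  · exact h2 (Nat.dvd_of_mul_dvd_mul_right (by norm_num : 0 < 3) h)
  · exact h1 (Nat.dvd_of_mul_dvd_mul_right (by norm_num : 0 < 3) h)
  · have := e5.trans h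
    omega
  · have := e5.trans h
    omega
  · have := e5.trans h
    omega
  · have := e5.trans h
    omega

variable {G : Type u} [Group G] [Finite G] {K : Subgroup G} [K.Normal] {S : Subgroup (G ⧸ K)} [S.Normal] {t' : Fam}
  {v f' : ℕ}

theorem ExFrm.center (h : ExFrm G K S t' v f') : center S = ⊥ := by
  have := h.simple
  rcases (inferInstance : (Subgroup.center S).Normal).eq_bot_or_eq_top with h1 | h1
  · exact h1
  · exfalso
    obtain ⟨a, b, hab⟩ := h.nonab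
    have h2 : a ∈ Subgroup.center S := by rw [h1]; exact mem_top a
    exact hab (Subgroup.mem_center_iff.1 h2 b).symm

/-- **Primes of the radical.** -/
theorem ExFrm.kcase (h : ExFrm G K S t' v f') {r x : ℕ} (hr : r.Prime) (hrK : r ∣ Nat.card K) (hrv : r ≠ v)
    (hx : x.Prime) (hx2 : x ≠ 2) (hxr : x ≠ r) (hna : ¬ ∃ g : G, orderOf g = r * x) :
    x = v ∨ (¬ ∃ g : S, orderOf g = x * v) ∨ (v = 2 ∧ ∃ k : ℕ, x = 2 ^ k + 1) ∨ t' = .tf4 := by
  by_contra hcon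
  push Not at hcon
  obtain ⟨hxv, hadj, hfer, htf⟩ := hcon
  have hsz : t' ≠ .sz := by
    rintro rfl
    exact sz_isol h.is hx hxv hadj
  have hree : t' ≠ .ree := by
    rintro rfl
    exact ree_isol h.is hx hx2 hxv hadj
  have hfv := Fact.mk h.prime
  have := h.simple
  have hfer' : v ≠ 2 ∨ ∀ k : ℕ, x ≠ 2 ^ k + 1 := by
    by_cases h2 : v = 2
    · exact Or.inr fun k => hfer h2 k
    · exact Or.inl h2
  apply hna
  rw [mul_comm]
  exact kadj h.nil h.simple hr hx h.prime hx2 (Ne.symm hxv) (Ne.symm hrv) hxr hrK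
    (MovW.of_mov (Cfsg.Agent.H228.MovAdj.mov_of_adj (isLieFilt_exc h.exc hsz hree htf h.prime h.is) h.nonab hx hxv
      hadj) hfer')

/-- **The characteristic in the radical.** -/
theorem ExFrm.vcase (h : ExFrm G K S t' v f') {x : ℕ} (hna : ¬ ∃ g : G, orderOf g = v * x) :
    ¬ ∃ g : S, orderOf g = x * v := by
  intro hg
  apply hna
  rw [mul_comm]
  exact exists_of_S hg

/-- **Field automorphisms.** -/
theorem ExFrm.fcase (h : ExFrm G K S t' v f') {r x : ℕ} (hr : r.Prime) (hr5 : 5 ≤ r) (hrK : ¬ r ∣ Nat.card K)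
    (hrB : r ∣ Nat.card K * S.index) (hx : x.Prime) (hx5 : 5 ≤ x) (hxr : x ≠ r) (hxS : x ∣ Nat.card S)
    (hna : ¬ ∃ g : G, orderOf g = r * x) : x ≠ v ∧ x % r = 1 := by
  have hri : r ∣ S.index := (hr.dvd_mul.1 hrB).resolve_left hrK
  have hfd := fldDat_all h.exc h.prime h.is hr hr5
  have key : (x = v ∨ 5 ≤ x ∧ x % r ≠ 1) → False := fun hc =>
    hna (exists_of_quot (hfd.adj h.cent hr hri hx hxr.symm hc hxS))
  refine ⟨fun hxv => key (Or.inl hxv), ?_⟩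
  by_contra hmod
  exact key (Or.inr ⟨hx5, hmod⟩)

/-- **The bad primes.** -/
theorem ExFrm.bad (h : ExFrm G K S t' v f') {r x : ℕ} (hr : r.Prime) (hr5 : 5 ≤ r) (hrB : r ∣ Nat.card K * S.index)
    (hx : x.Prime) (hx5 : 5 ≤ x) (hxr : x ≠ r) (hxS : x ∣ Nat.card S) (hna : ¬ ∃ g : G, orderOf g = r * x) :
    (r ∣ Nat.card K ∧ r ≠ v ∧ (x = v ∨ (¬ ∃ g : S, orderOf g = x * v) ∨ (v = 2 ∧ ∃ k : ℕ, x = 2 ^ k + 1) ∨
      t' = .tf4)) ∨
    (r ∣ Nat.card K ∧ r = v ∧ ¬ ∃ g : S, orderOf g = x * v) ∨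
    (¬ r ∣ Nat.card K ∧ x ≠ v ∧ x % r = 1) := by
  by_cases hrK : r ∣ Nat.card K
  · by_cases hrv : r = v
    · right; left
      refine ⟨hrK, hrv, h.vcase ?_⟩
      rw [← hrv]
      exact hna
    · left
      exact ⟨hrK, hrv, h.kcase hr hrK hrv hx (by omega) hxr hna⟩
  · right; right
    exact ⟨hrK, h.fcase hr hr5 hrK hrB hx hx5 hxr hxS hna⟩

section L

variable {t : Fam} {p f : ℕ} {L : Type w} [Group L] [Finite L]

/-- **The field case: the congruences**, `S` exceptional. -/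
theorem LS.ehc (h : LS t p f L G) (hR : Red G K S) (hF : ExFrm G K S t' v f') {i r : ℕ} (hr : In t (p ^ f) i r)
    (hbad : r ∣ Nat.card K * S.index) (hrK : ¬ r ∣ Nat.card K) {l : ℕ} (hl3 : 3 ≤ l)
    (hl : mem t l) (hil : na t i l) (hk : ∃ k z, In t (p ^ f) k z ∧ na t i k ∧ na t l k) : HC (sg t (p ^ f)) r l := by
  obtain ⟨k, z, hz, hik, hlk⟩ := hk
  intro y hy hyl
  have hyI : In t (p ^ f) l y := ⟨hy, hyl, hl3, hl⟩
  obtain ⟨h1, h2⟩ := h.good_of_bad hR hr hyI hz hil hik hlk hbad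
  have hne := hr.ne hyI (na_ne hil)
  exact (hF.fcase hr.prime hr.five hrK hbad hy hyI.five hne.symm h2 fun hg => (h.adj_iff hr hyI hne).1 hg hil).2

end L

end Cfsg.Agent.R2.Spec.F1
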