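import Cfsg.Agent.R2.Spec.F1.TopC2

/-!
# Primes nonadjacent to an irregular prime (helper23)

* `Frm.irr_nap` : `z ≥ 3` irregular, not the characteristic, `x` not adjacent to `z` in `S` : `x` is regular and not
  adjacent to the characteristic;
* `Frm.irr_few` : at most three pairwise nonadjacent primes are nonadjacent to `z`;
* `low_comb` : a class of small weight: if `b ≠ c`, `d` are nonadjacent to `a` then `d` is nonadjacent to `b` or `c`.
-/

set_option autoImplicit false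
set_option linter.unusedSectionVars false
set_option linter.unusedVariables false

namespace Cfsg.Agent.R2.Spec.F1

open Subgroup Cfsg
open Cfsg.Agent.H426.LieFam Cfsg.Agent.R2.Spec Cfsg.Agent.R2.Spec.P1
open Cfsg.Agent.H72

universe u

theorem rk_of_bigS {G : Type u} [Group G] [Finite G] {K : Subgroup G} [K.Normal] {S : Subgroup (G ⧸ K)} [S.Normal]
    {t : Fam} {v f : ℕ} (h : Frm G K S t v f) (ht : BigS t) :
    3 ≤ rk t ∧ (cS t = 1 → 4 ≤ rk t) ∧ ((∃ n, t = .psl n ∨ t = .psu n) → 4 ≤ rk t) ∧ cS t ≤ 1 ∧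
      ((∃ n, t = .psl n ∨ t = .psu n) → cS t = 0) := by
  obtain ⟨hc, h1, h2, h3, h4⟩ := ht
  have h5 := h.is
  cases t with
  | psl n =>
    have hn : 2 ≤ n := h5.1
    have hn4 : 4 ≤ n := by
      have e1 : n ≠ 2 := fun e => h1 (by rw [e])
      have e2 : n ≠ 3 := fun e => h2 (by rw [e])
      omega
    exact ⟨show 3 ≤ n by omega, fun e => absurd e Nat.zero_ne_one, fun _ => hn4, Nat.zero_le _, fun _ => rfl⟩
  | psu n =>
    have hn : 3 ≤ n := h5.1
    have hn4 : 4 ≤ n := by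
      have e2 : n ≠ 3 := fun e => h3 (by rw [e])
      omega
    exact ⟨show 3 ≤ n by omega, fun e => absurd e Nat.zero_ne_one, fun _ => hn4, Nat.zero_le _, fun _ => rfl⟩
  | psp n =>
    have hn : 2 ≤ n := h5.1
    have hn4 : 3 ≤ n := by
      have e2 : n ≠ 2 := fun e => h4 (by rw [e])
      omega
    refine ⟨hn4, fun e => absurd e Nat.zero_ne_one, ?_, Nat.zero_le _, ?_⟩
    · rintro ⟨k, hk | hk⟩ <;> cases hk
    · rintro ⟨k, hk | hk⟩ <;> cases hk
  | oodd n =>
    have hn : 3 ≤ n := h5.1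
    refine ⟨hn, fun e => absurd e Nat.zero_ne_one, ?_, Nat.zero_le _, ?_⟩
    · rintro ⟨k, hk | hk⟩ <;> cases hk
    · rintro ⟨k, hk | hk⟩ <;> cases hk
  | oplus n =>
    have hn : 4 ≤ n := h5.1
    refine ⟨show 3 ≤ n by omega, fun _ => hn, fun _ => hn, le_rfl, ?_⟩
    rintro ⟨k, hk | hk⟩ <;> cases hk
  | ominus n =>
    have hn : 4 ≤ n := h5.1
    refine ⟨show 3 ≤ n by omega, fun _ => hn, fun _ => hn, le_rfl, ?_⟩
    rintro ⟨k, hk | hk⟩ <;> cases hk
  | _ => exact hc.elim

section S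

variable {G : Type u} [Group G] [Finite G] {K : Subgroup G} [K.Normal] {S : Subgroup (G ⧸ K)} [S.Normal] {t : Fam}
  {v f : ℕ}

/-- **Nonadjacency to an irregular prime.** -/
theorem Frm.irr_nap (h : Frm G K S t v f) (ht : BigS t) {z x : ℕ} (hz : z.Prime) (hz2 : z ≠ 2) (hzv : z ≠ v)
    (hz3 : cls t (v ^ f) z ≤ 2) (hx : x.Prime) (hx2 : x ≠ 2) (hzx : z ≠ x)
    (hna : ¬ ∃ g : S, orderOf g = z * x) :
    x ≠ v ∧ 3 ≤ cls t (v ^ f) x ∧ nap t (cls t (v ^ f) x) := by
  obtain ⟨hr3, hr4, hr4', hc1, hc0⟩ := rk_of_bigS h ht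
  have hq : 1 ≤ v ^ f := Nat.one_le_pow _ _ h.prime.pos
  have hv2 := wS_char (t := t) h.prime h.f_ne
  have key : ¬ wS t (v ^ f) z + wS t (v ^ f) x + cS t ≤ rk t := fun hle =>
    hna (adj_wS h.cla h.is hz hx hzx hle)
  have hzq := h.nd hz hzv
  by_cases hL : ∃ n, t = .psl n ∨ t = .psu n
  · have h1 := wS_le_two h.cla hz3
    have h2 := hr4' hL
    have h3 := hc0 hL
    have hxv : x ≠ v := by
      rintro rfl
      omega
    have h4 : 3 ≤ cls t (v ^ f) x := by
      by_contra hcon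
      have := wS_le_two h.cla (t := t) (q := v ^ f) (x := x) (by omega)
      omega
    refine ⟨hxv, h4, ?_⟩
    rw [wS_reg h.cla hq hx h4] at key
    obtain ⟨n, rfl | rfl⟩ := hL
    · change ¬ _ + cls (.psl n) (v ^ f) x + 0 ≤ n at key
      change n < cls (.psl n) (v ^ f) x + 2
      omega
    · change ¬ _ + cls (.psu n) (v ^ f) x + 0 ≤ n at key
      change n < cls (.psu n) (v ^ f) x + 2
      omega
  · push Not at hL
    have h1 := wS_le_one h.cla (fun n => (hL n).1) (fun n => (hL n).2) hz2 hzq hz3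
    have hxv : x ≠ v := by
      rintro rfl
      rcases Nat.lt_or_ge (cS t) 1 with h5 | h5
      · omega
      · have := hr4 (by omega)
        omega
    have hxq := h.nd hx hxv
    have h4 : 3 ≤ cls t (v ^ f) x := by
      by_contra hcon
      have := wS_le_one h.cla (fun n => (hL n).1) (fun n => (hL n).2) hx2 hxq
        (show cls t (v ^ f) x ≤ 2 by omega)
      omega
    refine ⟨hxv, h4, ?_⟩
    rw [wS_reg h.cla hq hx h4] at key
    have hc := h.cla
    cases t with
    | psl n => exact absurd rfl (hL n).1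
    | psu n => exact absurd rfl (hL n).2
    | psp n =>
      change ¬ _ + eta (cls (.psp n) (v ^ f) x) + 0 ≤ n at key
      change n < eta (cls (.psp n) (v ^ f) x) + 1
      omega
    | oodd n =>
      change ¬ _ + eta (cls (.oodd n) (v ^ f) x) + 0 ≤ n at key
      change n < eta (cls (.oodd n) (v ^ f) x) + 1
      omega
    | oplus n =>
      change ¬ _ + eta (cls (.oplus n) (v ^ f) x) + 1 ≤ n at key
      change n < eta (cls (.oplus n) (v ^ f) x) + 2
      omega
    | ominus n =>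
      change ¬ _ + eta (cls (.ominus n) (v ^ f) x) + 1 ≤ n at key
      change n < eta (cls (.ominus n) (v ^ f) x) + 2
      omega
    | _ => exact hc.elim

/-- the classes nonadjacent to the characteristic -/
theorem nap_TV {t : Fam} (hc : Classical t) {i : ℕ} (h3 : 3 ≤ i) (hm : mem t i) (h1 : nap t i) : i ∈ TV t := by
  cases t with
  | psl n =>
    have h2 : n < i + 2 := h1
    have h4 : i ≤ n := hm
    change i ∈ ({n - 1, n} : Finset ℕ)
    rw [Finset.mem_insert, Finset.mem_singleton]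
    omega
  | psu n =>
    have h2 : n < i + 2 := h1
    have h4 : i ≤ n := hm
    change i ∈ ({n - 1, n} : Finset ℕ)
    rw [Finset.mem_insert, Finset.mem_singleton]
    omega
  | psp n =>
    have h2 : n < eta i + 1 := h1
    have h4 : eta i ≤ n := hm
    change i ∈ ({n, 2 * n} : Finset ℕ)
    rw [Finset.mem_insert, Finset.mem_singleton]
    rcases eta_cases i with h5 | h5 <;> omega
  | oodd n =>
    have h2 : n < eta i + 1 := h1
    have h4 : eta i ≤ n := hm
    change i ∈ ({n, 2 * n} : Finset ℕ)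
    rw [Finset.mem_insert, Finset.mem_singleton]
    rcases eta_cases i with h5 | h5 <;> omega
  | oplus n =>
    have h2 : n < eta i + 2 := h1
    have h4 : eta i + 1 ≤ n ∨ (i = n ∧ n % 2 = 1) := hm
    change i ∈ ({if n % 2 = 1 then n else n - 1, 2 * n - 2} : Finset ℕ)
    rw [Finset.mem_insert, Finset.mem_singleton]
    rcases eta_cases i with ⟨h5, h6⟩ | ⟨h5, h6⟩
    · rw [Nat.odd_iff] at h5
      split_ifs <;> omega
    · rw [Nat.even_iff] at h5
      split_ifs <;> omega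
  | ominus n =>
    have h2 : n < eta i + 2 := h1
    have h4 : eta i + 1 ≤ n ∨ i = 2 * n := hm
    change i ∈ ({n - 1, 2 * n - 2, 2 * n} : Finset ℕ)
    rw [Finset.mem_insert, Finset.mem_insert, Finset.mem_singleton]
    rcases eta_cases i with ⟨h5, h6⟩ | ⟨h5, h6⟩ <;> omega
  | _ => exact hc.elim

/-- a regular prime of `S` -/
theorem Frm.mem_cls (h : Frm G K S t v f) {x : ℕ} (hx : x.Prime) (hx2 : x ≠ 2) (hxS : x ∣ Nat.card S)
    (h3 : 3 ≤ cls t (v ^ f) x) : mem t (cls t (v ^ f) x) := by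
  have hxq := (cls_facts hx h3).2.1
  exact ((adjFacts h.cla h.prime h.is).dvd x hx hx2 (fun hd => hxq (hd.trans (dvd_pow_self v h.f_ne))) h3).1 hxS

/-- **Few primes are nonadjacent to an irregular prime.** -/
theorem Frm.irr_few (h : Frm G K S t v f) (ht : BigS t) {z : ℕ} (hz : z.Prime) (hz2 : z ≠ 2) (hzv : z ≠ v)
    (hz3 : cls t (v ^ f) z ≤ 2) {X : Finset ℕ} (hX : ∀ x ∈ X, x.Prime ∧ 5 ≤ x ∧ z ≠ x ∧ x ∣ Nat.card S)
    (hna : ∀ x ∈ X, ¬ ∃ g : S, orderOf g = z * x)
    (hXX : ∀ x ∈ X, ∀ y ∈ X, x ≠ y → ¬ ∃ g : S, orderOf g = x * y) : X.card ≤ 3 := by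
  have hreg : ∀ x ∈ X, x ≠ v ∧ 3 ≤ cls t (v ^ f) x ∧ nap t (cls t (v ^ f) x) := fun x hx =>
    h.irr_nap ht hz hz2 hzv hz3 (hX x hx).1 (by have := (hX x hx).2.1; omega) (hX x hx).2.2.1 (hna x hx)
  have hinj : Set.InjOn (fun x => cls t (v ^ f) x) X := by
    intro x hx y hy hxy
    by_contra hne
    obtain ⟨hxp, hx5, hxz, hxS⟩ := hX x hx
    obtain ⟨hyp, hy5, hyz, hyS⟩ := hX y hy
    exact hXX x hx y hy hne (adj_same' h.cla h.prime h.is hxp hyp (by omega) (by omega) hne (hreg x hx).1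
      (hreg y hy).1 hxS hyS hxy)
  refine (Finset.card_le_card_of_injOn _ ?_ hinj).trans (card_TV' t)
  intro x hx
  obtain ⟨hxp, hx5, hxz, hxS⟩ := hX x hx
  obtain ⟨h1, h2, h3⟩ := hreg x hx
  exact nap_TV h.cla h2 (h.mem_cls hxp (by omega) hxS h2) h3

/-- weights of the classes nonadjacent to the characteristic -/
theorem Frm.nap_big (h : Frm G K S t v f) (ht : BigS t) {i : ℕ} (h1 : nap t i) : rk t < 2 * wt t i := by
  obtain ⟨hr3, hr4, hr4', hc1, hc0⟩ := rk_of_bigS h ht
  have hc := h.cla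
  cases t with
  | psl n =>
    have h2 : n < i + 2 := h1
    have h4 : 4 ≤ n := hr4' ⟨n, Or.inl rfl⟩
    change n < 2 * i
    omega
  | psu n =>
    have h2 : n < i + 2 := h1
    have h4 : 4 ≤ n := hr4' ⟨n, Or.inr rfl⟩
    change n < 2 * i
    omega
  | psp n =>
    have h2 : n < eta i + 1 := h1
    have h4 : 3 ≤ n := hr3
    change n < 2 * eta i
    omega
  | oodd n =>
    have h2 : n < eta i + 1 := h1
    have h4 : 3 ≤ n := hr3
    change n < 2 * eta i
    omega
  | oplus n =>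
    have h2 : n < eta i + 2 := h1
    have h4 : 4 ≤ n := hr4 rfl
    change n < 2 * eta i
    omega
  | ominus n =>
    have h2 : n < eta i + 2 := h1
    have h4 : 4 ≤ n := hr4 rfl
    change n < 2 * eta i
    omega
  | _ => exact hc.elim

end S

theorem na_of_big_sum {n d c : ℕ} (hd : n < 2 * eta d ∨ n = 2 * eta d) (hc : n < 2 * eta c) (hdn : eta d ≤ n)
    (hcn : eta c ≤ n) (hdc : d ≠ c) (hd0 : 0 < eta d) : n < eta d + eta c ∧ ¬ OddMul d c ∧ ¬ OddMul c d := by
  refine ⟨by omega, ?_, ?_⟩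
  · rcases hd with hd | hd
    · exact not_oddMul hd hcn hdc
    · rintro ⟨k, hk, rfl⟩
      rw [eta_mul_odd hk] at hcn hc
      have hk1 : k ≠ 1 := by
        rintro rfl
        exact hdc (mul_one d).symm
      have h3 : 3 ≤ k := by omega
      have := Nat.mul_le_mul_left (eta d) h3
      omega
  · exact not_oddMul hc hdn hdc.symm

/-- **A class of small weight.** -/
theorem low_comb {t : Fam} (ht : Classical t) {a b c d : ℕ} (h4 : 4 ≤ rk t ∨ 3 ≤ rk t ∧ cS t = 0) (ha : 2 * wt t a ≤ rk t)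
    (hb3 : 3 ≤ b) (hc3 : 3 ≤ c) (hd3 : 3 ≤ d) (hbm : mem t b)
    (hcm : mem t c) (hdm : mem t d) (hab : na t a b) (hac : na t a c) (hbc : na t b c) (had : na t a d) :
    na t d b ∨ na t d c := by
  by_cases e1 : d = b
  · right; rw [e1]; exact hbc
  by_cases e2 : d = c
  · left; rw [e2]; exact na_symm hbc
  have hbc' := na_ne hbc
  cases t with
  | psl n =>
    obtain ⟨h1, h2, h3⟩ := hab
    obtain ⟨h1', h2', h3'⟩ := had
    change 2 * a ≤ n at ha
    left
    exact na_of_big ht ⟨hd3, hdm, show n < 2 * d by omega⟩ ⟨hb3, hbm, show n < 2 * b by omega⟩ e1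
  | psu n =>
    obtain ⟨h1, h2, h3⟩ := hab
    obtain ⟨h1', h2', h3'⟩ := had
    change 2 * a ≤ n at ha
    left
    exact na_of_big ht ⟨hd3, hdm, show n < 2 * d by omega⟩ ⟨hb3, hbm, show n < 2 * b by omega⟩ e1
  | psp n =>
    obtain ⟨h1, h2, h3⟩ := hab
    obtain ⟨h1', h2', h3'⟩ := had
    change 2 * eta a ≤ n at ha
    left
    exact na_of_big ht ⟨hd3, hdm, show n < 2 * eta d by omega⟩ ⟨hb3, hbm, show n < 2 * eta b by omega⟩ e1
  | oodd n =>
    obtain ⟨h1, h2, h3⟩ := hab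
    obtain ⟨h1', h2', h3'⟩ := had
    change 2 * eta a ≤ n at ha
    left
    exact na_of_big ht ⟨hd3, hdm, show n < 2 * eta d by omega⟩ ⟨hb3, hbm, show n < 2 * eta b by omega⟩ e1
  | oplus n =>
    have hn4 : 4 ≤ n := by
      rcases h4 with h4 | ⟨_, h4⟩
      · exact h4
      · exact absurd h4 Nat.one_ne_zero
    obtain ⟨h1, h2, h3, -, -⟩ := hab
    obtain ⟨h1', h2', h3', -, -⟩ := hac
    obtain ⟨h1'', h2'', h3'', -, -⟩ := had
    change 2 * eta a ≤ n at ha
    have hle : ∀ {i : ℕ}, mem (.oplus n) i → eta i ≤ n := by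
      intro i hi
      rcases hi with h | ⟨h, h'⟩
      · omega
      · rw [h, eta_odd h']
    have hb' := hle hbm
    have hc' := hle hcm
    have hd' := hle hdm
    -- `b` or `c` is big
    have hpar : ∀ {i j : ℕ}, eta i = eta j → i % 2 = j % 2 → i = j := by
      intro i j hij h5
      rcases eta_cases i with ⟨h6, h7⟩ | ⟨h6, h7⟩ <;> rcases eta_cases j with ⟨h8, h9⟩ | ⟨h8, h9⟩ <;>
        simp only [Nat.odd_iff, Nat.even_iff] at h6 h8 <;> omega
    have hda : n < 2 * eta d ∨ n = 2 * eta d := by omega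
    have hd0 : 0 < eta d := by omega
    have key : ∀ {c : ℕ}, n < 2 * eta c → mem (.oplus n) c → eta c ≤ n → d ≠ c → na (.oplus n) d c := by
      intro c hc hcm hcn hdc
      obtain ⟨g1, g2, g3⟩ := na_of_big_sum hda hc hd' hcn hdc hd0
      refine ⟨Or.inl g1, g2, g3, ?_, ?_⟩
      · rintro ⟨g4, g5, g6⟩
        rw [eta_odd g6] at hc
        omega
      · rintro ⟨g4, g5, g6⟩
        rw [g4] at hc
        rcases hcm with hcm | ⟨_, hcm⟩
        · rw [g4] at hcm
          rcases eta_cases n with ⟨g7, g8⟩ | ⟨g7, g8⟩ <;> omega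
        · omega
    rcases Nat.lt_or_ge n (2 * eta b) with h5 | h5
    · left; exact key h5 hbm hb' e1
    · rcases Nat.lt_or_ge n (2 * eta c) with h6 | h6
      · right; exact key h6 hcm hc' e2
      · exfalso
        apply hbc'
        apply hpar <;> omega
  | ominus n =>
    obtain ⟨h1, h2, h3⟩ := hab
    obtain ⟨h1'', h2'', h3''⟩ := had
    change 2 * eta a ≤ n at ha
    have hpar : ∀ {i j : ℕ}, eta i = eta j → i % 2 = j % 2 → OddMul i j := by
      intro i j hij h5
      refine ⟨1, rfl, ?_⟩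
      rcases eta_cases i with ⟨h6, h7⟩ | ⟨h6, h7⟩ <;> rcases eta_cases j with ⟨h8, h9⟩ | ⟨h8, h9⟩ <;>
        simp only [Nat.odd_iff, Nat.even_iff] at h6 h8 <;> omega
    have hb4 : n < 2 * eta b := by
      by_contra hcon
      apply h2
      apply hpar <;> omega
    have hd4 : n < 2 * eta d := by
      by_contra hcon
      apply h2''
      apply hpar <;> omega
    left
    exact na_of_big ht ⟨hd3, hdm, hd4⟩ ⟨hb3, hbm, hb4⟩ e1
  | _ => exact ht.elim

end Cfsg.Agent.R2.Spec.F1
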