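import Cfsg.Agent.R2.Spec.F1.DuelEx
import Cfsg.Agent.S2476
import Cfsg.Agent.H127.PSUThreeEx

/-!
# Four classes: `S` is not small (helper23)

* `Frm.adj_low` : `psl 3`, `psu 3`, `psp 2` : two primes `≥ 5` of classes at most two are adjacent;
* `Frm.bigS_of_three` : three pairwise nonadjacent primes `≥ 5`, not the characteristic, of `|S|`: `BigS t'`;
* `LS.bigS_four` : `L` has a coclique of four classes: `BigS t'` (every characteristic);
* `LS.bigS_fourI` : `BigS t'` for `psl`, `psu` 7, 8, `oplus` 5, 6, `ominus` 5, `3 ≤ q`;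
* `LS.bigS_iso` : `BigS t'` whenever `IsoRk t` (`psl`, `psu` `n ≥ 7`, the others `n ≥ 5`), `3 ≤ q`;
* `exists_duel'`, `exists_duel_or'` : `exists_duel`, `exists_duel_or` without the hypothesis `BigS t'`.
-/

set_option autoImplicit false
set_option linter.unusedSectionVars false
set_option linter.unusedVariables false

namespace Cfsg.Agent.R2.Spec.F1

open Subgroup Cfsg
open Cfsg.Agent.H426.LieFam Cfsg.Agent.R2.Spec Cfsg.Agent.R2.Spec.P1
open Cfsg.Agent.H72 Cfsg.Agent.H420.QR Cfsg.Agent.R2.Spec.E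

universe u w

theorem mul_dvd_div_gcd {x y A d : ℕ} (hx : x.Prime) (hy : y.Prime) (hx5 : 5 ≤ x) (hy5 : 5 ≤ y) (hxy : x ≠ y)
    (hxA : x ∣ A) (hyA : y ∣ A) (hdA : Nat.gcd 3 d ∣ A) : x * y ∣ A / Nat.gcd 3 d := by
  have hco : Nat.Coprime x y := (Nat.coprime_primes hx hy).2 hxy
  have h3 : ∀ {w : ℕ}, w.Prime → 5 ≤ w → Nat.Coprime w (Nat.gcd 3 d) := by
    intro w hw hw5
    refine Nat.Coprime.coprime_dvd_right (Nat.gcd_dvd_left 3 d) ?_
    exact (Nat.coprime_primes hw Nat.prime_three).2 (by omega)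
  obtain ⟨c, hc⟩ := hdA
  have hg : 0 < Nat.gcd 3 d := Nat.gcd_pos_of_pos_left _ (by norm_num)
  rw [hc, Nat.mul_div_cancel_left _ hg]
  have h4 : x * y ∣ Nat.gcd 3 d * c := by
    rw [← hc]
    exact hco.mul_dvd_of_dvd_of_dvd hxA hyA
  exact (Nat.Coprime.mul_left (h3 hx hx5) (h3 hy hy5)).dvd_of_dvd_mul_left h4

variable {G : Type u} [Group G] [Finite G] {K : Subgroup G} [K.Normal] {S : Subgroup (G ⧸ K)} [S.Normal] {t' : Fam}
  {v f' : ℕ}

/-- **Two primes of classes at most two.** -/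
theorem Frm.adj_low (h : Frm G K S t' v f') (ht : t' = .psl 3 ∨ t' = .psu 3 ∨ t' = .psp 2) {x y : ℕ} (hx : x.Prime)
    (hy : y.Prime) (hx5 : 5 ≤ x) (hy5 : 5 ≤ y) (hxy : x ≠ y) (hxv : x ≠ v) (hyv : y ≠ v)
    (cx : cls t' (v ^ f') x ≤ 2) (cy : cls t' (v ^ f') y ≤ 2) : ∃ g : S, orderOf g = x * y := by
  have hq : 1 ≤ v ^ f' := Nat.one_le_pow _ _ h.prime.pos
  have h1 := dvd_sq_of_cls hq hx (h.nd hx hxv) cx
  have h2 := dvd_sq_of_cls hq hy (h.nd hy hyv) cy
  have hsq : (v ^ f') ^ 2 - 1 = (v ^ f' + 1) * (v ^ f' - 1) := by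
    have h3 := Nat.sq_sub_sq (v ^ f') 1
    rw [one_pow] at h3
    exact h3
  rcases ht with rfl | rfl | rfl
  · obtain ⟨hn, h4, F, _, _, hch, hF, ⟨e⟩⟩ := h.is
    have := Fact.mk h.prime
    have hd : x * y ∣ (Fintype.card F ^ 2 - 1) / Nat.gcd 3 (Fintype.card F - 1) := by
      rw [hF]
      exact mul_dvd_div_gcd hx hy hx5 hy5 hxy h1 h2 (by
        rw [hsq]
        exact (Nat.gcd_dvd_right _ _).trans (Dvd.intro_left _ rfl))
    have h5 : x * y ∈ Set.range (orderOf : Matrix.ProjectiveSpecialLinearGroup (Fin 3) F → ℕ) := by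
      rw [S2476.result (F := F) v]
      exact Or.inr (Or.inl hd)
    exact exists_congr_order e h5
  · obtain ⟨hn, h4, F, _, _, hch, hF, ⟨e⟩⟩ := h.is
    have := Fact.mk h.prime
    refine exists_congr_order e (Cfsg.Agent.H127.PSUThreeEx.ex_three hF _ ?_)
    exact mul_dvd_div_gcd hx hy hx5 hy5 hxy h1 h2 (by
        rw [hsq]
        exact (Nat.gcd_dvd_right _ _).trans (Dvd.intro _ rfl))
  · have hw := fun {z : ℕ} (hz : z.Prime) (hzv : z ≠ v) (hz2 : cls (.psp 2) (v ^ f') z ≤ 2) (hz5 : 5 ≤ z) =>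
      wS_le_one h.cla (fun n h => by cases h) (fun n h => by cases h) (by omega)
        (h.nd hz hzv) hz2
    have hwx := hw hx hxv cx hx5
    have hwy := hw hy hyv cy hy5
    refine adj_wS h.cla h.is hx hy hxy ?_
    have h5 : cS (.psp 2) = 0 := rfl
    have h6 : rk (.psp 2) = 2 := rfl
    omega

/-- **Three pairwise nonadjacent primes, not the characteristic.** -/
theorem Frm.bigS_of_three (h : Frm G K S t' v f') {X : Finset ℕ}
    (hX : ∀ x ∈ X, x.Prime ∧ 5 ≤ x ∧ x ∣ Nat.card S ∧ x ≠ v)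
    (hXX : ∀ x ∈ X, ∀ y ∈ X, x ≠ y → ¬ ∃ g : S, orderOf g = x * y) (h3 : 3 ≤ X.card) : BigS t' := by
  have hmem : ∀ x ∈ X, 3 ≤ cls t' (v ^ f') x → mem t' (cls t' (v ^ f') x) := by
    intro x hx hx3
    obtain ⟨hxp, hx5, hxS, hxv⟩ := hX x hx
    exact ((adjFacts h.cla h.prime h.is).dvd x hxp (by omega)
      (fun hd => hxv ((Nat.prime_dvd_prime_iff_eq hxp h.prime).1 hd)) hx3).1 hxS
  have hsame : ∀ x ∈ X, ∀ y ∈ X, x ≠ y → cls t' (v ^ f') x ≠ cls t' (v ^ f') y := by
    intro x hx y hy hxy hc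
    obtain ⟨hxp, hx5, hxS, hxv⟩ := hX x hx
    obtain ⟨hyp, hy5, hyS, hyv⟩ := hX y hy
    exact hXX x hx y hy hxy (adj_same' h.cla h.prime h.is hxp hyp (by omega) (by omega) hxy hxv hyv hxS hyS hc)
  -- two classes
  have key : ∀ k : ℕ, (∀ x ∈ X, ∀ y ∈ X, x ≠ y → cls t' (v ^ f') x ≤ 2 → cls t' (v ^ f') y ≤ 2 → False) →
      (∀ x ∈ X, 3 ≤ cls t' (v ^ f') x → cls t' (v ^ f') x = k) → False := by
    intro k hlow hk
    obtain ⟨x, y, z, hx, hy, hz, hxy, hxz, hyz⟩ := Finset.two_lt_card_iff.1 (show 2 < X.card by omega)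
    by_cases h1 : cls t' (v ^ f') x ≤ 2
    · by_cases h2 : cls t' (v ^ f') y ≤ 2
      · exact hlow x hx y hy hxy h1 h2
      · by_cases h4 : cls t' (v ^ f') z ≤ 2
        · exact hlow x hx z hz hxz h1 h4
        · exact hsame y hy z hz hyz ((hk y hy (by omega)).trans (hk z hz (by omega)).symm)
    · by_cases h2 : cls t' (v ^ f') y ≤ 2
      · by_cases h4 : cls t' (v ^ f') z ≤ 2
        · exact hlow y hy z hz hyz h2 h4
        · exact hsame x hx z hz hxz ((hk x hx (by omega)).trans (hk z hz (by omega)).symm)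
      · exact hsame x hx y hy hxy ((hk x hx (by omega)).trans (hk y hy (by omega)).symm)
  have hlow : (t' = .psl 3 ∨ t' = .psu 3 ∨ t' = .psp 2) →
      ∀ x ∈ X, ∀ y ∈ X, x ≠ y → cls t' (v ^ f') x ≤ 2 → cls t' (v ^ f') y ≤ 2 → False := by
    intro ht x hx y hy hxy h1 h2
    obtain ⟨hxp, hx5, hxS, hxv⟩ := hX x hx
    obtain ⟨hyp, hy5, hyS, hyv⟩ := hX y hy
    exact hXX x hx y hy hxy (h.adj_low ht hxp hyp hx5 hy5 hxy hxv hyv h1 h2)
  refine ⟨h.cla, ?_, ?_, ?_, ?_⟩
  · intro ht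
    have hle : ∀ x ∈ X, 1 ≤ cls t' (v ^ f') x ∧ cls t' (v ^ f') x ≤ 2 := by
      intro x hx
      obtain ⟨hxp, hx5, hxS, hxv⟩ := hX x hx
      refine ⟨cls_pos hxp (h.nd hxp hxv), ?_⟩
      by_contra hcon
      have h1 := hmem x hx (by omega)
      rw [ht] at h1 hcon
      have h2 : cls (.psl 2) (v ^ f') x ≤ 2 := h1
      omega
    obtain ⟨x, y, z, hx, hy, hz, hxy, hxz, hyz⟩ := Finset.two_lt_card_iff.1 (show 2 < X.card by omega)
    have h1 := hle x hx
    have h2 := hle y hy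
    have h3 := hle z hz
    have h4 := hsame x hx y hy hxy
    have h5 := hsame x hx z hz hxz
    have h6 := hsame y hy z hz hyz
    omega
  · intro ht
    refine key 3 (hlow (Or.inl ht)) fun x hx h1 => ?_
    have h2 := hmem x hx h1
    rw [ht] at h1 h2 ⊢
    have h3 : cls (.psl 3) (v ^ f') x ≤ 3 := h2
    omega
  · intro ht
    refine key 3 (hlow (Or.inr (Or.inl ht))) fun x hx h1 => ?_
    have h2 := hmem x hx h1
    rw [ht] at h1 h2 ⊢
    have h3 : cls (.psu 3) (v ^ f') x ≤ 3 := h2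
    omega
  · intro ht
    refine key 4 (hlow (Or.inr (Or.inr ht))) fun x hx h1 => ?_
    have h2 := hmem x hx h1
    rw [ht] at h1 h2 ⊢
    have h3 : eta (cls (.psp 2) (v ^ f') x) ≤ 2 := h2
    rcases eta_cases (cls (.psp 2) (v ^ f') x) with ⟨h5, h6⟩ | ⟨⟨k, hk⟩, h6⟩ <;> omega

section L

variable {t : Fam} {p f : ℕ} {L : Type w} [Group L] [Finite L]

/-- **A coclique of four classes: `S` is not small.** -/
theorem LS.bigS_four (h : LS t p f L G) (hR : Red G K S) (hF : Frm G K S t' v f') {I : Finset ℕ}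
    (hreg : ∀ j ∈ I, 3 ≤ j ∧ mem t j) (hna : ∀ j ∈ I, ∀ k ∈ I, j ≠ k → na t j k)
    (hex : ∀ j ∈ I, ∃ r : ℕ, r.Prime ∧ cls t (p ^ f) r = j) (h4 : 4 ≤ I.card) : BigS t' := by
  classical
  choose! z hz using hex
  have hzI : ∀ j ∈ I, In t (p ^ f) j (z j) := fun j hj => ⟨(hz j hj).1, (hz j hj).2, (hreg j hj).1, (hreg j hj).2⟩
  have hinj : ∀ J : Finset ℕ, J ⊆ I → Set.InjOn z (J : Set ℕ) := by
    intro J hJ j hj k hk hjk
    by_contra hne
    exact (hzI j (hJ hj)).ne (hzI k (hJ hk)) hne hjk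
  have hnadj : ∀ J : Finset ℕ, J ⊆ I → ∀ x ∈ J.image z, ∀ y ∈ J.image z, x ≠ y → ¬ ∃ g : S, orderOf g = x * y := by
    intro J hJ x hx y hy hxy
    obtain ⟨j, hj, rfl⟩ := Finset.mem_image.1 hx
    obtain ⟨k, hk, rfl⟩ := Finset.mem_image.1 hy
    have hjk : j ≠ k := fun hjk => hxy (by rw [hjk])
    exact h.not_adj_S (hzI j (hJ hj)) (hzI k (hJ hk)) (hna j (hJ hj) k (hJ hk) hjk)
  by_cases hall : ∀ j ∈ I, ¬ z j ∣ Nat.card K * S.index
  · refine hF.bigS_of_four (X := I.image z) ?_ (hnadj I (Finset.Subset.refl _)) (by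
      rw [Finset.card_image_of_injOn (hinj I (Finset.Subset.refl _))]; exact h4)
    intro x hx
    obtain ⟨j, hj, rfl⟩ := Finset.mem_image.1 hx
    refine ⟨(hzI j hj).prime, (hzI j hj).five, ?_⟩
    have h1 := (hzI j hj).dvd h
    rw [card_eq_mul (K := K) (S := S)] at h1
    exact ((hzI j hj).prime.dvd_mul.1 h1).resolve_right (hall j hj)
  · push Not at hall
    obtain ⟨b, hb, hbad⟩ := hall
    have hcard : (I.erase b).card = I.card - 1 := Finset.card_erase_of_mem hb
    have hJ : ∀ j ∈ I.erase b, In t (p ^ f) j (z j) := fun j hj => hzI j (Finset.mem_of_mem_erase hj)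
    have hbJ : ∀ j ∈ I.erase b, na t b j := fun j hj =>
      hna b hb j (Finset.mem_of_mem_erase hj) (Finset.ne_of_mem_erase hj).symm
    have hJJ : ∀ j ∈ I.erase b, ∀ k ∈ I.erase b, j ≠ k → na t j k := fun j hj k hk =>
      hna j (Finset.mem_of_mem_erase hj) k (Finset.mem_of_mem_erase hk)
    by_cases hne : z b ∣ Nat.card K ∨ z b ∣ dg t' (v ^ f')
    · obtain ⟨-, ⟨-, -, n, hn⟩, -⟩ := h.few hR hF (hzI b hb) hbad hne hJ hbJ hJJ (by omega)
      subst hn
      exact ⟨hF.cla, (by intro h; cases h), (by intro h; cases h), (by intro h; cases h), (by intro h; cases h)⟩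
    · rw [not_or] at hne
      refine hF.bigS_of_three (X := (I.erase b).image z) ?_ (hnadj _ (Finset.erase_subset _ _)) (by
        rw [Finset.card_image_of_injOn (hinj _ (Finset.erase_subset _ _)), hcard]; omega)
      intro x hx
      obtain ⟨j, hj, rfl⟩ := Finset.mem_image.1 hx
      obtain ⟨c, hc, hcb, hcj⟩ := exists_third (show 3 ≤ I.card by omega) b j
      have hc' : c ∈ I.erase b := Finset.mem_erase.2 ⟨hcb, hc⟩
      obtain ⟨g1, g2⟩ := h.good_of_bad hR (hzI b hb) (hJ j hj) (hJ c hc') (hbJ j hj) (hbJ c hc')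
        (hJJ j hj c hc' hcj.symm) hbad
      have hbj := (hzI b hb).ne (hJ j hj) (na_ne (hbJ j hj))
      refine ⟨(hJ j hj).prime, (hJ j hj).five, g2, ?_⟩
      rcases hF.bad (hzI b hb).prime (hzI b hb).five hbad (hJ j hj).prime (hJ j hj).five hbj.symm g2
        (fun hg => (h.adj_iff (hzI b hb) (hJ j hj) hbj).1 hg (hbJ j hj)) with h5 | h5 | h5 | h5
      · exact absurd h5.1 hne.1
      · exact absurd h5.1 hne.1
      · exact absurd h5.2.1 hne.2
      · exact h5.2.2.1

/-- the types with a coclique of four classes -/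
def FourT (t : Fam) : Prop :=
  t = .psl 7 ∨ t = .psu 7 ∨ t = .psl 8 ∨ t = .psu 8 ∨ t = .oplus 5 ∨ t = .oplus 6 ∨ t = .ominus 5

theorem LS.bigS_fourI (h : LS t p f L G) (hR : Red G K S) (hF : Frm G K S t' v f') (hq : 3 ≤ p ^ f) (ht : FourT t) :
    BigS t' := by
  have hc : coqB t (fourI t) = true ∧ 4 ≤ (fourI t).toFinset.card := by
    rcases ht with rfl | rfl | rfl | rfl | rfl | rfl | rfl <;> exact ⟨by decide, by decide⟩
  obtain ⟨h1, h2⟩ := coqB_of hc.1
  exact h.bigS_four hR hF h1 h2 (fun j hj => exists_cls h.q_pos (h1 j hj).1 fun hq2 => by omega) hc.2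

/-- **`BigS t'` for all `L` with isolated classes under control.** -/
theorem LS.bigS_iso (h : LS t p f L G) (hR : Red G K S) (hF : Frm G K S t' v f') (hq : 3 ≤ p ^ f) (ht : IsoRk t) :
    BigS t' := by
  have hfld : FldOk t (p ^ f) := by
    cases t with
    | psl n => exact fun hq2 => by omega
    | psu n => exact fun hq2 => by omega
    | _ => trivial
  by_cases h5 : Five t
  · exact h.bigS_five hR hF h5 hfld
  · by_cases hsm : SmallT t
    · exact h.bigS_small hR hF hq hsm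
    · refine h.bigS_fourI hR hF hq ?_
      cases t with
      | psl n =>
        change 7 ≤ n at ht
        change ¬ 9 ≤ n at h5
        have hn : n = 7 ∨ n = 8 := by omega
        rcases hn with rfl | rfl
        · exact Or.inl rfl
        · exact Or.inr (Or.inr (Or.inl rfl))
      | psu n =>
        change 7 ≤ n at ht
        change ¬ 9 ≤ n at h5
        have hn : n = 7 ∨ n = 8 := by omega
        rcases hn with rfl | rfl
        · exact Or.inr (Or.inl rfl)
        · exact Or.inr (Or.inr (Or.inr (Or.inl rfl)))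
      | psp n =>
        exfalso
        change 5 ≤ n at ht
        change ¬ 7 ≤ n at h5
        have : n ≠ 5 := fun h9 => hsm (Or.inl h9)
        have : n ≠ 6 := fun h9 => hsm (Or.inr h9)
        omega
      | oodd n =>
        exfalso
        change 5 ≤ n at ht
        change ¬ 7 ≤ n at h5
        have : n ≠ 5 := fun h9 => hsm (Or.inl h9)
        have : n ≠ 6 := fun h9 => hsm (Or.inr h9)
        omega
      | oplus n =>
        change 5 ≤ n at ht
        change ¬ 7 ≤ n at h5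
        have hn : n = 5 ∨ n = 6 := by omega
        rcases hn with rfl | rfl
        · exact Or.inr (Or.inr (Or.inr (Or.inr (Or.inl rfl))))
        · exact Or.inr (Or.inr (Or.inr (Or.inr (Or.inr (Or.inl rfl)))))
      | ominus n =>
        change 5 ≤ n at ht
        change ¬ 7 ≤ n at h5
        have : n ≠ 6 := fun h9 => hsm h9
        have hn : n = 5 := by omega
        subst hn
        exact Or.inr (Or.inr (Or.inr (Or.inr (Or.inr (Or.inr rfl)))))
      | _ => exact ht.elim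

/-- **Existence of the duel**, without the hypothesis `BigS`. -/
theorem exists_duel' (h : LS t p f L G) (hL : Fam.Is p f L t) (hR : Red G K S) (hF : Frm G K S t' v f') (hvp : v ≠ p)
    (hp2 : p ≠ 2) (hT : RegT t) (hex : ∀ n, (t = .psp n ∨ t = .oodd n) → n % 2 = 1) :
    BigS t' ∧ ∃ i j i' j' w H : ℕ, Duel t p f i j t' v f' i' j' w H S := by
  have hS := h.bigS_iso hR hF (h.q_three hp2) (small_isoRk hT)
  exact ⟨hS, exists_duel h hL hR hF hvp hp2 hT hS hex⟩

end L

end Cfsg.Agent.R2.Spec.F1
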