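import Cfsg.Agent.R2.Spec.F1.Good

/-!
# GOOD for the small ranks, and the isolated classes (helper23)

* `Small t I` : ranks 5, 6 of `psp`, `oodd`, rank 6 of `ominus` : a coclique of five classes, all of them good;
* `Four t I` : `psl`, `psu` 7, 8, `oplus` 5, 6, `ominus` 5 : a coclique of four classes, the isolated ones are good;
* `LS.good_iso` : the isolated classes are good (`p` odd).
-/

set_option autoImplicit false
set_option linter.unusedSectionVars false
set_option linter.unusedVariables false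

namespace Cfsg.Agent.R2.Spec.F1

open Subgroup Cfsg
open Cfsg.Agent.H426.LieFam Cfsg.Agent.R2.Spec Cfsg.Agent.R2.Spec.P1
open Cfsg.Agent.H420.QR

universe u w

variable {t : Fam} {p f : ℕ} {L : Type w} [Group L] [Finite L] {G : Type u} [Group G] [Finite G]
variable {K : Subgroup G} [K.Normal] {S : Subgroup (G ⧸ K)} [S.Normal]
variable {t' : Fam} {v f' : ℕ}

/-- `mem` for explicit numbers -/
def memB : Fam → ℕ → Bool
  | .psl n, i => decide (i ≤ n)
  | .psu n, i => decide (i ≤ n)
  | .psp n, i => decide (eta i ≤ n)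
  | .oodd n, i => decide (eta i ≤ n)
  | .oplus n, i => decide (eta i + 1 ≤ n ∨ (i = n ∧ n % 2 = 1))
  | .ominus n, i => decide (eta i + 1 ≤ n ∨ i = 2 * n)
  | _, _ => false

theorem mem_of_memB {t : Fam} {i : ℕ} (h : memB t i = true) : mem t i := by
  cases t with
  | psl n => exact of_decide_eq_true (p := i ≤ n) h
  | psu n => exact of_decide_eq_true (p := i ≤ n) h
  | psp n => exact of_decide_eq_true (p := eta i ≤ n) h
  | oodd n => exact of_decide_eq_true (p := eta i ≤ n) h
  | oplus n => exact of_decide_eq_true (p := eta i + 1 ≤ n ∨ (i = n ∧ n % 2 = 1)) h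
  | ominus n => exact of_decide_eq_true (p := eta i + 1 ≤ n ∨ i = 2 * n) h
  | _ => exact Bool.noConfusion h

/-- `nap` for explicit numbers -/
def napB : Fam → ℕ → Bool
  | .psl n, i => decide (n < i + 2)
  | .psu n, i => decide (n < i + 2)
  | .psp n, i => decide (n < eta i + 1)
  | .oodd n, i => decide (n < eta i + 1)
  | .oplus n, i => decide (n < eta i + 2)
  | .ominus n, i => decide (n < eta i + 2)
  | _, _ => false

theorem nap_iff_napB {t : Fam} {i : ℕ} : nap t i ↔ napB t i = true := by
  cases t with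
  | psl n => exact (decide_eq_true_iff (p := n < i + 2)).symm
  | psu n => exact (decide_eq_true_iff (p := n < i + 2)).symm
  | psp n => exact (decide_eq_true_iff (p := n < eta i + 1)).symm
  | oodd n => exact (decide_eq_true_iff (p := n < eta i + 1)).symm
  | oplus n => exact (decide_eq_true_iff (p := n < eta i + 2)).symm
  | ominus n => exact (decide_eq_true_iff (p := n < eta i + 2)).symm
  | _ => exact ⟨fun h => h.elim, fun h => Bool.noConfusion h⟩

/-- a coclique of regular classes, checked by evaluation -/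
def coqB (t : Fam) (I : List ℕ) : Bool :=
  I.all fun j => decide (3 ≤ j) && memB t j && I.all fun k => decide (j = k) || naB t j k

theorem coqB_of {t : Fam} {I : List ℕ} (h : coqB t I = true) :
    (∀ j ∈ I.toFinset, 3 ≤ j ∧ mem t j) ∧ ∀ j ∈ I.toFinset, ∀ k ∈ I.toFinset, j ≠ k → na t j k := by
  rw [coqB, List.all_eq_true] at h
  have h1 : ∀ j ∈ I, 3 ≤ j ∧ mem t j := by
    intro j hj
    have h2 := h j hj
    rw [Bool.and_eq_true, Bool.and_eq_true, decide_eq_true_iff] at h2
    exact ⟨h2.1.1, mem_of_memB h2.1.2⟩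
  refine ⟨fun j hj => h1 j (List.mem_toFinset.1 hj), ?_⟩
  intro j hj k hk hjk
  rw [List.mem_toFinset] at hj hk
  have h2 := h j hj
  rw [Bool.and_eq_true, List.all_eq_true] at h2
  have h3 := h2.2 k hk
  rw [Bool.or_eq_true, decide_eq_true_iff] at h3
  have h4 := (h1 j hj).1
  have h5 := (h1 k hk).1
  exact na_of_naB (by omega) (by omega) (h3.resolve_left hjk)

/-- all classes of a coclique of five classes -/
theorem LS.good_five (h : LS t p f L G) (hR : Red G K S) (hF : Frm G K S t' v f') {I : List ℕ}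
    (hc : coqB t I = true) (hlen : 5 ≤ I.toFinset.card) (hq : 3 ≤ p ^ f ∨ (3 ∉ I ∧ 6 ∉ I)) {i : ℕ} (hi : i ∈ I)
    (hk : Killer (fun j => j ∈ I) i) {r : ℕ} (hr : r.Prime) (hri : cls t (p ^ f) r = i) :
    ¬ r ∣ Nat.card K * S.index ∧ r ∣ Nat.card S := by
  obtain ⟨h1, h2⟩ := coqB_of hc
  refine h.good_of_set hR hF (I := I.toFinset) (List.mem_toFinset.2 hi) h1 h2 ?_ ?_ (Or.inl hlen) hr hri
  · intro j hj
    refine exists_cls h.q_pos (h1 j hj).1 fun hq2 => ?_
    rcases hq with hq | ⟨h3, h6⟩
    · omega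
    · rw [List.mem_toFinset] at hj
      exact ⟨fun hj6 => h6 (hj6 ▸ hj), fun hj3 => h3 (hj3 ▸ hj)⟩
  · have h6 : (fun j => j ∈ I.toFinset) = fun j => j ∈ I := by
      funext j
      rw [List.mem_toFinset]
    rw [h6]
    exact hk

/-- the isolated classes of a coclique of four classes -/
theorem LS.good_four (h : LS t p f L G) (hR : Red G K S) (hF : Frm G K S t' v f') (hp2 : p ≠ 2) {I : List ℕ}
    (hc : coqB t I = true) (hlen : 4 ≤ I.toFinset.card) {i : ℕ} (hi : i ∈ I)
    (hk : Killer (fun j => j ∈ I) i)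
    (hnap : (napB t i && I.any (fun k => (!decide (k = i)) && napB t k) &&
      I.all fun j => decide (j = i) || I.any fun k => (!decide (k = i)) && (!decide (k = j)) && !napB t k) = true)
    {r : ℕ} (hr : r.Prime) (hri : cls t (p ^ f) r = i) :
    ¬ r ∣ Nat.card K * S.index ∧ r ∣ Nat.card S := by
  obtain ⟨h1, h2⟩ := coqB_of hc
  have hq3 : 3 ≤ p ^ f := by
    have := h.prime.two_le
    exact (show 3 ≤ p by omega).trans (Nat.le_self_pow (by have := h.fpos; omega) p)
  rw [Bool.and_eq_true, Bool.and_eq_true, ← nap_iff_napB, List.any_eq_true, List.all_eq_true] at hnap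
  obtain ⟨⟨h3, k, hkI, hk2⟩, h4⟩ := hnap
  rw [Bool.and_eq_true, Bool.not_eq_true', decide_eq_false_iff_not, ← nap_iff_napB] at hk2
  refine h.good_of_set hR hF (I := I.toFinset) (List.mem_toFinset.2 hi) h1 h2 ?_ ?_ (Or.inr ⟨hlen, hp2, h3,
    ⟨k, List.mem_toFinset.2 hkI, hk2.1, hk2.2⟩, ?_⟩) hr hri
  · intro j hj
    exact exists_cls h.q_pos (h1 j hj).1 fun hq2 => by omega
  · have h6 : (fun j => j ∈ I.toFinset) = fun j => j ∈ I := by
      funext j
      rw [List.mem_toFinset]
    rw [h6]
    exact hk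
  · intro j hj hji
    have h5 := h4 j (List.mem_toFinset.1 hj)
    rw [Bool.or_eq_true, decide_eq_true_iff] at h5
    obtain ⟨l, hl, hl2⟩ := List.any_eq_true.1 (h5.resolve_left hji)
    rw [Bool.and_eq_true, Bool.and_eq_true, Bool.not_eq_true', decide_eq_false_iff_not, Bool.not_eq_true',
      decide_eq_false_iff_not, Bool.not_eq_true'] at hl2
    refine ⟨l, List.mem_toFinset.2 hl, hl2.1.1, hl2.1.2, ?_⟩
    rw [nap_iff_napB, hl2.2]
    exact Bool.false_ne_true

/-- the coclique of five classes in ranks 5, 6 -/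
def smallI : Fam → List ℕ
  | .psp 5 => [3, 5, 6, 8, 10]
  | .oodd 5 => [3, 5, 6, 8, 10]
  | .psp 6 => [3, 5, 8, 10, 12]
  | .oodd 6 => [3, 5, 8, 10, 12]
  | .ominus 6 => [3, 5, 8, 10, 12]
  | _ => []

/-- the second coclique of five classes in rank 6 -/
def smallI' : Fam → List ℕ
  | .psp 6 => [6, 5, 8, 10, 12]
  | .oodd 6 => [6, 5, 8, 10, 12]
  | .ominus 6 => [6, 5, 8, 10, 12]
  | _ => []

theorem killer_small {t : Fam} {i : ℕ} (hi : i ∈ smallI t) :
    coqB t (smallI t) = true ∧ 5 ≤ (smallI t).toFinset.card ∧ Killer (fun j => j ∈ smallI t) i := by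
  have k5 : ∀ {i : ℕ}, i ∈ [3, 5, 6, 8, 10] → Killer (fun j => j ∈ [3, 5, 6, 8, 10]) i := by
    intro i hi
    by_cases h8 : i = 8
    · subst h8
      right; right; right; right; left
      decide
    · left
      refine ⟨2, by norm_num, by decide, fun h => h8 h.symm, ?_⟩
      simp only [List.mem_cons, List.not_mem_nil, or_false] at hi
      rcases hi with rfl | rfl | rfl | rfl | rfl <;> first | exact absurd rfl h8 | decide
  have k6 : ∀ {i : ℕ}, i ∈ [3, 5, 8, 10, 12] → Killer (fun j => j ∈ [3, 5, 8, 10, 12]) i := by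
    intro i hi
    by_cases h8 : i = 8
    · subst h8
      right; left
      exact ⟨1, by norm_num, by decide, by decide, by decide⟩
    · left
      refine ⟨2, by norm_num, by decide, fun h => h8 h.symm, ?_⟩
      simp only [List.mem_cons, List.not_mem_nil, or_false] at hi
      rcases hi with rfl | rfl | rfl | rfl | rfl <;> first | exact absurd rfl h8 | decide
  unfold smallI at hi ⊢
  split at hi
  · exact ⟨by decide, by decide, k5 hi⟩
  · exact ⟨by decide, by decide, k5 hi⟩
  · exact ⟨by decide, by decide, k6 hi⟩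
  · exact ⟨by decide, by decide, k6 hi⟩
  · exact ⟨by decide, by decide, k6 hi⟩
  · exact absurd hi List.not_mem_nil

theorem killer_small' {t : Fam} {i : ℕ} (hi : i ∈ smallI' t) :
    coqB t (smallI' t) = true ∧ 5 ≤ (smallI' t).toFinset.card ∧ Killer (fun j => j ∈ smallI' t) i := by
  have k6 : ∀ {i : ℕ}, i ∈ [6, 5, 8, 10, 12] → Killer (fun j => j ∈ [6, 5, 8, 10, 12]) i := by
    intro i hi
    by_cases h8 : i = 8
    · subst h8
      right; left
      exact ⟨1, by norm_num, by decide, by decide, by decide⟩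
    · left
      refine ⟨2, by norm_num, by decide, fun h => h8 h.symm, ?_⟩
      simp only [List.mem_cons, List.not_mem_nil, or_false] at hi
      rcases hi with rfl | rfl | rfl | rfl | rfl <;> first | exact absurd rfl h8 | decide
  unfold smallI' at hi ⊢
  split at hi
  · exact ⟨by decide, by decide, k6 hi⟩
  · exact ⟨by decide, by decide, k6 hi⟩
  · exact ⟨by decide, by decide, k6 hi⟩
  · exact absurd hi List.not_mem_nil

/-- **Ranks 5 and 6, five classes.** -/
theorem LS.good_small (h : LS t p f L G) (hR : Red G K S) (hF : Frm G K S t' v f') (hq : 3 ≤ p ^ f) {i : ℕ}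
    (hi : i ∈ smallI t) {r : ℕ} (hr : r.Prime) (hri : cls t (p ^ f) r = i) :
    ¬ r ∣ Nat.card K * S.index ∧ r ∣ Nat.card S := by
  obtain ⟨h1, h2, h3⟩ := killer_small hi
  exact h.good_five hR hF h1 h2 (Or.inl hq) hi h3 hr hri

/-- **Rank 6, five classes.** -/
theorem LS.good_small' (h : LS t p f L G) (hR : Red G K S) (hF : Frm G K S t' v f') (hq : 3 ≤ p ^ f) {i : ℕ}
    (hi : i ∈ smallI' t) {r : ℕ} (hr : r.Prime) (hri : cls t (p ^ f) r = i) :
    ¬ r ∣ Nat.card K * S.index ∧ r ∣ Nat.card S := by
  obtain ⟨h1, h2, h3⟩ := killer_small' hi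
  exact h.good_five hR hF h1 h2 (Or.inl hq) hi h3 hr hri

/-- the coclique of four classes -/
def fourI : Fam → List ℕ
  | .psl 7 => [4, 5, 6, 7]
  | .psu 7 => [4, 5, 6, 7]
  | .psl 8 => [5, 6, 7, 8]
  | .psu 8 => [5, 6, 7, 8]
  | .oplus 5 => [3, 5, 6, 8]
  | .oplus 6 => [3, 5, 8, 10]
  | .ominus 5 => [3, 6, 8, 10]
  | _ => []

/-- the isolated classes with four classes -/
def fourJ : Fam → List ℕ
  | .psl 7 => [6, 7]
  | .psu 7 => [6, 7]
  | .psl 8 => [7, 8]
  | .psu 8 => [7, 8]
  | .oplus 5 => [5, 8]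
  | .oplus 6 => [5, 10]
  | .ominus 5 => [8, 10]
  | _ => []

/-- the test for the isolated classes -/
def isoB (t : Fam) (I : List ℕ) (i : ℕ) : Bool :=
  napB t i && I.any (fun k => (!decide (k = i)) && napB t k) &&
      I.all fun j => decide (j = i) || I.any fun k => (!decide (k = i)) && (!decide (k = j)) && !napB t k

theorem killer_four {t : Fam} {i : ℕ} (hi : i ∈ fourJ t) :
    coqB t (fourI t) = true ∧ 4 ≤ (fourI t).toFinset.card ∧ i ∈ fourI t ∧ isoB t (fourI t) i = true ∧
      Killer (fun j => j ∈ fourI t) i := by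
  unfold fourJ at hi
  unfold fourI
  have k7 : ∀ {i : ℕ}, i ∈ [6, 7] → Killer (fun j => j ∈ [4, 5, 6, 7]) i := by
    intro i hi
    left
    refine ⟨1, le_rfl, by decide, ?_⟩
    simp only [List.mem_cons, List.not_mem_nil, or_false] at hi
    rcases hi with rfl | rfl <;> decide
  have k8 : ∀ {i : ℕ}, i ∈ [7, 8] → Killer (fun j => j ∈ [5, 6, 7, 8]) i := by
    intro i hi
    simp only [List.mem_cons, List.not_mem_nil, or_false] at hi
    rcases hi with rfl | rfl
    · left
      exact ⟨2, by norm_num, by decide, by decide, by decide⟩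
    · right; right; right; right; right; right; right; left
      decide
  have e7 : ∀ {i : ℕ}, i ∈ [6, 7] → i ∈ [4, 5, 6, 7] := by decide
  have e8 : ∀ {i : ℕ}, i ∈ [7, 8] → i ∈ [5, 6, 7, 8] := by decide
  split at hi
  · refine ⟨by decide, by decide, e7 hi, ?_, k7 hi⟩
    revert hi i; decide
  · refine ⟨by decide, by decide, e7 hi, ?_, k7 hi⟩
    revert hi i; decide
  · refine ⟨by decide, by decide, e8 hi, ?_, k8 hi⟩
    revert hi i; decide
  · refine ⟨by decide, by decide, e8 hi, ?_, k8 hi⟩
    revert hi i; decide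
  · refine ⟨by decide, by decide, ?_, ?_, ?_⟩
    · revert hi i; decide
    · revert hi i; decide
    · right; right; right; right; left
      simp only [List.mem_cons, List.not_mem_nil, or_false] at hi
      rcases hi with rfl | rfl <;> decide
  · refine ⟨by decide, by decide, ?_, ?_, ?_⟩
    · revert hi i; decide
    · revert hi i; decide
    · left
      refine ⟨2, by norm_num, by decide, ?_⟩
      simp only [List.mem_cons, List.not_mem_nil, or_false] at hi
      rcases hi with rfl | rfl <;> decide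
  · refine ⟨by decide, by decide, ?_, ?_, ?_⟩
    · revert hi i; decide
    · revert hi i; decide
    · right; right; right; right; left
      simp only [List.mem_cons, List.not_mem_nil, or_false] at hi
      rcases hi with rfl | rfl <;> decide
  · exact absurd hi List.not_mem_nil

/-- **The isolated classes, four classes.** -/
theorem LS.good_fourJ (h : LS t p f L G) (hR : Red G K S) (hF : Frm G K S t' v f') (hp2 : p ≠ 2) {i : ℕ}
    (hi : i ∈ fourJ t) {r : ℕ} (hr : r.Prime) (hri : cls t (p ^ f) r = i) :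
    ¬ r ∣ Nat.card K * S.index ∧ r ∣ Nat.card S := by
  obtain ⟨h1, h2, h3, h4, h5⟩ := killer_four hi
  exact h.good_four hR hF hp2 h1 h2 h3 h5 h4 hr hri

/-- the ranks for which the isolated classes are good -/
def IsoRk : Fam → Prop
  | .psl n => 7 ≤ n
  | .psu n => 7 ≤ n
  | .psp n => 5 ≤ n
  | .oodd n => 5 ≤ n
  | .oplus n => 5 ≤ n
  | .ominus n => 5 ≤ n
  | _ => False

/-- an isolated class is big (`Five`) -/
theorem big_of_nap {t : Fam} (h5 : Five t) {i : ℕ} (h3 : 3 ≤ i) (hm : mem t i) (hi : nap t i) : Big t i := by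
  refine ⟨h3, hm, ?_⟩
  cases t with
  | psl n =>
    change n < 2 * i
    change n < i + 2 at hi
    change 9 ≤ n at h5
    omega
  | psu n =>
    change n < 2 * i
    change n < i + 2 at hi
    change 9 ≤ n at h5
    omega
  | psp n =>
    change n < 2 * eta i
    change n < eta i + 1 at hi
    change 7 ≤ n at h5
    omega
  | oodd n =>
    change n < 2 * eta i
    change n < eta i + 1 at hi
    change 7 ≤ n at h5
    omega
  | oplus n =>
    change n < 2 * eta i
    change n < eta i + 2 at hi
    change 7 ≤ n at h5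
    omega
  | ominus n =>
    change n < 2 * eta i
    change n < eta i + 2 at hi
    change 7 ≤ n at h5
    omega
  | _ => exact h5.elim

/-- **The isolated classes are good**, `p` odd. -/
theorem LS.good_iso (h : LS t p f L G) (hR : Red G K S) (hF : Frm G K S t' v f') (hp2 : p ≠ 2) (ht : IsoRk t)
    {r : ℕ} (hr : r.Prime) (h3 : 3 ≤ cls t (p ^ f) r) (hm : mem t (cls t (p ^ f) r)) (hi : nap t (cls t (p ^ f) r)) :
    ¬ r ∣ Nat.card K * S.index ∧ r ∣ Nat.card S := by
  have hq3 : 3 ≤ p ^ f := by
    have := h.prime.two_le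
    exact (show 3 ≤ p by omega).trans (Nat.le_self_pow (by have := h.fpos; omega) p)
  by_cases h5 : Five t
  · refine h.good_big hR hF h5 ?_ (big_of_nap h5 h3 hm hi) hr rfl
    cases t with
    | psl n => exact fun hq2 => by omega
    | psu n => exact fun hq2 => by omega
    | _ => trivial
  · obtain ⟨i, hri⟩ : ∃ i, cls t (p ^ f) r = i := ⟨_, rfl⟩
    rw [hri] at h3 hm hi
    have h2 : i ≤ 2 * eta i := by
      rcases eta_cases i with ⟨h1, h2⟩ | ⟨h1, h2⟩ <;> omega
    cases t with
    | psl n =>
      change 7 ≤ n at ht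
      change ¬ 9 ≤ n at h5
      change n < i + 2 at hi
      change i ≤ n at hm
      have hn : n = 7 ∨ n = 8 := by omega
      rcases hn with rfl | rfl
      · refine h.good_fourJ hR hF hp2 (i := i) ?_ hr hri
        have : i = 6 ∨ i = 7 := by omega
        rcases this with rfl | rfl <;> decide
      · refine h.good_fourJ hR hF hp2 (i := i) ?_ hr hri
        have : i = 7 ∨ i = 8 := by omega
        rcases this with rfl | rfl <;> decide
    | psu n =>
      change 7 ≤ n at ht
      change ¬ 9 ≤ n at h5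
      change n < i + 2 at hi
      change i ≤ n at hm
      have hn : n = 7 ∨ n = 8 := by omega
      rcases hn with rfl | rfl
      · refine h.good_fourJ hR hF hp2 (i := i) ?_ hr hri
        have : i = 6 ∨ i = 7 := by omega
        rcases this with rfl | rfl <;> decide
      · refine h.good_fourJ hR hF hp2 (i := i) ?_ hr hri
        have : i = 7 ∨ i = 8 := by omega
        rcases this with rfl | rfl <;> decide
    | psp n =>
      change 5 ≤ n at ht
      change ¬ 7 ≤ n at h5
      change n < eta i + 1 at hi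
      change eta i ≤ n at hm
      have hn : n = 5 ∨ n = 6 := by omega
      rcases hn with rfl | rfl
      · refine h.good_small hR hF hq3 (i := i) ?_ hr hri
        have : i = 5 ∨ i = 10 := by
          rcases eta_cases i with ⟨h1, h2⟩ | ⟨h1, h2⟩ <;> omega
        rcases this with rfl | rfl <;> decide
      · refine h.good_small hR hF hq3 (i := i) ?_ hr hri
        have : i = 12 := by
          rcases eta_cases i with ⟨⟨k, hk⟩, h2⟩ | ⟨⟨k, hk⟩, h2⟩ <;> omega
        subst this
        decide
    | oodd n =>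
      change 5 ≤ n at ht
      change ¬ 7 ≤ n at h5
      change n < eta i + 1 at hi
      change eta i ≤ n at hm
      have hn : n = 5 ∨ n = 6 := by omega
      rcases hn with rfl | rfl
      · refine h.good_small hR hF hq3 (i := i) ?_ hr hri
        have : i = 5 ∨ i = 10 := by
          rcases eta_cases i with ⟨h1, h2⟩ | ⟨h1, h2⟩ <;> omega
        rcases this with rfl | rfl <;> decide
      · refine h.good_small hR hF hq3 (i := i) ?_ hr hri
        have : i = 12 := by
          rcases eta_cases i with ⟨⟨k, hk⟩, h2⟩ | ⟨⟨k, hk⟩, h2⟩ <;> omega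
        subst this
        decide
    | oplus n =>
      change 5 ≤ n at ht
      change ¬ 7 ≤ n at h5
      change n < eta i + 2 at hi
      change eta i + 1 ≤ n ∨ (i = n ∧ n % 2 = 1) at hm
      have hn : n = 5 ∨ n = 6 := by omega
      rcases hn with rfl | rfl
      · refine h.good_fourJ hR hF hp2 (i := i) ?_ hr hri
        have : i = 5 ∨ i = 8 := by
          rcases eta_cases i with ⟨⟨k, hk⟩, h2⟩ | ⟨⟨k, hk⟩, h2⟩ <;> omega
        rcases this with rfl | rfl <;> decide
      · refine h.good_fourJ hR hF hp2 (i := i) ?_ hr hri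
        have : i = 5 ∨ i = 10 := by
          rcases eta_cases i with ⟨⟨k, hk⟩, h2⟩ | ⟨⟨k, hk⟩, h2⟩ <;> omega
        rcases this with rfl | rfl <;> decide
    | ominus n =>
      change 5 ≤ n at ht
      change ¬ 7 ≤ n at h5
      change n < eta i + 2 at hi
      change eta i + 1 ≤ n ∨ i = 2 * n at hm
      have hn : n = 5 ∨ n = 6 := by omega
      rcases hn with rfl | rfl
      · refine h.good_fourJ hR hF hp2 (i := i) ?_ hr hri
        have : i = 8 ∨ i = 10 := by
          rcases eta_cases i with ⟨⟨k, hk⟩, h2⟩ | ⟨⟨k, hk⟩, h2⟩ <;> omega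
        rcases this with rfl | rfl <;> decide
      · refine h.good_small hR hF hq3 (i := i) ?_ hr hri
        have : i = 5 ∨ i = 10 ∨ i = 12 := by
          rcases eta_cases i with ⟨⟨k, hk⟩, h2⟩ | ⟨⟨k, hk⟩, h2⟩ <;> omega
        rcases this with rfl | rfl | rfl <;> decide
    | _ => exact ht.elim

/-- `p = 2` : the isolated classes are good -/
theorem LS.good_iso_two (h : LS t p f L G) (hR : Red G K S) (hA : ¬ Cfsg.Agent.H414.Rad.AltL2 ↥S) (hp2 : p = 2)
    {r : ℕ} (hr : r.Prime) (h3 : 3 ≤ cls t (p ^ f) r) (hm : mem t (cls t (p ^ f) r)) (hi : nap t (cls t (p ^ f) r)) :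
    ¬ r ∣ Nat.card K * S.index ∧ r ∣ Nat.card S := by
  have hrI : In t (p ^ f) (cls t (p ^ f) r) r := ⟨hr, rfl, h3, hm⟩
  have h1 := (hR.two.resolve_left hA) r hr hrI.ne_two (hrI.dvd h) (by
    intro hg
    apply (h.adjp_iff hrI).1 _ hi
    rw [hp2, mul_comm]
    exact hg)
  refine ⟨fun hd => ?_, h1.1⟩
  rcases hr.dvd_mul.1 hd with h4 | h4
  · exact h1.2.1 h4
  · exact h1.2.2 h4

end Cfsg.Agent.R2.Spec.F1
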