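import Cfsg.Agent.R2.Spec.F1.Kill
import Cfsg.Agent.R2.Spec.P1.Main

/-!
# Big classes: combinatorics (helper23)

* `Big t i` : a regular class of weight more than half of the rank; `na_of_big` : two big classes are not adjacent;
* `killer_big` : the killers exist among the big classes (`Five t`);
* `naB` : decidable version of `na`.
-/

set_option autoImplicit false
set_option linter.unusedSectionVars false
set_option linter.unusedVariables false

namespace Cfsg.Agent.R2.Spec.F1

open Cfsg.Agent.H426.LieFam Cfsg.Agent.R2.Spec Cfsg.Agent.R2.Spec.P1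

/-- big classes -/
def Big (t : Fam) (i : ℕ) : Prop := 3 ≤ i ∧ mem t i ∧ rk t < 2 * wt t i

theorem eta_odd {i : ℕ} (h : i % 2 = 1) : eta i = i := by
  rcases eta_cases i with ⟨h1, h2⟩ | ⟨h1, h2⟩
  · exact h2
  · rw [Nat.even_iff] at h1
    omega

theorem eta_even {i : ℕ} (h : i % 2 = 0) : 2 * eta i = i := by
  rcases eta_cases i with ⟨h1, h2⟩ | ⟨h1, h2⟩
  · rw [Nat.odd_iff] at h1
    omega
  · exact h2

theorem eta_two_mul' (m : ℕ) : eta (2 * m) = m := by
  have := eta_even (i := 2 * m) (by omega)
  omega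

theorem eta_mul_odd {i k : ℕ} (hk : k % 2 = 1) : eta (i * k) = eta i * k := by
  rcases Nat.even_or_odd' i with ⟨j, rfl | rfl⟩
  · rw [mul_assoc, eta_two_mul', eta_two_mul']
  · rw [eta_odd (i := 2 * j + 1) (by omega), eta_odd]
    rw [Nat.mul_mod]
    simp [hk]

theorem not_oddMul {i j n : ℕ} (hi : n < 2 * eta i) (hj : eta j ≤ n) (hij : i ≠ j) : ¬ OddMul i j := by
  rintro ⟨k, hk, rfl⟩
  rw [eta_mul_odd hk] at hj
  have hk1 : k ≠ 1 := by
    rintro rfl
    exact hij (mul_one i).symm
  have : 2 ≤ k := by omega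
  have := Nat.mul_le_mul_left (eta i) this
  omega

theorem not_dvd_big {i j n : ℕ} (hi : n < 2 * i) (hj : j ≤ n) (hj3 : 3 ≤ j) (hij : i ≠ j) : ¬ i ∣ j := by
  rintro ⟨k, rfl⟩
  have hk1 : k ≠ 1 := by
    rintro rfl
    exact hij (mul_one i).symm
  have hk0 : k ≠ 0 := by
    rintro rfl
    omega
  have : 2 ≤ k := by omega
  have := Nat.mul_le_mul_left i this
  omega

theorem na_of_big {t : Fam} (ht : Classical t) {i j : ℕ} (hi : Big t i) (hj : Big t j) (hij : i ≠ j) : na t i j := by
  obtain ⟨hi3, him, hib⟩ := hi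
  obtain ⟨hj3, hjm, hjb⟩ := hj
  cases t with
  | psl n =>
    change n < 2 * i at hib
    change n < 2 * j at hjb
    change i ≤ n at him
    change j ≤ n at hjm
    exact ⟨by omega, not_dvd_big hib hjm hj3 hij, not_dvd_big hjb him hi3 hij.symm⟩
  | psu n =>
    change n < 2 * i at hib
    change n < 2 * j at hjb
    change i ≤ n at him
    change j ≤ n at hjm
    exact ⟨by omega, not_dvd_big hib hjm hj3 hij, not_dvd_big hjb him hi3 hij.symm⟩
  | psp n =>
    change n < 2 * eta i at hib
    change n < 2 * eta j at hjb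
    change eta i ≤ n at him
    change eta j ≤ n at hjm
    exact ⟨by omega, not_oddMul hib hjm hij, not_oddMul hjb him hij.symm⟩
  | oodd n =>
    change n < 2 * eta i at hib
    change n < 2 * eta j at hjb
    change eta i ≤ n at him
    change eta j ≤ n at hjm
    exact ⟨by omega, not_oddMul hib hjm hij, not_oddMul hjb him hij.symm⟩
  | oplus n =>
    change n < 2 * eta i at hib
    change n < 2 * eta j at hjb
    have him' : eta i ≤ n := by
      rcases him with h | ⟨h, h1⟩
      · omega
      · rw [h, eta_odd h1]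
    have hjm' : eta j ≤ n := by
      rcases hjm with h | ⟨h, h1⟩
      · omega
      · rw [h, eta_odd h1]
    refine ⟨Or.inl (by omega), not_oddMul hib hjm' hij, not_oddMul hjb him' hij.symm, ?_, ?_⟩
    · rintro ⟨h1, h2, h3⟩
      rw [eta_odd h3] at hjb
      omega
    · rintro ⟨h1, h2, h3⟩
      rw [eta_odd h3] at hib
      omega
  | ominus n =>
    change n < 2 * eta i at hib
    change n < 2 * eta j at hjb
    have him' : eta i ≤ n := by
      rcases him with h | h
      · omega
      · rw [h, eta_two_mul']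
    have hjm' : eta j ≤ n := by
      rcases hjm with h | h
      · omega
      · rw [h, eta_two_mul']
    exact ⟨Or.inl (by omega), not_oddMul hib hjm' hij, not_oddMul hjb him' hij.symm⟩
  | _ => exact ht.elim

/-- the rank is large enough for five big classes -/
def Five : Fam → Prop
  | .psl n => 9 ≤ n
  | .psu n => 9 ≤ n
  | .psp n => 7 ≤ n
  | .oodd n => 7 ≤ n
  | .oplus n => 7 ≤ n
  | .ominus n => 7 ≤ n
  | _ => False

theorem exists_pow_two {n : ℕ} (hn : 4 ≤ n) : ∃ k, 2 ≤ k ∧ 2 ^ k ≤ n ∧ n < 2 ^ (k + 1) := by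
  refine ⟨Nat.log 2 n, ?_, Nat.pow_log_le_self 2 (by omega), Nat.lt_pow_succ_log_self (by norm_num) n⟩
  have := Nat.log_mono_right (b := 2) hn
  have h4 : Nat.log 2 4 = 2 := by
    rw [show (4 : ℕ) = 2 ^ 2 by norm_num, Nat.log_pow (by norm_num)]
  omega

theorem exists_three_pow {n : ℕ} (hn : 6 ≤ n) : ∃ k, 1 ≤ k ∧ 3 * 2 ^ k ≤ n ∧ n < 3 * 2 ^ (k + 1) := by
  have h1 : 2 ≤ n / 3 := by omega
  refine ⟨Nat.log 2 (n / 3), ?_, ?_, ?_⟩
  · have := Nat.log_mono_right (b := 2) h1
    have h4 : Nat.log 2 2 = 1 := by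
      have := Nat.log_pow (b := 2) (by norm_num) 1
      rwa [pow_one] at this
    omega
  · have := Nat.pow_log_le_self 2 (x := n / 3) (by omega)
    omega
  · have := Nat.lt_pow_succ_log_self (b := 2) (by norm_num) (n / 3)
    have h5 : n / 3 + 1 ≤ 2 ^ (Nat.log 2 (n / 3) + 1) := this
    omega

theorem three_pow_ne (m k : ℕ) : 3 * 2 ^ m ≠ 2 ^ k := by
  intro h
  have h1 : 3 ∣ 2 ^ k := Dvd.intro _ h
  have := Nat.prime_three.dvd_of_dvd_pow h1
  omega

theorem five_pow_ne (m k : ℕ) : 5 * 2 ^ m ≠ 2 ^ k := by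
  intro h
  have h1 : 5 ∣ 2 ^ k := Dvd.intro _ h
  have := Nat.prime_five.dvd_of_dvd_pow h1
  omega

theorem not_dvd_of_lt' {i m : ℕ} (hm : 0 < m) (h : m < i) : ¬ i ∣ m := fun hd => by
  have := Nat.le_of_dvd hm hd
  omega

/-- a big class (weights `eta`) does not divide `2 ^ k ≤ n` -/
theorem not_dvd_two_pow {i n k : ℕ} (h3 : 3 ≤ i) (hb : n < 2 * eta i) (hk : 2 ^ k ≤ n) : ¬ i ∣ 2 ^ k := by
  intro hd
  obtain ⟨j, hj, rfl⟩ := (Nat.dvd_prime_pow Nat.prime_two).1 hd
  have hj2 : 1 ≤ j := by
    by_contra hcon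
    have : j = 0 := by omega
    rw [this] at h3
    omega
  obtain ⟨m, rfl⟩ : ∃ m, j = m + 1 := ⟨j - 1, by omega⟩
  rw [pow_succ', eta_two_mul'] at hb
  have h5 : 2 ^ (m + 1) ≤ 2 ^ k := Nat.pow_le_pow_right (by norm_num) hj
  rw [pow_succ] at h5
  omega

theorem two_pow_succ' (k : ℕ) : 2 ^ (k + 1) = 2 * 2 ^ k := pow_succ' 2 k

/-- the linear and unitary families -/
theorem killer_lin {n i : ℕ} (hn : 9 ≤ n) (h3 : 3 ≤ i) (him : i ≤ n) (hib : n < 2 * i) :
    Killer (fun j => 3 ≤ j ∧ j ≤ n ∧ n < 2 * j) i := by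
  obtain ⟨k, hk2, hk, hk'⟩ := exists_pow_two (show 4 ≤ n by omega)
  obtain ⟨k, rfl⟩ : ∃ m, k = m + 1 := ⟨k - 1, by omega⟩
  rw [two_pow_succ' (k + 1)] at hk'
  have hk4 := Nat.pow_le_pow_right (show 0 < 2 by norm_num) hk2
  by_cases hki : 2 ^ (k + 1) = i
  · by_cases h12 : 12 ≤ n
    · obtain ⟨m, hm1, hm, hm'⟩ := exists_three_pow (show 6 ≤ n by omega)
      obtain ⟨m, rfl⟩ : ∃ l, m = l + 1 := ⟨m - 1, by omega⟩
      have hm1 : 1 ≤ m := by
        by_contra hcon
        have : m = 0 := by omega
        subst this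
        norm_num at hm'
        omega
      right; left
      rw [two_pow_succ' (m + 1)] at hm'
      refine ⟨m, hm1, ⟨?_, hm, by omega⟩, by rw [← hki]; exact three_pow_ne _ _, ?_⟩
      · have := Nat.one_le_two_pow (n := m + 1)
        omega
      · apply not_dvd_of_lt' (Nat.two_pow_pos m)
        rw [two_pow_succ' m] at hm
        have := Nat.two_pow_pos m
        omega
    · have h8 : k = 2 := by
        have h5 : 2 ^ (k + 1) < 2 ^ 4 := by omega
        have h6 := (Nat.pow_lt_pow_iff_right (by norm_num : 1 < 2)).1 h5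
        have h7 : 2 ^ 3 ≤ 2 ^ (k + 1) := by
          by_contra h8
          have : 2 ^ (k + 1) < 2 ^ 3 := by omega
          have := (Nat.pow_lt_pow_iff_right (by norm_num : 1 < 2)).1 this
          have h9 : k ≤ 1 := by omega
          have : 2 ^ (k + 1) ≤ 2 ^ 2 := Nat.pow_le_pow_right (by norm_num) (by omega)
          omega
        have h9 := (Nat.pow_le_pow_iff_right (by norm_num : 1 < 2)).1 h7
        omega
      subst h8
      norm_num at hki
      subst hki
      by_cases h9 : n = 9
      · subst h9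
        right; right; right; right; right; right; right; left
        refine ⟨rfl, ?_, ?_⟩ <;> norm_num
      · right; right; right; right; right; right; right; right
        refine ⟨rfl, ⟨by norm_num, by omega, by omega⟩, ⟨by norm_num, by omega, by omega⟩⟩
  · left
    refine ⟨k, by omega, ⟨by omega, hk, by omega⟩, hki, not_dvd_of_lt' (Nat.two_pow_pos k) ?_⟩
    rw [two_pow_succ' k] at hk
    omega

theorem killer_big {t : Fam} (h5 : Five t) {i : ℕ} (hi : Big t i) : Killer (Big t) i := by
  obtain ⟨h3, hm, hb⟩ := hi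
  cases t with
  | psl n => exact killer_lin h5 h3 hm hb
  | psu n => exact killer_lin h5 h3 hm hb
  | psp n =>
    change 7 ≤ n at h5
    change n < 2 * eta i at hb
    obtain ⟨k, hk2, hk, hk'⟩ := exists_pow_two (show 4 ≤ n by omega)
    have hpos := Nat.two_pow_pos k
    by_cases hki : 2 ^ (k + 1) = i
    · obtain ⟨m, hm1, hm, hm'⟩ := exists_three_pow (show 6 ≤ n by omega)
      have hmpos := Nat.two_pow_pos m
      right; left
      refine ⟨m, hm1, ?_, by rw [← hki]; exact three_pow_ne _ _, not_dvd_of_lt' hmpos (by omega)⟩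
      have h6 : eta (3 * 2 ^ (m + 1)) = 3 * 2 ^ m := by
        rw [two_pow_succ', show 3 * (2 * 2 ^ m) = 2 * (3 * 2 ^ m) by ring, eta_two_mul']
      refine ⟨by rw [two_pow_succ' m]; omega, ?_, ?_⟩
      · change eta (3 * 2 ^ (m + 1)) ≤ n
        rw [h6]; exact hm
      · change n < 2 * eta (3 * 2 ^ (m + 1))
        rw [h6]
        rw [two_pow_succ' m] at hm'
        omega
    · left
      have h6 : eta (2 ^ (k + 1)) = 2 ^ k := by rw [two_pow_succ', eta_two_mul']
      refine ⟨k, by omega, ⟨?_, ?_, ?_⟩, hki, not_dvd_two_pow h3 hb hk⟩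
      · have := Nat.pow_le_pow_right (show 0 < 2 by norm_num) hk2
        rw [two_pow_succ' k]
        omega
      · change eta (2 ^ (k + 1)) ≤ n
        rw [h6]; exact hk
      · change n < 2 * eta (2 ^ (k + 1))
        rw [h6]
        rw [two_pow_succ' k] at hk'
        exact hk'
  | oodd n =>
    change 7 ≤ n at h5
    change n < 2 * eta i at hb
    obtain ⟨k, hk2, hk, hk'⟩ := exists_pow_two (show 4 ≤ n by omega)
    have hpos := Nat.two_pow_pos k
    by_cases hki : 2 ^ (k + 1) = i
    · obtain ⟨m, hm1, hm, hm'⟩ := exists_three_pow (show 6 ≤ n by omega)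
      have hmpos := Nat.two_pow_pos m
      right; left
      refine ⟨m, hm1, ?_, by rw [← hki]; exact three_pow_ne _ _, not_dvd_of_lt' hmpos (by omega)⟩
      have h6 : eta (3 * 2 ^ (m + 1)) = 3 * 2 ^ m := by
        rw [two_pow_succ', show 3 * (2 * 2 ^ m) = 2 * (3 * 2 ^ m) by ring, eta_two_mul']
      refine ⟨by rw [two_pow_succ' m]; omega, ?_, ?_⟩
      · change eta (3 * 2 ^ (m + 1)) ≤ n
        rw [h6]; exact hm
      · change n < 2 * eta (3 * 2 ^ (m + 1))
        rw [h6]
        rw [two_pow_succ' m] at hm'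
        omega
    · left
      have h6 : eta (2 ^ (k + 1)) = 2 ^ k := by rw [two_pow_succ', eta_two_mul']
      refine ⟨k, by omega, ⟨?_, ?_, ?_⟩, hki, not_dvd_two_pow h3 hb hk⟩
      · have := Nat.pow_le_pow_right (show 0 < 2 by norm_num) hk2
        rw [two_pow_succ' k]
        omega
      · change eta (2 ^ (k + 1)) ≤ n
        rw [h6]; exact hk
      · change n < 2 * eta (2 ^ (k + 1))
        rw [h6]
        rw [two_pow_succ' k] at hk'
        exact hk'
  | ominus n =>
    change 7 ≤ n at h5
    change n < 2 * eta i at hb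
    obtain ⟨k, hk2, hk, hk'⟩ := exists_pow_two (show 4 ≤ n by omega)
    have hpos := Nat.two_pow_pos k
    by_cases hki : 2 ^ (k + 1) = i
    · obtain ⟨m, hm1, hm, hm'⟩ := exists_three_pow (show 6 ≤ n by omega)
      have hmpos := Nat.two_pow_pos m
      right; left
      refine ⟨m, hm1, ?_, by rw [← hki]; exact three_pow_ne _ _, not_dvd_of_lt' hmpos (by omega)⟩
      have h6 : eta (3 * 2 ^ (m + 1)) = 3 * 2 ^ m := by
        rw [two_pow_succ', show 3 * (2 * 2 ^ m) = 2 * (3 * 2 ^ m) by ring, eta_two_mul']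
      refine ⟨by rw [two_pow_succ' m]; omega, ?_, ?_⟩
      · change eta (3 * 2 ^ (m + 1)) + 1 ≤ n ∨ 3 * 2 ^ (m + 1) = 2 * n
        rw [h6, two_pow_succ' m]
        omega
      · change n < 2 * eta (3 * 2 ^ (m + 1))
        rw [h6]
        rw [two_pow_succ' m] at hm'
        omega
    · left
      have h6 : eta (2 ^ (k + 1)) = 2 ^ k := by rw [two_pow_succ', eta_two_mul']
      refine ⟨k, by omega, ⟨?_, ?_, ?_⟩, hki, not_dvd_two_pow h3 hb hk⟩
      · have := Nat.pow_le_pow_right (show 0 < 2 by norm_num) hk2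
        rw [two_pow_succ' k]
        omega
      · change eta (2 ^ (k + 1)) + 1 ≤ n ∨ 2 ^ (k + 1) = 2 * n
        rw [h6, two_pow_succ' k]
        omega
      · change n < 2 * eta (2 ^ (k + 1))
        rw [h6]
        rw [two_pow_succ' k] at hk'
        exact hk'
  | oplus n =>
    change 7 ≤ n at h5
    change n < 2 * eta i at hb
    obtain ⟨k, hk2, hk, hk'⟩ := exists_pow_two (show 4 ≤ n by omega)
    have hpos := Nat.two_pow_pos k
    have h6 : ∀ m, eta (3 * 2 ^ (m + 1)) = 3 * 2 ^ m := fun m => by
      rw [two_pow_succ', show 3 * (2 * 2 ^ m) = 2 * (3 * 2 ^ m) by ring, eta_two_mul']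
    have h7 : ∀ m, eta (5 * 2 ^ (m + 1)) = 5 * 2 ^ m := fun m => by
      rw [two_pow_succ', show 5 * (2 * 2 ^ m) = 2 * (5 * 2 ^ m) by ring, eta_two_mul']
    have h8 : ∀ m, eta (2 ^ (m + 1)) = 2 ^ m := fun m => by rw [two_pow_succ', eta_two_mul']
    have hB3 : ∀ m, 3 * 2 ^ m + 1 ≤ n → n < 2 * (3 * 2 ^ m) → Big (.oplus n) (3 * 2 ^ (m + 1)) := fun m h1 h2 =>
      ⟨by have := Nat.two_pow_pos (m + 1); omega, Or.inl (by rw [h6]; exact h1), by
        change n < 2 * eta _
        rw [h6]; exact h2⟩
    have hB5 : ∀ m, 5 * 2 ^ m + 1 ≤ n → n < 2 * (5 * 2 ^ m) → Big (.oplus n) (5 * 2 ^ (m + 1)) := fun m h1 h2 =>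
      ⟨by have := Nat.two_pow_pos (m + 1); omega, Or.inl (by rw [h7]; exact h1), by
        change n < 2 * eta _
        rw [h7]; exact h2⟩
    have hBo : ∀ j, j % 2 = 1 → 3 ≤ j → j + 1 ≤ n → n < 2 * j → Big (.oplus n) j := fun j hj h0 h1 h2 =>
      ⟨h0, Or.inl (by rw [eta_odd hj]; exact h1), by
        change n < 2 * eta _
        rw [eta_odd hj]; exact h2⟩
    have hBe : ∀ j, 3 ≤ 2 * j → j + 1 ≤ n → n < 2 * j → Big (.oplus n) (2 * j) := fun j h0 h1 h2 =>
      ⟨h0, Or.inl (by rw [eta_two_mul']; exact h1), by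
        change n < 2 * eta _
        rw [eta_two_mul']; exact h2⟩
    by_cases hnk : n = 2 ^ k
    · -- `n` is a power of two
      have hk3 : 3 ≤ k := by
        by_contra hcon
        have : k = 2 := by omega
        rw [this] at hnk
        omega
      by_cases hk3' : k = 3
      · subst hk3'
        norm_num at hnk
        subst hnk
        by_cases hi12 : i = 12
        · right; right; right; right; right; left
          exact ⟨hi12, hBo 5 (by norm_num) (by norm_num) (by norm_num) (by norm_num),
            hBe 5 (by norm_num) (by norm_num) (by norm_num)⟩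
        · right; left
          refine ⟨1, le_rfl, hB3 1 (by norm_num) (by norm_num), by omega, not_dvd_of_lt' (by norm_num) (by omega)⟩
      · by_cases hk4' : k = 4
        · subst hk4'
          norm_num at hnk
          subst hnk
          by_cases hi24 : i = 24
          · right; right; right; left
            refine ⟨hBo 9 (by norm_num) (by norm_num) (by norm_num) (by norm_num),
              hBe 9 (by norm_num) (by norm_num) (by norm_num), by omega, by omega, ?_⟩
            rw [hi24]
            decide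
          · right; left
            refine ⟨2, by norm_num, hB3 2 (by norm_num) (by norm_num), by omega, ?_⟩
            exact not_dvd_two_pow h3 hb (by norm_num)
        · obtain ⟨m, rfl⟩ : ∃ m, k = m + 3 := ⟨k - 3, by omega⟩
          have hm2 : 2 ≤ m := by omega
          have hmp := Nat.two_pow_pos m
          have hm4 := Nat.pow_le_pow_right (show 0 < 2 by norm_num) hm2
          have e1 : 2 ^ (m + 3) = 8 * 2 ^ m := by ring
          have e2 : 2 ^ (m + 1) = 2 * 2 ^ m := by ring
          by_cases hil : i = 3 * 2 ^ (m + 2)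
          · right; right; left
            refine ⟨m, hm2, hB5 m (by omega) (by omega), ?_, ?_⟩
            · rw [hil, e2, show 2 ^ (m + 2) = 4 * 2 ^ m by ring]
              omega
            · rw [hil]
              intro hd
              have h9 : 3 ∣ 2 ^ (m + 2) := (Dvd.intro _ rfl).trans hd
              have := Nat.prime_three.dvd_of_dvd_pow h9
              omega
          · right; left
            refine ⟨m + 1, by omega, hB3 (m + 1) (by omega) (by omega), fun h => hil h.symm, ?_⟩
            exact not_dvd_two_pow h3 hb (by omega)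
    · by_cases hki : 2 ^ (k + 1) = i
      · obtain ⟨m, hm1, hm, hm'⟩ := exists_three_pow (show 6 ≤ n by omega)
        have hmpos := Nat.two_pow_pos m
        rw [two_pow_succ' m] at hm'
        by_cases hnm : n = 3 * 2 ^ m
        · have hm2 : 2 ≤ m := by
            by_contra hcon
            have : m = 1 := by omega
            rw [this] at hnm
            omega
          by_cases hm2' : m = 2
          · subst hm2'
            norm_num at hnm
            subst hnm
            right; right; right; left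
            have hi16 : i = 16 := by
              have h5 : 2 ^ k < 2 ^ 4 := by omega
              have h6 := (Nat.pow_lt_pow_iff_right (by norm_num : 1 < 2)).1 h5
              have h7 : 2 ^ 3 < 2 ^ (k + 1) := by omega
              have h9 := (Nat.pow_lt_pow_iff_right (by norm_num : 1 < 2)).1 h7
              have : k = 3 := by omega
              rw [← hki, this]
              norm_num
            refine ⟨hBo 9 (by norm_num) (by norm_num) (by norm_num) (by norm_num),
              hBe 9 (by norm_num) (by norm_num) (by norm_num), by omega, by omega, ?_⟩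
            rw [hi16]
            decide
          · obtain ⟨l, rfl⟩ : ∃ l, m = l + 1 := ⟨m - 1, by omega⟩
            have hl2 : 2 ≤ l := by omega
            have hl4 := Nat.pow_le_pow_right (show 0 < 2 by norm_num) hl2
            have e2 : 2 ^ (l + 1) = 2 * 2 ^ l := by ring
            right; right; left
            refine ⟨l, hl2, hB5 l (by omega) (by omega), by rw [← hki]; exact five_pow_ne _ _, ?_⟩
            apply not_dvd_of_lt' (Nat.two_pow_pos _)
            rw [show 2 ^ (l + 2) = 4 * 2 ^ l by ring]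
            omega
        · right; left
          refine ⟨m, hm1, hB3 m (by omega) (by omega), by rw [← hki]; exact three_pow_ne _ _,
            not_dvd_of_lt' hmpos (by omega)⟩
      · left
        refine ⟨k, by omega, ⟨?_, Or.inl ?_, ?_⟩, hki, not_dvd_two_pow h3 hb hk⟩
        · have := Nat.pow_le_pow_right (show 0 < 2 by norm_num) hk2
          rw [two_pow_succ' k]
          omega
        · rw [h8]
          omega
        · change n < 2 * eta (2 ^ (k + 1))
          rw [h8]
          rw [two_pow_succ' k] at hk'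
          exact hk'
  | _ => exact h5.elim

/-! ### decidable version of `na` -/

/-- odd multiples -/
def oddB (i j : ℕ) : Bool := j % i == 0 && (j / i) % 2 == 1

theorem oddB_of {i j : ℕ} (hi : 0 < i) (h : OddMul i j) : oddB i j = true := by
  obtain ⟨k, hk, rfl⟩ := h
  rw [oddB, Nat.mul_mod_right, Nat.mul_div_cancel_left _ hi, hk]
  rfl

/-- `na` for explicit numbers -/
def naB : Fam → ℕ → ℕ → Bool
  | .psl n, i, j => decide (n < i + j) && !(decide (i ∣ j)) && !(decide (j ∣ i))
  | .psu n, i, j => decide (n < i + j) && !(decide (i ∣ j)) && !(decide (j ∣ i))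
  | .psp n, i, j => decide (n < eta i + eta j) && !(oddB i j) && !(oddB j i)
  | .oodd n, i, j => decide (n < eta i + eta j) && !(oddB i j) && !(oddB j i)
  | .oplus n, i, j => decide (n < eta i + eta j ∨ (n = eta i + eta j ∧ (i + j) % 2 = 1)) && !(oddB i j) && !(oddB j i) &&
      !(decide (i = n ∧ 2 * j = n ∧ j % 2 = 1)) && !(decide (j = n ∧ 2 * i = n ∧ i % 2 = 1))
  | .ominus n, i, j => decide (n < eta i + eta j ∨ (n = eta i + eta j ∧ (i + j) % 2 = 0)) && !(oddB i j) && !(oddB j i)
  | _, _, _ => false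

theorem na_of_naB {t : Fam} {i j : ℕ} (hi : 0 < i) (hj : 0 < j) (h : naB t i j = true) : na t i j := by
  have ho : ∀ {i j : ℕ}, 0 < i → oddB i j = false → ¬ OddMul i j := fun hi h h' => by
    rw [oddB_of hi h'] at h
    exact Bool.noConfusion h
  cases t with
  | psl n =>
    simp only [naB, Bool.and_eq_true, decide_eq_true_eq, Bool.not_eq_true', decide_eq_false_iff_not] at h
    exact ⟨h.1.1, h.1.2, h.2⟩
  | psu n =>
    simp only [naB, Bool.and_eq_true, decide_eq_true_eq, Bool.not_eq_true', decide_eq_false_iff_not] at h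
    exact ⟨h.1.1, h.1.2, h.2⟩
  | psp n =>
    simp only [naB, Bool.and_eq_true, decide_eq_true_eq, Bool.not_eq_true'] at h
    exact ⟨h.1.1, ho hi h.1.2, ho hj h.2⟩
  | oodd n =>
    simp only [naB, Bool.and_eq_true, decide_eq_true_eq, Bool.not_eq_true'] at h
    exact ⟨h.1.1, ho hi h.1.2, ho hj h.2⟩
  | oplus n =>
    simp only [naB, Bool.and_eq_true, decide_eq_true_eq, Bool.not_eq_true', decide_eq_false_iff_not] at h
    exact ⟨h.1.1.1.1, ho hi h.1.1.1.2, ho hj h.1.1.2, h.1.2, h.2⟩
  | ominus n =>
    simp only [naB, Bool.and_eq_true, decide_eq_true_eq, Bool.not_eq_true'] at h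
    exact ⟨h.1.1, ho hi h.1.2, ho hj h.2⟩
  | _ => exact Bool.noConfusion h

end Cfsg.Agent.R2.Spec.F1
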