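import Cfsg.Agent.R2.Spec.F1.ExcMovC
import Cfsg.Agent.R2.Spec.F1.ExcOut
import Cfsg.Agent.R2.Spec.F1.NcV
import Cfsg.Agent.LieRecognition.ReeFinal
import Cfsg.Agent.H224.F4R.Asm
import Cfsg.Agent.S0204

/-!
# Primes of the radical, `S` exceptional (helper23)

* `mvc t` : classes of primes moved by Levi complements; `movA_exc` : `MovA S v x` for `x` in these classes;
* `movW_iso` : Borel subgroups of `Sz`, `Ree`;
* `ncab` : noncyclic abelian `v`-subgroups; `ExFrm.sv_adj` : the characteristic is adjacent to the other primes of the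
  radical;
* `ExFrm.kadj` : `r ∣ |K|`, `MovW S v x` : `G` has elements of order `r x`; `ExFrm.kadj_cls`, `ExFrm.kadj_adj`.
-/

set_option autoImplicit false
set_option linter.unusedSectionVars false
set_option linter.unusedVariables false

namespace Cfsg.Agent.R2.Spec.F1

open Subgroup Cfsg
open Cfsg.Agent.H426.LieFam Cfsg.Agent.R2.Spec Cfsg.Agent.R2.Spec.P1
open Cfsg.Agent.H420.QR

universe u w

/-- classes of moved primes -/
def mvc : Fam → Finset ℕ
  | .g2 => {1, 2}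
  | .f4 => {1, 2, 3, 4, 6}
  | .e6 => {1, 2, 3, 4, 5, 6, 8}
  | .e7 => {1, 2, 3, 4, 5, 6, 7, 8, 9, 12}
  | .e8 => {1, 2, 3, 4, 5, 6, 7, 8}
  | .te6 => {1, 2, 3, 4, 6, 8}
  | .td4 => {1, 2, 3}
  | .ree => {1}
  | _ => ∅

/-- the order of `v ^ f` modulo `x` -/
noncomputable def oc (v f x : ℕ) : ℕ := orderOf ((v ^ f : ℕ) : ZMod x)

section ree

open Cfsg.Agent.LieRecognition

variable {K : Type} [Field K] [Fintype K] {m : ℕ}

theorem not_three_mul {m x : ℕ} (hx : x.Prime) (hx5 : 5 ≤ x) (h1 : x ∣ 3 ^ (2 * m + 1) - 1) :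
    ¬ x ∣ 3 ^ (m + 1) + 3 := by
  intro h2
  have := Fact.mk hx
  have e1 : ((3 : ZMod x)) ^ (2 * m + 1) = 1 := by
    have h3 : ((3 ^ (2 * m + 1) - 1 : ℕ) : ZMod x) = 0 := (ZMod.natCast_eq_zero_iff _ _).2 h1
    rw [Nat.cast_sub (Nat.one_le_pow _ _ (by norm_num))] at h3
    push_cast at h3
    exact sub_eq_zero.1 h3
  have e2 : ((3 : ZMod x)) ^ (m + 1) = -3 := by
    have h3 : ((3 ^ (m + 1) + 3 : ℕ) : ZMod x) = 0 := (ZMod.natCast_eq_zero_iff _ _).2 h2
    push_cast at h3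
    exact eq_neg_of_add_eq_zero_left h3
  have e3 : ((3 : ZMod x)) ^ (2 * (m + 1)) = 9 := by
    rw [mul_comm, pow_mul, e2]
    ring
  have e4 : (3 : ZMod x) = 9 := by
    rw [← e3, show 2 * (m + 1) = (2 * m + 1) + 1 by ring, pow_succ, e1, one_mul]
  have e5 : ((6 : ℕ) : ZMod x) = 0 := by
    have : (6 : ZMod x) = 9 - 3 := by norm_num
    push_cast
    rw [this, ← e4, sub_self]
  rw [ZMod.natCast_eq_zero_iff] at e5
  have h6 : x ∣ 2 * 3 := e5
  rcases hx.dvd_mul.1 h6 with h | h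
  · have := Nat.le_of_dvd (by norm_num) h
    omega
  · have := Nat.le_of_dvd (by norm_num) h
    omega

theorem movA_ree (hK : Fintype.card K = 3 ^ (2 * m + 1)) {x : ℕ} (hx : x.Prime) (hx5 : 5 ≤ x)
    (h1 : x ∣ 3 ^ (2 * m + 1) - 1) : MovA ↥(Lie.twistedG2 K (3 ^ m)) 3 x := by
  have D := ReeFinal.data hK
  have := Fact.mk hx
  have hch := ReeAbs.charP_three (m := m) hK
  obtain ⟨a, ha⟩ : ∃ a : Kˣ, orderOf a = x := by
    refine exists_prime_orderOf_dvd_card' x ?_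
    rw [Nat.card_units, Nat.card_eq_fintype_card, hK]
    exact h1
  have hm0 : ∀ u v u' v' : K, ReeData.U m 0 u v * ReeData.U m 0 u' v' = ReeData.U m 0 (u + u') (v + v') := by
    intro u v u' v'
    rw [D.U_mul]
    congr 1
    · ring
    · rw [zero_pow (by positivity)]; ring
    · ring
  let φ : Multiplicative (K × K) →* ↥(Lie.twistedG2 K (3 ^ m)) :=
    { toFun := fun z => ReeData.U m 0 (Multiplicative.toAdd z).1 (Multiplicative.toAdd z).2
      map_one' := by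
        change ReeData.U m 0 0 0 = 1
        exact D.U_zero
      map_mul' := fun z z' => by
        rw [hm0]
        rfl }
  let ψ : Kˣ →* ↥(Lie.twistedG2 K (3 ^ m)) :=
    { toFun := ReeData.h hK
      map_one' := D.h_one
      map_mul' := D.h_mul }
  have hφ : Function.Injective φ := by
    intro z z' hz
    have h3 := D.inj₁ 0 (Multiplicative.toAdd z).1 (Multiplicative.toAdd z).2 1 0 (Multiplicative.toAdd z').1
      (Multiplicative.toAdd z').2 1 (by
        change φ z * _ = φ z' * _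
        rw [hz])
    exact Multiplicative.toAdd.injective (Prod.ext h3.2.1 h3.2.2.1)
  have hψ : Function.Injective ψ := by
    intro z z' hz
    have h3 := D.inj₁ 0 0 0 z 0 0 0 z' (by
        change _ * ψ z = _ * ψ z'
        rw [hz])
    exact h3.2.2.2
  refine movA_of_homs (V := K × K) (A := Kˣ) (p := 3) ?_ ψ φ hφ
    (fun a z => ((a : K) ^ (3 ^ (m + 1) + 3) * z.1, (a : K) ^ (2 * 3 ^ (m + 1) + 3) * z.2)) ?_ (a := a)
    (by rw [orderOf_injective _ hψ, ha]) (v := ((1 : K), (0 : K))) ?_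
  · intro z
    rw [← Nat.cast_smul_eq_nsmul K, CharP.cast_eq_zero, zero_smul]
  · intro b z
    rw [mul_inv_eq_iff_eq_mul]
    change ReeData.h hK b * ReeData.U m 0 z.1 z.2 = ReeData.U m 0 _ _ * ReeData.h hK b
    rw [D.h_U, mul_zero]
    rfl
  · intro hc
    have h3 : (a : K) ^ (3 ^ (m + 1) + 3) * 1 = 1 := congrArg Prod.fst hc
    rw [mul_one] at h3
    have h4 : a ^ (3 ^ (m + 1) + 3) = 1 := Units.ext (by rw [Units.val_pow_eq_pow_val, h3, Units.val_one])
    have h5 := orderOf_dvd_of_pow_eq_one h4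
    rw [ha] at h5
    exact not_three_mul hx hx5 h1 h5

end ree

/-- **Moved primes.** -/
theorem movA_exc {t : Fam} {v f : ℕ} {S : Type u} [Group S] (hv : v.Prime) (h : Fam.Is v f S t) {x : ℕ}
    (hx : x.Prime) (hx5 : 5 ≤ x) (hxv : x ≠ v) (he : oc v f x ∈ mvc t) : MovA S v x := by
  have hvf := Fact.mk hv
  cases t with
  | g2 =>
    obtain ⟨h3, F, _, _, _, hF, ⟨e⟩⟩ := h
    refine (MovA.congr e).2 (RM.movA_g2 F v hx hx5 hxv (by rw [hF]; exact h3) ?_)
    rw [Nat.card_eq_fintype_card, hF]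
    simpa [mvc, oc] using he
  | f4 =>
    obtain ⟨F, _, _, _, hF, ⟨e⟩⟩ := h
    refine (MovA.congr e).2 (RM.movA_f4 F v hx hx5 hxv ?_)
    rw [Nat.card_eq_fintype_card, hF]
    simpa [mvc, oc] using he
  | e6 =>
    obtain ⟨F, _, _, _, hF, ⟨e⟩⟩ := h
    refine (MovA.congr e).2 (RM.movA_e6 F v hx hx5 hxv ?_)
    rw [Nat.card_eq_fintype_card, hF]
    simpa [mvc, oc] using he
  | e7 =>
    obtain ⟨F, _, _, _, hF, ⟨e⟩⟩ := h
    refine (MovA.congr e).2 (RM.movA_e7 F v hx hx5 hxv ?_)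
    rw [Nat.card_eq_fintype_card, hF]
    simpa [mvc, oc] using he
  | e8 =>
    obtain ⟨F, _, _, _, hF, ⟨e⟩⟩ := h
    refine (MovA.congr e).2 (RM.movA_e8 F v hx hx5 hxv ?_)
    rw [Nat.card_eq_fintype_card, hF]
    simpa [mvc, oc] using he
  | te6 =>
    have hf1 := exc_fpos (t := .te6) trivial h
    obtain ⟨F, _, _, _, hF, ⟨e⟩⟩ := h
    refine (MovA.congr e).2 (RM.movA_te6 F v (hv.isPrimePow.pow (by omega)) hF hx hx5 hxv ?_)
    simpa [mvc, oc] using he
  | td4 =>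
    have hf1 := exc_fpos (t := .td4) trivial h
    obtain ⟨F, _, _, _, hF, ⟨e⟩⟩ := h
    refine (MovA.congr e).2 (RM.movA_td4 F v (hv.isPrimePow.pow (by omega)) hF hx hx5 hxv ?_)
    simpa [mvc, oc] using he
  | ree =>
    obtain ⟨rfl, m, hm, rfl, F, _, _, hF, ⟨e⟩⟩ := h
    refine (MovA.congr e).2 (movA_ree hF hx hx5 ?_)
    have h1 : oc 3 (2 * m + 1) x = 1 := by simpa [mvc] using he
    rw [oc, orderOf_eq_one_iff] at h1
    have h2 : ((3 ^ (2 * m + 1) - 1 : ℕ) : ZMod x) = 0 := by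
      rw [Nat.cast_sub (Nat.one_le_pow _ _ (by norm_num)), h1, Nat.cast_one, sub_self]
    exact (ZMod.natCast_eq_zero_iff _ _).1 h2
  | _ => simp [mvc] at he

/-- the Borel subgroup of `Sz` -/
theorem movW_sz {v f : ℕ} {S : Type u} [Group S] (h : Fam.Is v f S .sz) {x : ℕ} (hx : x.Prime) (hx5 : 5 ≤ x)
    (h1 : x ∣ v ^ f - 1) : MovW S v x := by
  have h' := h
  obtain ⟨rfl, m, hm, rfl, F, _, _, hF, ⟨e⟩⟩ := h'
  refine (MovW.congr e).2 ?_
  have H := Cfsg.Agent.LieRecognition.SzMatrix.good hF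
  have D := Cfsg.Agent.S1163.data_sz H
  have hcF : Nat.card F = 2 ^ (2 * m + 1) := by rw [Nat.card_eq_fintype_card, hF]
  have : Finite ↥(Cfsg.Lie.Sz F (2 ^ (m + 1))) := inferInstance
  have hcu : Nat.card H.unip = 2 ^ (2 * (2 * m + 1)) := by rw [H.card_unip, hcF, ← pow_mul, mul_comm]
  have hcb : Nat.card H.borel = (2 ^ (2 * m + 1)) ^ 2 * (2 ^ (2 * m + 1) - 1) := by
    rw [H.card_borel, hcF]
  have hfx := Fact.mk hx
  have hf2 := Fact.mk Nat.prime_two
  obtain ⟨b, hb⟩ := exists_prime_orderOf_dvd_card' (G := H.borel) x (by rw [hcb]; exact Dvd.dvd.mul_left h1 _)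
  have hP : IsPGroup 2 H.unip := IsPGroup.of_card hcu
  obtain ⟨z, hz⟩ := exists_prime_orderOf_dvd_card' (G := H.unip) 2 (by rw [hcu]; exact dvd_pow_self 2 (by omega))
  have hxo : orderOf (b : ↥(Cfsg.Lie.Sz F (2 ^ (m + 1)))) = x := by rw [Subgroup.orderOf_coe, hb]
  have hzo : orderOf (z : ↥(Cfsg.Lie.Sz F (2 ^ (m + 1)))) = 2 := by rw [Subgroup.orderOf_coe, hz]
  refine ⟨H.unip, b, hP, hxo, fun a ha => D.norm b b.2 a ha, ⟨z, z.2, fun hc => ?_⟩, Or.inr (Or.inl ?_)⟩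
  · refine sz_isol h hx (by omega) ?_
    obtain ⟨g, hg⟩ : ∃ g : ↥(Cfsg.Lie.Sz F (2 ^ (m + 1))), orderOf g = x * 2 := by
      refine ⟨(b : ↥(Cfsg.Lie.Sz F (2 ^ (m + 1)))) * z, ?_⟩
      rw [Commute.orderOf_mul_eq_mul_orderOf_of_coprime hc (by
        rw [hxo, hzo]; exact (Nat.coprime_primes hx Nat.prime_two).2 (by omega)), hxo, hzo]
    exact ⟨e.symm g, by rw [MulEquiv.orderOf_eq, hg]⟩
  · intro k hk
    -- `x = 2 ^ k + 1` divides `2 ^ (2 m + 1) - 1`
    have e1 : ((2 : ZMod x)) ^ (2 * m + 1) = 1 := by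
      have h3 : ((2 ^ (2 * m + 1) - 1 : ℕ) : ZMod x) = 0 := (ZMod.natCast_eq_zero_iff _ _).2 h1
      rw [Nat.cast_sub (Nat.one_le_pow _ _ (by norm_num))] at h3
      push_cast at h3
      exact sub_eq_zero.1 h3
    have h2x : (2 : ZMod x) ≠ 0 := by
      intro h0
      have h4 : ((2 : ℕ) : ZMod x) = 0 := by exact_mod_cast h0
      have := Nat.le_of_dvd (by norm_num) ((ZMod.natCast_eq_zero_iff _ _).1 h4)
      omega
    have e2 : ((2 : ZMod x)) ^ (2 ^ k) = 1 := by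
      have h3 := ZMod.pow_card_sub_one_eq_one h2x
      have h4 : 2 ^ k = x - 1 := by omega
      exact (congrArg (fun n => (2 : ZMod x) ^ n) h4).trans h3
    have e3 : orderOf (2 : ZMod x) ∣ Nat.gcd (2 * m + 1) (2 ^ k) :=
      Nat.dvd_gcd (orderOf_dvd_of_pow_eq_one e1) (orderOf_dvd_of_pow_eq_one e2)
    have e4 : Nat.gcd (2 * m + 1) (2 ^ k) = 1 := Nat.Coprime.pow_right _ (by
      rw [Nat.coprime_two_right, Nat.odd_iff]; omega)
    rw [e4, Nat.dvd_one, orderOf_eq_one_iff] at e3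
    have e5 : ((1 : ℕ) : ZMod x) = 0 := by
      have : (1 : ZMod x) = 2 - 1 := by norm_num
      push_cast
      rw [this, e3, sub_self]
    have := Nat.le_of_dvd (by norm_num) ((ZMod.natCast_eq_zero_iff _ _).1 e5)
    omega

/-! ### noncyclic abelian subgroups -/

theorem ncab_two {S : Type u} [Group S] [Finite S] (hS : IsSimpleGroup S) (hc : ∃ a b : S, a * b ≠ b * a) :
    ∃ P : Subgroup S, IsPGroup 2 P ∧ (∀ a ∈ P, ∀ b ∈ P, a * b = b * a) ∧ ¬ IsCyclic P := by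
  obtain ⟨E, hE⟩ := Cfsg.Agent.S0204.result (G := S) (by
    intro hcy
    obtain ⟨a, b, hab⟩ := hc
    exact hab (IsCyclic.commGroup.mul_comm a b))
  have hcard : Nat.card E = 2 ^ 2 := by rw [hE.card_four]; norm_num
  refine ⟨E, IsPGroup.of_card hcard, ?_, hE.not_isCyclic⟩
  intro a ha b hb
  have h1 := IsPGroup.commutative_of_card_eq_prime_sq (p := 2) hcard ⟨a, ha⟩ ⟨b, hb⟩
  exact congrArg Subtype.val h1

/-- two elements of order `p` in a cyclic group generate the same subgroup -/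
theorem mem_zpowers_of_cyclic {P : Type*} [Group P] [Finite P] [IsCyclic P] {p : ℕ} (hp : p.Prime) {a b : P}
    (ha : orderOf a = p) (hb : orderOf b = p) : b ∈ zpowers a := by
  classical
  have := Fintype.ofFinite P
  by_contra hcon
  have h1 := IsCyclic.card_pow_eq_one_le (α := P) hp.pos
  have h2 : insert b (Finset.univ.filter fun x : P => x ∈ zpowers a) ⊆ Finset.univ.filter fun x : P => x ^ p = 1 := by
    intro x hx
    rw [Finset.mem_insert, Finset.mem_filter] at hx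
    rw [Finset.mem_filter]
    refine ⟨Finset.mem_univ _, ?_⟩
    rcases hx with rfl | ⟨-, hx⟩
    · rw [← hb, pow_orderOf_eq_one]
    · obtain ⟨k, rfl⟩ := mem_zpowers_iff.1 hx
      rw [← zpow_natCast, ← zpow_mul, mul_comm, zpow_mul, zpow_natCast, ← ha, pow_orderOf_eq_one, one_zpow]
  have h3 := Finset.card_le_card h2
  rw [Finset.card_insert_of_notMem (by rw [Finset.mem_filter]; exact fun h => hcon h.2)] at h3
  have h4 : (Finset.univ.filter fun x : P => x ∈ zpowers a).card = p := by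
    rw [← ha, ← Nat.card_zpowers, Nat.card_eq_fintype_card, Fintype.card_subtype]
  omega

section g2

open Cfsg.Agent.Tits.Roots Cfsg.Agent.Tits.Core Cfsg.Agent.Tits.RootComb Cfsg.Agent.Nodes.LeviDec
  Cfsg.Agent.Nodes.RGDChev Cfsg.Agent.ChevalleyStructure Cfsg.Agent.ChevalleyStructure.CoxeterGeomTypes

theorem ncab_g2 (K : Type) [Field K] [Fintype K] (p : ℕ) [hpf : Fact p.Prime] [CharP K p] :
    ∃ P : Subgroup ↥(Lie.chevG2.group K), IsPGroup p P ∧ (∀ a ∈ P, ∀ b ∈ P, a * b = b * a) ∧ ¬ IsCyclic P := by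
  have := finite_W Cfsg.Agent.H225.PPow.type_G2 CoxeterMatrix.G₂.toCoxeterSystem
  have R := rgd (K := K) Cfsg.Agent.H225.PPow.type_G2 CoxeterMatrix.G₂.toCoxeterSystem p
  have L := RM.lrG K p
  obtain ⟨E, a, b, hE, hab, ha, hb, ha1, hb1, x, y, hx, hy, hx0, hy0, hxy, hax, hby⟩ :=
    RM.exists_nc R L RM.domG (i := 1) (by
      have h : (∑ k, cartanOf Lie.chevG2 2 1 k * RM.hrG k) ≠ 0 := by decide +kernel
      exact h) ⟨L.root, RM.nonnegG, 0, by decide, by decide⟩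
  refine ⟨E, hE, hab, fun hcy => ?_⟩
  -- elements of order `p`
  have key : ∀ c ∈ E, c ≠ 1 → ∃ k : ℕ, orderOf (c ^ k) = p := by
    intro c hc hc1
    obtain ⟨n, hn⟩ := (IsPGroup.iff_orderOf.1 hE) ⟨c, hc⟩
    rw [Subgroup.orderOf_mk] at hn
    have hn0 : n ≠ 0 := by
      rintro rfl
      rw [pow_zero, orderOf_eq_one_iff] at hn
      exact hc1 hn
    obtain ⟨n', rfl⟩ := Nat.exists_eq_succ_of_ne_zero hn0
    refine ⟨p ^ n', ?_⟩
    rw [orderOf_pow_of_dvd (pow_ne_zero _ hpf.out.ne_zero) (by rw [hn]; exact pow_dvd_pow _ (Nat.le_succ _)), hn,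
      Nat.succ_eq_add_one, pow_succ, Nat.mul_div_cancel_left _ (pow_pos hpf.out.pos _)]
  obtain ⟨k, hk⟩ := key a ha ha1
  obtain ⟨l, hl⟩ := key b hb hb1
  have hk' : orderOf (⟨a ^ k, E.pow_mem ha k⟩ : E) = p := by rw [Subgroup.orderOf_mk, hk]
  have hl' : orderOf (⟨b ^ l, E.pow_mem hb l⟩ : E) = p := by rw [Subgroup.orderOf_mk, hl]
  have h1 := mem_zpowers_of_cyclic hpf.out hk' hl'
  obtain ⟨j, hj⟩ := mem_zpowers_iff.1 h1
  have h2 : (a ^ k) ^ j = b ^ l := congrArg Subtype.val hj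
  have h3 : b ^ l = 1 := RM.inf_eq_bot R hx hy hx0 hy0 hxy (h2 ▸ Subgroup.zpow_mem _ (Subgroup.pow_mem _ hax _) _)
    (Subgroup.pow_mem _ hby _)
  rw [h3, orderOf_one] at hl
  exact hpf.out.one_lt.ne hl

end g2

theorem ncab_congr {S T : Type*} [Group S] [Group T] (e : S ≃* T) {v : ℕ}
    (h : ∃ P : Subgroup T, IsPGroup v P ∧ (∀ a ∈ P, ∀ b ∈ P, a * b = b * a) ∧ ¬ IsCyclic P) :
    ∃ P : Subgroup S, IsPGroup v P ∧ (∀ a ∈ P, ∀ b ∈ P, a * b = b * a) ∧ ¬ IsCyclic P := by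
  obtain ⟨P, hP, hab, hnc⟩ := h
  refine ⟨P.map e.symm.toMonoidHom, hP.map _, ?_, fun hc => hnc ?_⟩
  · rintro _ ⟨a, ha, rfl⟩ _ ⟨b, hb, rfl⟩
    rw [← map_mul, ← map_mul, hab a ha b hb]
  · exact isCyclic_of_surjective (P.equivMapOfInjective e.symm.toMonoidHom e.symm.injective).symm.toMonoidHom
      (P.equivMapOfInjective e.symm.toMonoidHom e.symm.injective).symm.surjective

/-- **Noncyclic abelian subgroups.** -/
theorem ncab {t : Fam} (ht : Exc t) {v f : ℕ} {S : Type u} [Group S] [Finite S] (hS : IsSimpleGroup S)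
    (hc : ∃ a b : S, a * b ≠ b * a) (hv : v.Prime) (h : Fam.Is v f S t) :
    ∃ P : Subgroup S, IsPGroup v P ∧ (∀ a ∈ P, ∀ b ∈ P, a * b = b * a) ∧ ¬ IsCyclic P := by
  have hvf := Fact.mk hv
  have hf1 := exc_fpos ht h
  have hq : 2 ≤ v ^ f := hv.two_le.trans (Nat.le_self_pow (by omega) v)
  by_cases hv2 : v = 2
  · subst hv2
    exact ncab_two hS hc
  have fin : ∀ {w : ℕ}, w.Prime → w ≠ v → ¬ w ∣ v - 1 → MovA S v w →
      ∃ P : Subgroup S, IsPGroup v P ∧ (∀ a ∈ P, ∀ b ∈ P, a * b = b * a) ∧ ¬ IsCyclic P :=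
    fun hw hwv hw1 hm => hm.noncyclic hv hw hwv hw1
  have three : 3 ∈ mvc t → ∃ P : Subgroup S, IsPGroup v P ∧ (∀ a ∈ P, ∀ b ∈ P, a * b = b * a) ∧ ¬ IsCyclic P := by
    intro h3
    obtain ⟨r, hr⟩ := Cfsg.Agent.H436.exists_prim hq (by norm_num : 3 ≤ 3) (fun h => absurd h.2 (by norm_num))
    have hr0 := Fact.mk hr.prime
    have hrv : r ≠ v := by
      rintro rfl
      exact hr.not_dvd (dvd_pow_self r (by omega))
    have hoc : oc v f r = 3 := by
      have h1 : ((v ^ f : ℕ) : ZMod r) ^ 3 = 1 := by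
        have h2 := hr.dvd (m := 3) dvd_rfl
        have h4 : (((v ^ f) ^ 3 - 1 : ℕ) : ZMod r) = 0 := (ZMod.natCast_eq_zero_iff _ _).2 h2
        rw [Nat.cast_sub (Nat.one_le_pow _ _ (by omega))] at h4
        rw [← Nat.cast_pow]
        rw [Nat.cast_one] at h4
        exact sub_eq_zero.1 h4
      refine orderOf_eq_prime h1 fun h2 => ?_
      have h4 := hr.not_dvd_sub (m := 1) (by norm_num)
      apply h4
      rw [pow_one, ← ZMod.natCast_eq_zero_iff, Nat.cast_sub (by omega), h2, Nat.cast_one, sub_self]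
    have hr1 : ¬ r ∣ v - 1 := by
      intro hd
      have h4 := hr.not_dvd_sub (m := 1) (by norm_num)
      apply h4
      rw [pow_one]
      exact hd.trans (Nat.sub_one_dvd_pow_sub_one _ _)
    have h5 : 5 ≤ r := by
      have h6 : orderOf ((v ^ f : ℕ) : ZMod r) ∣ r - 1 := by
        refine ZMod.orderOf_dvd_card_sub_one ?_
        intro h0
        exact hr.not_dvd ((ZMod.natCast_eq_zero_iff _ _).1 h0)
      have h7 : oc v f r ∣ r - 1 := h6
      rw [hoc] at h7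
      have h8 := hr.prime.two_le
      have h9 := Nat.le_of_dvd (by omega) h7
      have h10 : r ≠ 4 := by
        rintro rfl
        exact absurd hr.prime (by norm_num)
      omega
    exact fin hr.prime hrv hr1 (movA_exc hv h hr.prime h5 hrv (by rw [hoc]; exact h3))
  cases t with
  | g2 =>
    obtain ⟨h3, F, _, _, _, hF, ⟨e⟩⟩ := h
    exact ncab_congr e (ncab_g2 F v)
  | f4 => exact three (by decide)
  | e6 => exact three (by decide)
  | e7 => exact three (by decide)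
  | e8 => exact three (by decide)
  | te6 => exact three (by decide)
  | td4 => exact three (by decide)
  | sz =>
    obtain ⟨hv2', -⟩ := h
    exact absurd hv2' hv2
  | tf4 =>
    obtain ⟨hv2', -⟩ := h
    exact absurd hv2' hv2
  | ree =>
    have h' := h
    obtain ⟨rfl, m, hm, rfl, -⟩ := h'
    -- a prime divisor `≥ 5` of `3 ^ (2 m + 1) - 1`
    have e1 : 3 ^ (2 * m + 1) = 2 * ((3 ^ (2 * m + 1) - 1) / 2) + 1 := by
      have : 3 ^ (2 * m + 1) % 2 = 1 := by rw [Nat.pow_mod]; norm_num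
      omega
    have e2 : 27 ≤ 3 ^ (2 * m + 1) := by
      calc 27 = 3 ^ 3 := by norm_num
        _ ≤ 3 ^ (2 * m + 1) := Nat.pow_le_pow_right (by norm_num) (by omega)
    obtain ⟨r, hr, hrd⟩ := Nat.exists_prime_and_dvd (n := (3 ^ (2 * m + 1) - 1) / 2) (by omega)
    have hr1 : r ∣ 3 ^ (2 * m + 1) - 1 := by
      rw [show 3 ^ (2 * m + 1) - 1 = 2 * ((3 ^ (2 * m + 1) - 1) / 2) by omega]
      exact Dvd.dvd.mul_left hrd _
    have hr3 : r ≠ 3 := by
      rintro rfl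
      have h3 : 3 ∣ 3 ^ (2 * m + 1) := dvd_pow_self 3 (by omega)
      omega
    have hr2 : r ≠ 2 := by
      rintro rfl
      have h3 : 3 ^ (2 * m + 1) % 4 = 3 := by
        rw [pow_succ, pow_mul, Nat.mul_mod, Nat.pow_mod]
        norm_num
      omega
    have h5 : 5 ≤ r := by
      have h8 := hr.two_le
      have h10 : r ≠ 4 := by
        rintro rfl
        exact absurd hr (by norm_num)
      omega
    have hoc : oc 3 (2 * m + 1) r = 1 := by
      rw [oc, orderOf_eq_one_iff]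
      have h4 : ((3 ^ (2 * m + 1) - 1 : ℕ) : ZMod r) = 0 := (ZMod.natCast_eq_zero_iff _ _).2 hr1
      rw [Nat.cast_sub (by omega), Nat.cast_one] at h4
      exact sub_eq_zero.1 h4
    refine fin hr hr3 ?_ (movA_exc hv h hr h5 hr3 (by rw [hoc]; decide))
    intro hd
    have := Nat.le_of_dvd (by norm_num) hd
    omega
  | psl n => exact ht.elim
  | psp n => exact ht.elim
  | psu n => exact ht.elim
  | oodd n => exact ht.elim
  | oplus n => exact ht.elim
  | ominus n => exact ht.elim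

section frame

variable {G : Type u} [Group G] [Finite G] {K : Subgroup G} [K.Normal] {S : Subgroup (G ⧸ K)} [S.Normal] {t' : Fam}
  {v f' : ℕ}

/-- **The characteristic is adjacent to the other primes of the radical.** -/
theorem ExFrm.sv_adj (h : ExFrm G K S t' v f') {r : ℕ} (hr : r.Prime) (hrv : r ≠ v) (hrK : r ∣ Nat.card K) :
    ∃ g : G, orderOf g = r * v := by
  obtain ⟨P, hP, hab, hnc⟩ := ncab h.exc h.simple h.nonab h.prime h.is
  have h1 : ∃ g : G, orderOf g = v * r := by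
    refine exists_adj_ab K h.nil h.prime hr (Ne.symm hrv) hrK (P.map S.subtype) (hP.map _) ?_ ?_
    · rintro _ ⟨a, ha, rfl⟩ _ ⟨b, hb, rfl⟩
      rw [← map_mul, ← map_mul, hab a ha b hb]
    · intro hc
      apply hnc
      exact isCyclic_of_surjective (P.equivMapOfInjective _ S.subtype_injective).symm.toMonoidHom
        (P.equivMapOfInjective _ S.subtype_injective).symm.surjective
  obtain ⟨g, hg⟩ := h1
  exact ⟨g, by rw [hg, mul_comm]⟩

/-- **Primes of the radical and moved primes.** -/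
theorem ExFrm.kadj (h : ExFrm G K S t' v f') {r x : ℕ} (hr : r.Prime) (hrK : r ∣ Nat.card K) (hrv : r ≠ v)
    (hx : x.Prime) (hx2 : x ≠ 2) (hxv : x ≠ v) (hxr : x ≠ r) (hM : MovW S v x) : ∃ g : G, orderOf g = r * x := by
  obtain ⟨g, hg⟩ := Cfsg.Agent.R2.Spec.F1.kadj h.nil h.simple hr hx h.prime hx2 (Ne.symm hxv) (Ne.symm hrv) hxr hrK hM
  exact ⟨g, by rw [hg, mul_comm]⟩

/-- moved primes of the classes `mvc` -/
theorem ExFrm.kadj_cls (h : ExFrm G K S t' v f') {r x : ℕ} (hr : r.Prime) (hrK : r ∣ Nat.card K) (hrv : r ≠ v)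
    (hx : x.Prime) (hx5 : 5 ≤ x) (hxv : x ≠ v) (hxr : x ≠ r) (he : oc v f' x ∈ mvc t') : ∃ g : G, orderOf g = r * x :=
  h.kadj hr hrK hrv hx (by omega) hxv hxr (movA_exc h.prime h.is hx hx5 hxv he).movW

/-- the Borel subgroup of `Sz` -/
theorem ExFrm.kadj_sz (h : ExFrm G K S .sz v f') {r x : ℕ} (hr : r.Prime) (hrK : r ∣ Nat.card K) (hrv : r ≠ v)
    (hx : x.Prime) (hx5 : 5 ≤ x) (hxr : x ≠ r) (h1 : x ∣ v ^ f' - 1) : ∃ g : G, orderOf g = r * x := by
  refine h.kadj hr hrK hrv hx (by omega) ?_ hxr (movW_sz h.is hx hx5 h1)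
  obtain ⟨rfl, -⟩ := h.is
  omega

end frame

end Cfsg.Agent.R2.Spec.F1
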