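import Cfsg.Agent.R2.Spec.F1.MovI
import Cfsg.Agent.H72.AdjPSL
import Cfsg.Agent.H72.AdjPSUW
import Cfsg.Agent.S2468

/-!
# Adjacency in `PSU_3`, `PSL_2` (helper23)

* `psu_three_char` : the primes `w ≥ 5` of `q + 1` are adjacent to the characteristic in `PSU_3(q)`;
* `psl_two_same` : two odd primes of `q - 1`, or of `q + 1`, are adjacent in `PSL_2(q)`;
* `psl_three_char` : the primes `w ≥ 5` of `q - 1` are adjacent to the characteristic in `PSL_3(q)`.
-/

set_option autoImplicit false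
set_option linter.unusedSectionVars false

namespace Cfsg.Agent.R2.Spec.F1

open Matrix Cfsg Cfsg.Agent.H72 Cfsg.Agent.H186 Cfsg.Agent.ClassicalGeometry.GUBasic Cfsg.Agent.H103.UniBlock

section psu

variable {F : Type*} [Field F] [Fintype F] {q : ℕ}

theorem uni_smul {ι : Type*} [Fintype ι] [DecidableEq ι] {A : Matrix ι ι F} (hA : Uni q A) {c : F}
    (hc : c ^ (q + 1) = 1) : Uni q (c • A) := by
  obtain ⟨x, hx, h1⟩ := hA
  refine ⟨x, hx, ?_⟩
  rw [st_smul, Matrix.smul_mul, Matrix.smul_mul, Matrix.mul_smul, h1, smul_smul, ← pow_succ, hc, one_smul]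

theorem psu_three_char (hF : Fintype.card F = q ^ 2) {p : ℕ} (hp : p.Prime) [CharP F p] {w : ℕ} (hw : w.Prime)
    (hw5 : 5 ≤ w) (hwp : w ≠ p) (hwq : w ∣ q + 1) : ∃ z : Cfsg.PSU 3 F q, orderOf z = w * p := by
  have := Fact.mk hp
  have hq := two_le hF
  obtain ⟨a, ha⟩ := exists_unit (F := F) hw (by
    rw [hF]
    have h1 := Nat.sq_sub_sq q 1
    rw [one_pow] at h1
    rw [h1]
    exact hwq.mul_right _)
  have haq : (a : F) ^ (q + 1) = 1 := by
    obtain ⟨c, hc⟩ := hwq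
    rw [hc, pow_mul, ← Units.val_pow_eq_pow_val, ← ha, pow_orderOf_eq_one, Units.val_one, one_pow]
  have hbq : (((a⁻¹ ^ 2 : Fˣ) : F)) ^ (q + 1) = 1 := by
    have h1 : (a⁻¹ ^ 2) ^ (q + 1) = 1 := by
      have h2 : a ^ (q + 1) = 1 := Units.ext (by rw [Units.val_pow_eq_pow_val, haq, Units.val_one])
      rw [← pow_mul, mul_comm, pow_mul, inv_pow, h2, inv_one, one_pow]
    rw [← Units.val_pow_eq_pow_val, h1, Units.val_one]
  obtain ⟨B, hB, hBd, hB1, hB2⟩ := AdjPSU.hasBlock_char hF p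
  let e : Fin 3 ≃ Fin 2 ⊕ Fin 1 := (finCongr (by norm_num : 3 = 2 + 1)).trans finSumFinEquiv.symm
  refine AdjPSU.exists_order_of_index hF le_rfl e (N := w * p)
    (A := fromBlocks ((a : F) • B) 0 0 (((a⁻¹ ^ 2 : Fˣ) : F) • (1 : Matrix (Fin 1) (Fin 1) F)))
    (uni_fromBlocks (by omega) (uni_smul hB haq) (uni_smul (uni_one hF) hbq)) ?_ ?_ _ dvd_rfl
  · rw [Matrix.det_fromBlocks_zero₂₁, Matrix.det_smul, Matrix.det_smul, hBd, Matrix.det_one, Fintype.card_fin,
      Fintype.card_fin, mul_one, mul_one, pow_one, ← Units.val_pow_eq_pow_val, ← Units.val_mul, inv_pow,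
      mul_inv_cancel, Units.val_one]
  · intro k t hk
    rw [AdjPSU.fromBlocks_pow, smul_pow, smul_pow, one_pow] at hk
    obtain ⟨h3, h4⟩ := AdjPSU.fromBlocks_eq_smul hk
    have h5 : (((a⁻¹ ^ 2 : Fˣ) : F)) ^ k = t := by
      have h6 := congrFun (congrFun h4 0) 0
      simpa using h6
    have ha0 : ((a : F)) ^ k ≠ 0 := pow_ne_zero _ a.ne_zero
    have h6 : B ^ k = (t * ((a : F) ^ k)⁻¹) • (1 : Matrix (Fin 2) (Fin 2) F) := by
      rw [mul_comm, ← smul_smul, ← h3, smul_smul, inv_mul_cancel₀ ha0, one_smul]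
    have h7 := AdjPSU.pow_eq_one_of_scalar (by norm_num) hB1 h6
    have h8 : t * ((a : F) ^ k)⁻¹ = 1 := by
      have h9 : (t * ((a : F) ^ k)⁻¹ - 1) ^ p = 0 := by rw [sub_pow_char, h7, one_pow, sub_self]
      exact sub_eq_zero.1 (pow_eq_zero_iff hp.ne_zero |>.1 h9)
    rw [h8, one_smul] at h6
    have h10 : t = (a : F) ^ k := by
      rw [mul_inv_eq_one₀ ha0] at h8
      exact h8
    have h11 : a ^ (3 * k) = 1 := by
      apply Units.ext
      rw [Units.val_pow_eq_pow_val, Units.val_one]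
      have h12 : (((a⁻¹ ^ 2 : Fˣ) : F)) ^ k * ((a : F) ^ k) ^ 2 = 1 := by
        rw [← Units.val_pow_eq_pow_val, ← Units.val_pow_eq_pow_val, ← Units.val_pow_eq_pow_val, ← Units.val_mul]
        have h13 : (a⁻¹ ^ 2) ^ k * (a ^ k) ^ 2 = 1 := by
          rw [← pow_mul, ← pow_mul, inv_pow, mul_comm k 2, inv_mul_cancel]
        rw [h13, Units.val_one]
      rw [h5, h10] at h12
      rw [mul_comm, pow_mul]
      linear_combination h12
    have h12 : w ∣ k := by
      have h13 := orderOf_dvd_of_pow_eq_one h11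
      rw [ha] at h13
      rcases hw.dvd_mul.1 h13 with h14 | h14
      · have := Nat.le_of_dvd (by norm_num) h14
        omega
      · exact h14
    exact ((Nat.coprime_primes hw hp).2 hwp).mul_dvd_of_dvd_of_dvd h12 (hB2 _ h6)

end psu

section psl

variable {F : Type*} [Field F] [Fintype F]

theorem psl_two_same_one {x y : ℕ} (hx : x.Prime) (hy : y.Prime) (hx2 : x ≠ 2) (hy2 : y ≠ 2) (hxy : x ≠ y)
    (h1 : x ∣ Fintype.card F - 1) (h2 : y ∣ Fintype.card F - 1) :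
    ∃ z : Matrix.ProjectiveSpecialLinearGroup (Fin 2) F, orderOf z = x * y := by
  have hco : Nat.Coprime x y := (Nat.coprime_primes hx hy).2 hxy
  obtain ⟨B, hBd, hB1, hB2⟩ := AdjPSL.hasBlock_two (F := F) (hco.mul_dvd_of_dvd_of_dvd h1 h2)
  refine AdjPSL.exists_order B hBd (N := x * y) ?_ _ dvd_rfl
  intro k c hk
  -- `c ^ 2 = 1`
  have h3 : c ^ 2 = 1 := by
    have h4 := congrArg Matrix.det hk
    rw [Matrix.det_pow, hBd, one_pow, Matrix.det_smul, Matrix.det_one, Fintype.card_fin, mul_one] at h4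
    exact h4.symm
  have h5 : c ^ (x * y) = 1 := AdjPSU.pow_eq_one_of_scalar (by norm_num) hB1 hk
  have h6 : c = 1 := by
    have h7 : orderOf c ∣ 1 := by
      have h8 : Nat.Coprime 2 (x * y) := Nat.coprime_two_left.2 ((hx.odd_of_ne_two hx2).mul (hy.odd_of_ne_two hy2))
      rw [← h8]
      exact Nat.dvd_gcd (orderOf_dvd_of_pow_eq_one h3) (orderOf_dvd_of_pow_eq_one h5)
    exact orderOf_eq_one_iff.1 (Nat.dvd_one.1 h7)
  rw [h6, one_smul] at hk
  exact hB2 k hk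

/-- **`PSL_2(q)`** : odd primes of the same class are adjacent. -/
theorem psl_two_same {p : ℕ} (hp : p.Prime) [CharP F p] (h4 : 4 ≤ Fintype.card F) {x y : ℕ} (hx : x.Prime)
    (hy : y.Prime) (hx2 : x ≠ 2) (hy2 : y ≠ 2) (hxp : x ≠ p) (hyp : y ≠ p) (hxy : x ≠ y)
    (hxG : x ∣ Nat.card (Matrix.ProjectiveSpecialLinearGroup (Fin 2) F))
    (hyG : y ∣ Nat.card (Matrix.ProjectiveSpecialLinearGroup (Fin 2) F))
    (h : AdjOrth.ee (Fintype.card F) x = AdjOrth.ee (Fintype.card F) y) :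
    ∃ z : Matrix.ProjectiveSpecialLinearGroup (Fin 2) F, orderOf z = x * y := by
  have hq1 := Fintype.one_lt_card (α := F)
  have := Fact.mk hp
  have hnd : ∀ {w : ℕ}, w.Prime → w ≠ p → ¬ w ∣ Fintype.card F := by
    intro w hw hwp hd
    obtain ⟨k, -, hk⟩ := FiniteField.card F p
    rw [hk] at hd
    exact hwp ((Nat.prime_dvd_prime_iff_eq hw hp).1 (hw.dvd_of_dvd_pow hd))
  have hpos := Cfsg.Agent.H72.AdjOrth.ee_pos hx (hnd hx hxp)
  rcases Nat.lt_or_ge (AdjOrth.ee (Fintype.card F) x) 2 with h1 | h1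
  · have h2 : AdjOrth.ee (Fintype.card F) x = 1 := by omega
    exact psl_two_same_one hx hy hx2 hy2 hxy ((AdjPSL.ee_eq_one_iff (by omega)).1 h2)
      ((AdjPSL.ee_eq_one_iff (by omega)).1 (h ▸ h2))
  · by_contra hcon
    have h2 := (S2468.result (F := F) p 2 le_rfl (fun _ => h4) x y hx hy hx2 hy2 hxp hyp hxy hxG hyG _ _ rfl rfl h1
      (le_of_eq h)).1 (by
        rintro ⟨g, hg⟩
        exact hcon ⟨g, hg⟩)
    exact h2.2 (by
      change AdjOrth.ee (Fintype.card F) x ∣ AdjOrth.ee (Fintype.card F) y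
      rw [h])

end psl

end Cfsg.Agent.R2.Spec.F1
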