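import Cfsg.Agent.R2.Spec.F1.Bad
import Cfsg.Agent.R2.Spec.F1.Low

/-!
# At most two (three) good primes are nonadjacent to a prime of `|K|` (helper23)

* `adj_same'` : `adj_same` with `PSL_2` included; `adj_cat` : categories of primes;
* `Frm.few` : `r ≥ 5` divides `|K| |G / K : S|`, not as a field prime; a set `X` of primes `≥ 5` of `|S|`, not adjacent
  to `r` and pairwise not adjacent, has at most three members; if it has three then `r = v` and `S` is of type `Ω⁻`.
-/

set_option autoImplicit false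
set_option linter.unusedSectionVars false
set_option linter.unusedVariables false

namespace Cfsg.Agent.R2.Spec.F1

open Subgroup Cfsg
open Cfsg.Agent.H426.LieFam Cfsg.Agent.R2.Spec Cfsg.Agent.R2.Spec.P1
open Cfsg.Agent.H72

universe u

theorem adj_same' {t : Fam} (ht : Classical t) {v f : ℕ} {S : Type u} [Group S] (hv : v.Prime) (h : Fam.Is v f S t)
    {x y : ℕ} (hx : x.Prime) (hy : y.Prime) (hx2 : x ≠ 2) (hy2 : y ≠ 2) (hxy : x ≠ y) (hxv : x ≠ v) (hyv : y ≠ v)
    (hxS : x ∣ Nat.card S) (hyS : y ∣ Nat.card S) (hc : cls t (v ^ f) x = cls t (v ^ f) y) :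
    ∃ g : S, orderOf g = x * y := by
  have hnd : ∀ {w : ℕ}, w.Prime → w ≠ v → ¬ w ∣ v ^ f := fun hw hwv hd =>
    hwv ((Nat.prime_dvd_prime_iff_eq hw hv).1 (hw.dvd_of_dvd_pow hd))
  by_cases h2 : t = .psl 2
  · subst h2
    obtain ⟨hn, h4, F, _, _, hch, hF, ⟨e⟩⟩ := h
    rw [cls_psl, cls_psl, ← hF] at hc
    refine exists_congr_order e (psl_two_same hv (by rw [hF]; exact h4 rfl) hx hy hx2 hy2 hxv hyv hxy ?_ ?_ hc)
    · rw [← Nat.card_congr e.toEquiv]; exact hxS
    · rw [← Nat.card_congr e.toEquiv]; exact hyS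
  · exact adj_same ht h hx hy hx2 hy2 hxy (hnd hx hxv) (hnd hy hyv) hxS hyS hc h2

/-- the category of the characteristic -/
def c0 : Fam → ℕ
  | .psu n => if n = 3 then 1 else 0
  | _ => 0

/-- the categories of primes -/
noncomputable def cat (t : Fam) (v f x : ℕ) : ℕ := if x = v then c0 t else cls t (v ^ f) x

theorem cls_pos {t : Fam} {q x : ℕ} (hx : x.Prime) (hxq : ¬ x ∣ q) : 1 ≤ cls t q x := by
  have := Fact.mk hx
  have hs : ((sg t q : ℤ) : ZMod x) ^ 2 = ((q : ℕ) : ZMod x) ^ 2 := by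
    have h1 := congrArg (fun z : ℤ => (z : ZMod x)) (sg_sq t q)
    push_cast at h1
    exact h1
  have hq0 : ((q : ℕ) : ZMod x) ≠ 0 := fun h0 => hxq ((ZMod.natCast_eq_zero_iff q x).1 h0)
  have hs0 : ((sg t q : ℤ) : ZMod x) ≠ 0 := by
    intro h0
    rw [h0, zero_pow two_ne_zero] at hs
    exact hq0 (pow_eq_zero_iff two_ne_zero |>.1 hs.symm)
  have h2 : ((sg t q : ℤ) : ZMod x) ^ (x - 1) = 1 := ZMod.pow_card_sub_one_eq_one hs0
  exact Nat.pos_of_dvd_of_pos (orderOf_dvd_of_pow_eq_one h2) (by have := hx.one_lt; omega)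

variable {G : Type u} [Group G] [Finite G] {K : Subgroup G} [K.Normal] {S : Subgroup (G ⧸ K)} [S.Normal] {t : Fam}
  {v f : ℕ}

theorem Frm.nd (h : Frm G K S t v f) {w : ℕ} (hw : w.Prime) (hwv : w ≠ v) : ¬ w ∣ v ^ f := fun hd =>
  hwv ((Nat.prime_dvd_prime_iff_eq hw h.prime).1 (hw.dvd_of_dvd_pow hd))

/-- **primes of the same category are adjacent** -/
theorem Frm.adj_cat (h : Frm G K S t v f) {x y : ℕ} (hx : x.Prime) (hy : y.Prime) (hx5 : 5 ≤ x) (hy5 : 5 ≤ y)
    (hxy : x ≠ y) (hxS : x ∣ Nat.card S) (hyS : y ∣ Nat.card S) (hc : cat t v f x = cat t v f y) :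
    ∃ g : S, orderOf g = x * y := by
  have key : ∀ {w : ℕ}, w.Prime → 5 ≤ w → w ≠ v → w ∣ Nat.card S → c0 t = cls t (v ^ f) w →
      ∃ g : S, orderOf g = w * v := by
    intro w hw hw5 hwv hwS hcw
    have h1 := cls_pos (t := t) hw (h.nd hw hwv)
    have hne : c0 t ≠ 0 := by omega
    have h3 : t = .psu 3 := by
      cases t with
      | psu n =>
        by_contra h4
        apply hne
        rw [c0, if_neg (fun h5 => h4 (by rw [h5]))]
      | _ => exact absurd rfl hne
    subst h3
    obtain ⟨hn, h4, F, _, _, hch, hF, ⟨e⟩⟩ := h.is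
    have h5 : cls (.psu 3) (v ^ f) w = 1 := by rw [← hcw]; rfl
    rw [cls_psu] at h5
    exact exists_congr_order e (psu_three_char hF h.prime hw hw5 hwv (AdjPSU.dvd_of_nu_eq_one h5))
  rw [cat, cat] at hc
  by_cases hxv : x = v
  · by_cases hyv : y = v
    · exact absurd (hxv.trans hyv.symm) hxy
    · rw [if_pos hxv, if_neg hyv] at hc
      have h1 := key hy hy5 hyv hyS hc
      rw [hxv, mul_comm]
      exact h1
  · by_cases hyv : y = v
    · rw [if_neg hxv, if_pos hyv] at hc
      rw [hyv]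
      exact key hx hx5 hxv hxS hc.symm
    · rw [if_neg hxv, if_neg hyv] at hc
      exact adj_same' h.cla h.prime h.is hx hy (by omega) (by omega) hxy hxv hyv hxS hyS hc

/-- the categories for a prime of the radical, not the characteristic -/
def TA : Fam → Finset ℕ
  | .psl n => {0, n}
  | .psu n => {c0 (.psu n), if n % 2 = 1 then n else n - 1}
  | .psp n => {0, 2 * n}
  | .oodd n => {0, 2 * n}
  | .oplus n => {0, 2 * n - 2}
  | .ominus n => {0, 2 * n}
  | _ => ∅

/-- the categories nonadjacent to the characteristic -/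
def TV : Fam → Finset ℕ
  | .psl n => {n - 1, n}
  | .psu n => {n - 1, n}
  | .psp n => {n, 2 * n}
  | .oodd n => {n, 2 * n}
  | .oplus n => {if n % 2 = 1 then n else n - 1, 2 * n - 2}
  | .ominus n => {n - 1, 2 * n - 2, 2 * n}
  | _ => ∅

theorem card_TA (t : Fam) : (TA t).card ≤ 2 := by
  cases t <;> first | exact Finset.card_le_two | exact Nat.zero_le _

theorem card_TV (t : Fam) (h : ∀ n, t ≠ .ominus n) : (TV t).card ≤ 2 := by
  cases t with
  | ominus n => exact absurd rfl (h n)
  | psl n => exact Finset.card_le_two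
  | psu n => exact Finset.card_le_two
  | psp n => exact Finset.card_le_two
  | oodd n => exact Finset.card_le_two
  | oplus n => exact Finset.card_le_two
  | _ => exact Nat.zero_le _

theorem card_TV' (t : Fam) : (TV t).card ≤ 3 := by
  by_cases h : ∀ n, t ≠ .ominus n
  · exact (card_TV t h).trans (by norm_num)
  · push Not at h
    obtain ⟨n, rfl⟩ := h
    exact Finset.card_le_three

theorem cls_of_dvd_add {n q w : ℕ} (hw : w.Prime) (hw2 : w ≠ 2) (h : w ∣ q + 1) : cls (.psl n) q w = 2 := by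
  have := Fact.mk hw
  rw [cls]
  have h1 : ((sg (.psl n) q : ℤ) : ZMod w) = -1 := by
    have h2 : ((q + 1 : ℕ) : ZMod w) = 0 := (ZMod.natCast_eq_zero_iff _ _).2 h
    push_cast at h2
    simp only [sg]
    push_cast
    linear_combination h2
  rw [h1]
  apply orderOf_eq_prime
  · ring
  · intro h2
    have h3 : ((2 : ℕ) : ZMod w) = 0 := by
      push_cast
      linear_combination -h2
    exact hw2 ((Nat.prime_dvd_prime_iff_eq hw Nat.prime_two).1 ((ZMod.natCast_eq_zero_iff _ _).1 h3))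

/-- case (A) -/
theorem Frm.mem_TA (h : Frm G K S t v f) {x : ℕ} (hx : x.Prime) (hx5 : 5 ≤ x)
    (hA : x = v ∨ (3 ≤ cls t (v ^ f) x ∧ An t (cls t (v ^ f) x)) ∨ (t = .psl 2 ∧ x ∣ v ^ f + 1) ∨
      (t = .psu 3 ∧ x ∣ v ^ f + 1)) : cat t v f x ∈ TA t := by
  have hc := h.cla
  by_cases hxv : x = v
  · rw [cat, if_pos hxv]
    cases t with
    | psl n => exact Finset.mem_insert_self _ _
    | psu n => exact Finset.mem_insert_self _ _
    | psp n => exact Finset.mem_insert_self _ _
    | oodd n => exact Finset.mem_insert_self _ _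
    | oplus n => exact Finset.mem_insert_self _ _
    | ominus n => exact Finset.mem_insert_self _ _
    | _ => exact hc.elim
  · rw [cat, if_neg hxv]
    rcases hA with h1 | ⟨h3, h1⟩ | ⟨rfl, h1⟩ | ⟨rfl, h1⟩
    · exact absurd h1 hxv
    · obtain ⟨i, hi⟩ : ∃ i, i = cls t (v ^ f) x := ⟨_, rfl⟩
      rw [← hi] at h1 h3 ⊢
      cases t with
      | psl n =>
        have h2 : i = n := h1
        rw [h2]
        exact Finset.mem_insert_of_mem (Finset.mem_singleton_self _)
      | psu n =>
        have h2 : i % 2 = 1 ∧ (i = n ∨ i + 1 = n) := h1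
        have h4 : i = if n % 2 = 1 then n else n - 1 := by split_ifs <;> omega
        change i ∈ ({c0 (.psu n), if n % 2 = 1 then n else n - 1} : Finset ℕ)
        rw [← h4]
        exact Finset.mem_insert_of_mem (Finset.mem_singleton_self _)
      | psp n =>
        have h2 : i = 2 * n := h1
        rw [h2]
        exact Finset.mem_insert_of_mem (Finset.mem_singleton_self _)
      | oodd n =>
        have h2 : i = 2 * n := h1
        rw [h2]
        exact Finset.mem_insert_of_mem (Finset.mem_singleton_self _)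
      | oplus n =>
        have h2 : i + 2 = 2 * n := h1
        have h4 : i = 2 * n - 2 := by omega
        rw [h4]
        exact Finset.mem_insert_of_mem (Finset.mem_singleton_self _)
      | ominus n =>
        have h2 : i = 2 * n := h1
        rw [h2]
        exact Finset.mem_insert_of_mem (Finset.mem_singleton_self _)
      | _ => exact hc.elim
    · rw [cls_of_dvd_add hx (by omega) h1]
      decide
    · have h2 : cls (.psu 3) (v ^ f) x = 1 := by
        rw [cls_psu]
        exact AdjPSU.nu_eq_one h1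
      rw [h2]
      decide

/-- case (B) -/
theorem Frm.mem_TV (h : Frm G K S t v f) {x : ℕ} (hx : x.Prime) (hx2 : x ≠ 2) (hx5 : 5 ≤ x ∨ ∃ n, t = .ominus n)
    (hxv : x ≠ v) (hxS : x ∣ Nat.card S) (hna : ¬ ∃ g : S, orderOf g = v * x) : cls t (v ^ f) x ∈ TV t := by
  have hc := h.cla
  have hxv' : ¬ x ∣ v := fun hd => hxv ((Nat.prime_dvd_prime_iff_eq hx h.prime).1 hd)
  have hF := adjFacts h.cla h.prime h.is
  obtain ⟨i, hi⟩ : ∃ i, i = cls t (v ^ f) x := ⟨_, rfl⟩
  rcases h.vcase hx hx2 hxv hxS hna with ⟨h3, h1⟩ | ⟨h2, h3, n, hn⟩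
  · have hm := (hF.dvd x hx hx2 hxv' h3).1 hxS
    rw [← hi] at h1 h3 hm ⊢
    cases t with
    | psl n =>
      have h2 : n < i + 2 := h1
      have h4 : i ≤ n := hm
      change i ∈ ({n - 1, n} : Finset ℕ)
      rw [Finset.mem_insert, Finset.mem_singleton]
      omega
    | psu n =>
      have h2 : n < i + 2 := h1
      have h4 : i ≤ n := hm
      change i ∈ ({n - 1, n} : Finset ℕ)
      rw [Finset.mem_insert, Finset.mem_singleton]
      omega
    | psp n =>
      have h2 : n < eta i + 1 := h1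
      have h4 : eta i ≤ n := hm
      change i ∈ ({n, 2 * n} : Finset ℕ)
      rw [Finset.mem_insert, Finset.mem_singleton]
      rcases eta_cases i with h5 | h5 <;> omega
    | oodd n =>
      have h2 : n < eta i + 1 := h1
      have h4 : eta i ≤ n := hm
      change i ∈ ({n, 2 * n} : Finset ℕ)
      rw [Finset.mem_insert, Finset.mem_singleton]
      rcases eta_cases i with h5 | h5 <;> omega
    | oplus n =>
      have h2 : n < eta i + 2 := h1
      have h4 : eta i + 1 ≤ n ∨ (i = n ∧ n % 2 = 1) := hm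
      change i ∈ ({if n % 2 = 1 then n else n - 1, 2 * n - 2} : Finset ℕ)
      rw [Finset.mem_insert, Finset.mem_singleton]
      rcases eta_cases i with ⟨h5, h6⟩ | ⟨h5, h6⟩
      · rw [Nat.odd_iff] at h5
        split_ifs <;> omega
      · rw [Nat.even_iff] at h5
        split_ifs <;> omega
    | ominus n =>
      have h2 : n < eta i + 2 := h1
      have h4 : eta i + 1 ≤ n ∨ i = 2 * n := hm
      change i ∈ ({n - 1, 2 * n - 2, 2 * n} : Finset ℕ)
      rw [Finset.mem_insert, Finset.mem_insert, Finset.mem_singleton]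
      rcases eta_cases i with ⟨h5, h6⟩ | ⟨h5, h6⟩ <;> omega
    | _ => exact hc.elim
  · have hx5' : 5 ≤ x := by
      rcases hx5 with h5 | ⟨m, h5⟩
      · exact h5
      · rcases hn with hn | hn <;> rw [hn] at h5 <;> cases h5
    have h1 := cls_pos (t := t) hx (h.nd hx hxv)
    rw [← hi] at h1 h2 ⊢
    rcases hn with rfl | rfl
    · have h4 : 2 ≤ n := h.is.1
      have h3' : n ≤ 3 := h3
      change i ∈ ({n - 1, n} : Finset ℕ)
      rw [Finset.mem_insert, Finset.mem_singleton]
      by_contra hcon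
      have hn3 : n = 3 := by omega
      have hi1 : i = 1 := by omega
      subst hn3
      obtain ⟨-, -, F, _, _, hch, hF', ⟨e⟩⟩ := h.is
      have := Fact.mk h.prime
      apply hna
      refine exists_congr_order e ?_
      by_contra hno
      have h9 := S2470.result (F := F) v 3 (by norm_num) (fun h => absurd h (by norm_num)) x hx hx2 hxv
        (by rw [← Nat.card_congr e.toEquiv]; exact hxS) _ rfl
      have h10 : x * v ∉ Set.range (orderOf : Matrix.ProjectiveSpecialLinearGroup (Fin 3) F → ℕ) := by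
        rintro ⟨g, hg⟩
        exact hno ⟨g, by rw [hg, mul_comm]⟩
      rcases h9.1 h10 with h11 | h11
      · rw [hi, cls_psl] at hi1
        have h12 : orderOf ((Fintype.card F : ℕ) : ZMod x) = 1 := by rw [hF']; exact hi1
        rw [h12] at h11
        omega
      · omega
    · have h4 : 3 ≤ n := h.is.1
      have h3' : n ≤ 3 := h3
      change i ∈ ({n - 1, n} : Finset ℕ)
      rw [Finset.mem_insert, Finset.mem_singleton]
      by_contra hcon
      have hn3 : n = 3 := by omega
      have hi1 : i = 1 := by omega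
      subst hn3
      obtain ⟨-, -, F, _, _, hch, hF', ⟨e⟩⟩ := h.is
      apply hna
      rw [hi, cls_psu] at hi1
      rw [mul_comm]
      exact exists_congr_order e (psu_three_char hF' h.prime hx hx5' hxv (AdjPSU.dvd_of_nu_eq_one hi1))

/-- case (C) -/
theorem Frm.mem_TC (h : Frm G K S t v f) {x : ℕ} (hx : x.Prime) (hx5 : 5 ≤ x) (hxS : x ∣ Nat.card S)
    (h3 : 3 ≤ cls t (v ^ f) x) (h1 : rk t < cls t (v ^ f) x + 2) (hn : ∃ n, t = .psl n ∨ t = .psu n) :
    cat t v f x ∈ ({rk t - 1, rk t} : Finset ℕ) := by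
  have hxv : x ≠ v := by
    rintro rfl
    have h4 := cls_pos_ne h3
    apply h4
    have h5 : ((x ^ f : ℕ) : ZMod x) = 0 := (ZMod.natCast_eq_zero_iff _ _).2 (dvd_pow_self x h.f_ne)
    have h6 := congrArg (fun z : ℤ => (z : ZMod x)) (sg_sq t (x ^ f))
    push_cast at h6 h5
    rw [h5, zero_pow two_ne_zero] at h6
    have := Fact.mk hx
    exact pow_eq_zero_iff two_ne_zero |>.1 h6
  have hxv' : ¬ x ∣ v := fun hd => hxv ((Nat.prime_dvd_prime_iff_eq hx h.prime).1 hd)
  have hm := ((adjFacts h.cla h.prime h.is).dvd x hx (by omega) hxv' h3).1 hxS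
  rw [cat, if_neg hxv, Finset.mem_insert, Finset.mem_singleton]
  obtain ⟨n, rfl | rfl⟩ := hn
  · have h4 : cls (.psl n) (v ^ f) x ≤ n := hm
    have h5 : n < cls (.psl n) (v ^ f) x + 2 := h1
    change cls (.psl n) (v ^ f) x = n - 1 ∨ cls (.psl n) (v ^ f) x = n
    omega
  · have h4 : cls (.psu n) (v ^ f) x ≤ n := hm
    have h5 : n < cls (.psu n) (v ^ f) x + 2 := h1
    change cls (.psu n) (v ^ f) x = n - 1 ∨ cls (.psu n) (v ^ f) x = n
    omega

/-- **Few good primes are nonadjacent to a prime which is bad for another reason than a field automorphism.** -/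
theorem Frm.few (h : Frm G K S t v f) {r : ℕ} (hr : r.Prime) (hr5 : 5 ≤ r) (hrB : r ∣ Nat.card K * S.index)
    (hne : r ∣ Nat.card K ∨ r ∣ dg t (v ^ f)) {X : Finset ℕ} (hX : ∀ x ∈ X, x.Prime ∧ 5 ≤ x ∧ x ≠ r ∧ x ∣ Nat.card S)
    (hrX : ∀ x ∈ X, ¬ ∃ g : G, orderOf g = r * x)
    (hXX : ∀ x ∈ X, ∀ y ∈ X, x ≠ y → ¬ ∃ g : G, orderOf g = x * y) :
    X.card ≤ 3 ∧ (3 ≤ X.card → r ∣ Nat.card K ∧ r = v ∧ ∃ n, t = .ominus n) := by
  have hinj : Set.InjOn (cat t v f) X := by
    intro x hx y hy hxy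
    by_contra hne
    obtain ⟨hxp, hx5, -, hxS⟩ := hX x hx
    obtain ⟨hyp, hy5, -, hyS⟩ := hX y hy
    exact hXX x hx y hy hne (exists_of_S (h.adj_cat hxp hyp hx5 hy5 hne hxS hyS hxy))
  have key : ∀ {T : Finset ℕ}, (∀ x ∈ X, cat t v f x ∈ T) → X.card ≤ T.card := fun hT =>
    Finset.card_le_card_of_injOn (cat t v f) hT hinj
  by_cases hrK : r ∣ Nat.card K
  · by_cases hrv : r = v
    · have h1 : ∀ x ∈ X, cat t v f x ∈ TV t := by
        intro x hx
        obtain ⟨hxp, hx5, hxr, hxS⟩ := hX x hx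
        have hxv : x ≠ v := by rw [← hrv]; exact hxr
        rw [cat, if_neg hxv]
        refine h.mem_TV hxp (by omega) (Or.inl hx5) hxv hxS fun hg => hrX x hx ?_
        rw [hrv]
        exact exists_of_S hg
      refine ⟨(key h1).trans (card_TV' t), fun h3 => ⟨hrK, hrv, ?_⟩⟩
      by_contra hcon
      push Not at hcon
      have h2 := (key h1).trans (card_TV t hcon)
      omega
    · have h1 : X.card ≤ 2 := by
        refine (key (T := TA t) ?_).trans (card_TA t)
        intro x hx
        obtain ⟨hxp, hx5, hxr, hxS⟩ := hX x hx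
        exact h.mem_TA hxp hx5 (h.kcase hr hrK hrv hxp (by omega) hxr hxS (hrX x hx))
      omega
  · have hrd := hne.resolve_left hrK
    have h1 : X.card ≤ 2 := by
      refine (key (T := {rk t - 1, rk t}) ?_).trans Finset.card_le_two
      intro x hx
      obtain ⟨hxp, hx5, hxr, hxS⟩ := hX x hx
      obtain ⟨h2, h3, h4⟩ := h.dcase hr hr5 hrd hxp hxr fun hg => hrX x hx (exists_of_S hg)
      exact h.mem_TC hxp hx5 hxS h2 h3 h4
    omega

/-- the field case -/
theorem Frm.mod_one (h : Frm G K S t v f) {r : ℕ} (hr : r.Prime) (hr5 : 5 ≤ r) (hrB : r ∣ Nat.card K * S.index)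
    (hrK : ¬ r ∣ Nat.card K) (hrd : ¬ r ∣ dg t (v ^ f)) {x : ℕ} (hx : x.Prime) (hx5 : 5 ≤ x) (hxr : x ≠ r)
    (hxS : x ∣ Nat.card S) (hna : ¬ ∃ g : G, orderOf g = r * x) : x % r = 1 := by
  rcases h.bad hr hr5 hrB hx hx5 hxr hxS hna with h1 | h1 | h1 | h1
  · exact absurd h1.1 hrK
  · exact absurd h1.1 hrK
  · exact absurd h1.2.1 hrd
  · exact h1.2.2.2

end Cfsg.Agent.R2.Spec.F1
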