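import Cfsg.Agent.R2.Spec.F1.FldAbs
import Cfsg.Agent.R2.Spec.P1.Main
import Cfsg.Agent.H961.FixLin
import Cfsg.Agent.H24.FixPSp
import Cfsg.Agent.H426.LieFam

/-!
# Field automorphisms of the classical groups (helper23)

* `FldDat v r M` : a field automorphism of `M` whose order has the full `r`-part of `Out M`; its powers of order `r` fix
  elements of order `x` for all primes `x ∣ |M|`, `x = v` or `x ≥ 5`, `x ≢ 1 mod r`;
* `FldDat.adj` : the consequence for groups `A ≥ S` with `C_A(S) = 1`, `r ∣ |A/S|`.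
-/

set_option autoImplicit false
set_option linter.unusedSectionVars false

namespace Cfsg.Agent.R2.Spec.F1

open Subgroup Cfsg
open Cfsg.Agent.H426.LieFam Cfsg.Agent.H414.LieShape

universe u v

/-- the data on field automorphisms -/
def FldDat (v r : ℕ) (M : Type*) [Group M] : Prop :=
  ∃ τ : MulAut M, (∀ k : ℕ, τ ^ k ∈ Cfsg.Inn M → τ ^ k = 1) ∧
    (∀ k : ℕ, r ^ k ∣ Nat.card (Cfsg.Out M) → r ^ k ∣ orderOf τ) ∧
    ∀ k : ℕ, orderOf (τ ^ k) = r → ∀ x : ℕ, x.Prime → (x = v ∨ 5 ≤ x ∧ x % r ≠ 1) → x ∣ Nat.card M →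
      ∃ g : M, orderOf g = x ∧ (τ ^ k) g = g

theorem mulAut_finite (M : Type*) [Group M] [Finite M] : Finite (MulAut M) :=
  Finite.of_injective (fun f : M ≃* M => (f : M → M)) DFunLike.coe_injective

theorem congr_conj {M M' : Type*} [Group M] [Group M'] (e : M ≃* M') (g : M) :
    MulAut.congr e (MulAut.conj g) = MulAut.conj (e g) := by
  ext y
  change e (g * e.symm y * g⁻¹) = e g * y * (e g)⁻¹
  rw [map_mul, map_mul, map_inv, MulEquiv.apply_symm_apply]

theorem congr_mem_inn {M M' : Type*} [Group M] [Group M'] (e : M ≃* M') (τ : MulAut M) :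
    MulAut.congr e τ ∈ Cfsg.Inn M' ↔ τ ∈ Cfsg.Inn M := by
  constructor
  · rintro ⟨g, hg⟩
    refine ⟨e.symm g, (MulAut.congr e).injective ?_⟩
    rw [congr_conj, MulEquiv.apply_symm_apply]
    exact hg
  · rintro ⟨g, hg⟩
    exact ⟨e g, by rw [← congr_conj, hg]⟩

theorem card_out_congr' {M M' : Type*} [Group M] [Group M'] (e : M ≃* M') :
    Nat.card (Cfsg.Out M) = Nat.card (Cfsg.Out M') := by
  have h1 : (Cfsg.Inn M').comap (MulAut.congr e).toMonoidHom = Cfsg.Inn M := by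
    ext τ
    exact congr_mem_inn e τ
  have h2 := Subgroup.index_comap_of_surjective (Cfsg.Inn M') (f := (MulAut.congr e).toMonoidHom)
    (MulAut.congr e).surjective
  rw [h1] at h2
  exact h2

theorem FldDat.congr {v r : ℕ} {M M' : Type*} [Group M] [Group M'] (e : M ≃* M') (h : FldDat v r M) :
    FldDat v r M' := by
  obtain ⟨τ, h1, h2, h3⟩ := h
  refine ⟨MulAut.congr e τ, ?_, ?_, ?_⟩
  · intro k hk
    rw [← map_pow, congr_mem_inn] at hk
    rw [← map_pow, h1 k hk, map_one]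
  · intro k hk
    rw [← card_out_congr' e] at hk
    have h4 : orderOf (MulAut.congr e τ) = orderOf τ := MulEquiv.orderOf_eq (MulAut.congr e) τ
    rw [h4]
    exact h2 k hk
  · intro k hk x hx hxc hd
    rw [← map_pow] at hk ⊢
    have h4 : orderOf (MulAut.congr e (τ ^ k)) = orderOf (τ ^ k) := MulEquiv.orderOf_eq (MulAut.congr e) _
    rw [h4] at hk
    rw [← Nat.card_congr e.toEquiv] at hd
    obtain ⟨g, hg, hg'⟩ := h3 k hk x hx hxc hd
    refine ⟨e g, by rw [MulEquiv.orderOf_eq, hg], ?_⟩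
    change e ((τ ^ k) (e.symm (e g))) = e g
    rw [MulEquiv.symm_apply_apply, hg']

theorem FldDat.adj {A : Type u} [Group A] [Finite A] {S : Subgroup A} [S.Normal]
    (hC : centralizer (S : Set A) = ⊥) {v r : ℕ} (hr : r.Prime) (hd : r ∣ Nat.card (A ⧸ S)) (h : FldDat v r S)
    {x : ℕ} (hx : x.Prime) (hxr : r ≠ x) (hxc : x = v ∨ 5 ≤ x ∧ x % r ≠ 1) (hxS : x ∣ Nat.card S) :
    ∃ a : A, orderOf a = r * x := by
  obtain ⟨τ, h1, h2, h3⟩ := h
  have hfin := mulAut_finite S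
  have : Finite (zpowers τ) := inferInstance
  have hpow : ∀ σ : zpowers τ, ∃ k : ℕ, τ ^ k = σ := by
    rintro ⟨σ, hσ⟩
    rw [← mem_powers_iff_mem_zpowers] at hσ
    exact Submonoid.mem_powers_iff _ _ |>.1 hσ
  refine adj_of_field hC hr hd (zpowers τ).subtype ?_ ?_ hx hxr ?_
  · intro σ _ hin
    obtain ⟨k, hk⟩ := hpow σ
    have h4 : τ ^ k ∈ Cfsg.Inn S := by rw [hk]; exact hin
    exact Subtype.ext (by rw [← hk, h1 k h4]; rfl)
  · intro k hk
    rw [Nat.card_zpowers]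
    exact h2 k hk
  · intro σ hσ
    obtain ⟨k, hk⟩ := hpow σ
    obtain ⟨g, hg, hg'⟩ := h3 k (by rw [hk, Subgroup.orderOf_coe, hσ]) x hx hxc hxS
    exact ⟨g, hg, by rw [hk] at hg'; exact hg'⟩

/-! ### the order of the outer automorphism group -/

theorem card_inn {M : Type*} [Group M] [Finite M] (hZ : center M = ⊥) : Nat.card (Cfsg.Inn M) = Nat.card M := by
  have hinj : Function.Injective (MulAut.conj : M →* MulAut M) := by
    rw [injective_iff_map_eq_one]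
    intro g hg
    have h1 : g ∈ center M := by
      rw [mem_center_iff]
      intro h
      have h2 := congrArg (fun f : MulAut M => f h) hg
      change g * h * g⁻¹ = h at h2
      rw [mul_inv_eq_iff_eq_mul] at h2
      exact h2.symm
    rw [hZ, mem_bot] at h1
    exact h1
  exact Nat.card_range_of_injective hinj

theorem out_pow_dvd {M : Type*} [Group M] [Finite M] (hZ : center M = ⊥) {c f : ℕ}
    (h : Nat.card (MulAut M) ∣ c * f * Nat.card M) {r : ℕ} (hr : r.Prime) (hrc : ¬ r ∣ c) {k : ℕ}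
    (hk : r ^ k ∣ Nat.card (Cfsg.Out M)) : r ^ k ∣ f := by
  have hfin := mulAut_finite M
  have h1 : Nat.card (MulAut M) = Nat.card (Cfsg.Out M) * Nat.card (Cfsg.Inn M) :=
    Subgroup.card_eq_card_quotient_mul_card_subgroup _
  rw [h1, card_inn hZ] at h
  have h2 : Nat.card (Cfsg.Out M) ∣ c * f := Nat.dvd_of_mul_dvd_mul_right Nat.card_pos h
  exact Nat.Coprime.dvd_of_dvd_mul_left (Nat.Coprime.pow_left _ ((Nat.Prime.coprime_iff_not_dvd hr).2 hrc))
    (hk.trans h2)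

/-! ### divisibility -/

theorem pow_eq_one_of_mod {x r : ℕ} (hx : x.Prime) (hr : r.Prime) (hxr : x % r ≠ 1) {a : ZMod x} (ha : a ^ r = 1) :
    a = 1 := by
  have := Fact.mk hx
  have ha0 : a ≠ 0 := by
    rintro rfl
    rw [zero_pow hr.ne_zero] at ha
    exact zero_ne_one ha
  have h1 : orderOf a ∣ r := orderOf_dvd_of_pow_eq_one ha
  have h2 : orderOf a ∣ x - 1 := orderOf_dvd_of_pow_eq_one (ZMod.pow_card_sub_one_eq_one ha0)
  rcases (Nat.dvd_prime hr).1 h1 with h3 | h3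
  · exact orderOf_eq_one_iff.1 h3
  · exfalso
    apply hxr
    rw [h3] at h2
    have h4 := hx.one_lt
    obtain ⟨t, ht⟩ := h2
    have h5 : x = 1 + r * t := by omega
    rw [h5, Nat.add_mul_mod_self_left]
    exact Nat.mod_eq_of_lt hr.one_lt

theorem fac_dvd {x r : ℕ} (hx : x.Prime) (hr : r.Prime) (hr5 : 5 ≤ r) (hxr : x % r ≠ 1) {q : ℕ} (hq : 1 ≤ q)
    {a : Fac} (ha : a ≠ Fac.tri) (h : x ∣ a.val (q ^ r)) : x ∣ a.val q := by
  have hodd : Odd r := hr.odd_of_ne_two (by omega)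
  cases a with
  | sub i =>
    change x ∣ (q ^ r) ^ i - 1 at h
    change x ∣ q ^ i - 1
    rw [← ZMod.natCast_eq_zero_iff, Nat.cast_sub (Nat.one_le_pow _ _ (Nat.one_le_pow _ _ hq)), sub_eq_zero] at h
    rw [← ZMod.natCast_eq_zero_iff, Nat.cast_sub (Nat.one_le_pow _ _ hq), sub_eq_zero]
    push_cast at h ⊢
    rw [← pow_mul, mul_comm, pow_mul] at h
    exact pow_eq_one_of_mod hx hr hxr h
  | add i =>
    change x ∣ (q ^ r) ^ i + 1 at h
    change x ∣ q ^ i + 1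
    rw [← ZMod.natCast_eq_zero_iff] at h ⊢
    push_cast at h ⊢
    rw [← pow_mul, mul_comm, pow_mul] at h
    have h1 : (-((q : ZMod x) ^ i)) ^ r = 1 := by
      rw [hodd.neg_pow]
      linear_combination -h
    have h2 := pow_eq_one_of_mod hx hr hxr h1
    linear_combination -h2
  | tri => exact absurd rfl ha

theorem dvd_small {v f₀ r c d N c₀ d₀ N₀ : ℕ} {l : List Fac} (hv : v.Prime) (hr : r.Prime) (hr5 : 5 ≤ r)
    (hl : Fac.tri ∉ l) (h : Sh v c (f₀ * r) d N l) (h₀ : Sh v c₀ f₀ d₀ N₀ l) {x : ℕ} (hx : x.Prime)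
    (hxc : x = v ∨ 5 ≤ x ∧ x % r ≠ 1) (hd : x ∣ c) : x ∣ c₀ := by
  by_cases hxv : x = v
  · rw [hxv]
    exact h₀.chr
  · obtain ⟨h5, hxr⟩ := hxc.resolve_left hxv
    obtain ⟨a, ha, had⟩ := h.exists_fac hv hx hxv hd
    refine h₀.dvd_of_fac hx h5 ha (fac_dvd hx hr hr5 hxr (Nat.one_le_pow _ _ hv.pos) ?_ ?_)
    · rintro rfl
      exact hl ha
    · rwa [← pow_mul]

/-- the generic constructor -/
theorem fldDat_of {F : Type} [Field F] [Finite F] {M : Type u} [Group M] [Finite M] {v r : ℕ} (τ : MulAut M)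
    (ρ : F ≃+* F) (ho : ∀ k : ℕ, orderOf (τ ^ k) = orderOf (ρ ^ k)) (hin : ∀ k : ℕ, τ ^ k ∈ Cfsg.Inn M → ρ ^ k = 1)
    (hout : ∀ k : ℕ, r ^ k ∣ Nat.card (Cfsg.Out M) → r ^ k ∣ orderOf ρ)
    (hfix : ∀ k : ℕ, orderOf (ρ ^ k) = r → ∀ x : ℕ, x.Prime → (x = v ∨ 5 ≤ x ∧ x % r ≠ 1) → x ∣ Nat.card M →
      ∃ (Y : Type) (_ : Group Y), Cfsg.Agent.H967.CopSec.Sec M (τ ^ k) Y ∧ x ∣ Nat.card Y) : FldDat v r M := by
  refine ⟨τ, ?_, ?_, ?_⟩
  · intro k hk
    rw [← orderOf_eq_one_iff, ho, hin k hk, orderOf_one]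
  · intro k hk
    have h1 := ho 1
    rw [pow_one, pow_one] at h1
    rw [h1]
    exact hout k hk
  · intro k hk x hx hxc hd
    have := Fact.mk hx
    rw [ho] at hk
    obtain ⟨Y, _, hY, hxY⟩ := hfix k hk x hx hxc hd
    obtain ⟨g, hg⟩ := exists_prime_orderOf_dvd_card' (G := Cfsg.Agent.H967.CopSec.Fix (τ ^ k)) x
      (hxY.trans hY.card_dvd)
    exact ⟨g, by rw [Subgroup.orderOf_coe, hg], g.2⟩

end Cfsg.Agent.R2.Spec.F1
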