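import Cfsg.Agent.R2.Spec.F1.KAdj
import Cfsg.Prelude.Def_KGroupFacts

/-!
# Field automorphisms, abstract part (helper23)

`adj_of_field` : `S ⊴ A`, `C_A(S) = 1`, `r ∣ |A/S|`, and a group `Φ` of automorphisms of `S` whose `r`-part is that of
`Out S`; if the elements of order `r` of `Φ` fix an element of order `x` then `A` has an element of order `r x`.
-/

set_option autoImplicit false
set_option linter.unusedSectionVars false

namespace Cfsg.Agent.R2.Spec.F1

open Subgroup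

universe u v

section

variable {A : Type u} [Group A] {S : Subgroup A} [hSn : S.Normal]

/-- the action by conjugation -/
def tau (S : Subgroup A) [S.Normal] : A →* MulAut S := MulAut.conjNormal

theorem tau_apply (a : A) (s : S) : ((tau S a s : S) : A) = a * s * a⁻¹ := MulAut.conjNormal_apply a s

theorem tau_injective (hC : centralizer (S : Set A) = ⊥) : Function.Injective (tau S) := by
  rw [injective_iff_map_eq_one]
  intro a ha
  have h1 : a ∈ centralizer (S : Set A) := by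
    rw [mem_centralizer_iff]
    intro s hs
    have h2 := congrArg (fun f : MulAut S => ((f ⟨s, hs⟩ : S) : A)) ha
    simp only [MulAut.one_apply] at h2
    rw [tau_apply] at h2
    have h3 : a * s * a⁻¹ = s := h2
    rw [mul_inv_eq_iff_eq_mul] at h3
    exact h3.symm
  rw [hC, mem_bot] at h1
  exact h1

theorem tau_coe (s : S) : tau S (s : A) = MulAut.conj s := by
  ext t
  rw [tau_apply]
  rfl

theorem mem_of_tau_inn (hC : centralizer (S : Set A) = ⊥) {a : A} (h : tau S a ∈ Cfsg.Inn S) : a ∈ S := by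
  obtain ⟨s, hs⟩ := h
  have h1 : tau S a = tau S (s : A) := by rw [tau_coe]; exact hs.symm
  rw [tau_injective hC h1]
  exact s.2

theorem adj_of_field [Finite A] (hC : centralizer (S : Set A) = ⊥) {r : ℕ} (hr : r.Prime)
    (hd : r ∣ Nat.card (A ⧸ S)) {Φ : Type v} [Group Φ] [Finite Φ] (f : Φ →* MulAut S)
    (hΦ : ∀ σ : Φ, (∃ k : ℕ, σ ^ r ^ k = 1) → f σ ∈ Cfsg.Inn S → σ = 1)
    (hcard : ∀ k : ℕ, r ^ k ∣ Nat.card (Cfsg.Out S) → r ^ k ∣ Nat.card Φ) {x : ℕ} (hx : x.Prime) (hxr : r ≠ x)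
    (hfix : ∀ σ : Φ, orderOf σ = r → ∃ g : S, orderOf g = x ∧ f σ g = g) : ∃ a : A, orderOf a = r * x := by
  have := Fact.mk hr
  have hfinS : Finite (MulAut S) := inferInstance
  have hfinO : Finite (Cfsg.Out S) := inferInstance
  let ψ : MulAut S →* Cfsg.Out S := QuotientGroup.mk' _
  let R : Sylow r Φ := default
  -- injectivity on the Sylow subgroup
  have hinj : ∀ σ ∈ (R : Subgroup Φ), ψ (f σ) = 1 → σ = 1 := by
    intro σ hσ h
    obtain ⟨k, hk⟩ := R.isPGroup' ⟨σ, hσ⟩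
    exact hΦ σ ⟨k, congrArg Subtype.val hk⟩ ((QuotientGroup.eq_one_iff _).1 h)
  have hinjR : Function.Injective ((ψ.comp f).comp (R : Subgroup Φ).subtype) := by
    rw [injective_iff_map_eq_one]
    rintro ⟨σ, hσ⟩ h
    exact Subtype.ext (hinj σ hσ h)
  -- the image is a Sylow subgroup
  obtain ⟨P₀, hP₀⟩ : ∃ P₀ : Subgroup (Cfsg.Out S), P₀ = (R : Subgroup Φ).map (ψ.comp f) := ⟨_, rfl⟩
  have hP₀p : IsPGroup r P₀ := hP₀ ▸ R.isPGroup'.map _
  have hcP₀ : Nat.card P₀ = Nat.card R := by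
    have h1 : P₀ = ((ψ.comp f).comp (R : Subgroup Φ).subtype).range := by
      rw [hP₀]
      ext y
      constructor
      · rintro ⟨σ, hσ, rfl⟩
        exact ⟨⟨σ, hσ⟩, rfl⟩
      · rintro ⟨⟨σ, hσ⟩, rfl⟩
        exact ⟨σ, hσ, rfl⟩
    rw [h1]
    exact Nat.card_range_of_injective hinjR
  obtain ⟨P₁, hP₁⟩ := hP₀p.exists_le_sylow
  have hP₀₁ : P₀ = (P₁ : Subgroup (Cfsg.Out S)) := by
    obtain ⟨k, hk⟩ := IsPGroup.iff_card.1 P₁.isPGroup'
    have h1 : r ^ k ∣ Nat.card (Cfsg.Out S) := hk ▸ Subgroup.card_subgroup_dvd_card _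
    have h2 := hcard k h1
    have h3 : r ^ k ∣ Nat.card R := by
      rw [Sylow.card_eq_multiplicity]
      exact pow_dvd_pow _ ((hr.pow_dvd_iff_le_factorization Nat.card_pos.ne').1 h2)
    refine Subgroup.eq_of_le_of_card_ge hP₁ ?_
    rw [hk, hcP₀]
    exact Nat.le_of_dvd Nat.card_pos h3
  -- an element of order `r` of the outer image
  let χ : A →* Cfsg.Out S := ψ.comp (tau S)
  have hker : χ.ker = S := by
    ext a
    rw [MonoidHom.mem_ker]
    constructor
    · intro h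
      exact mem_of_tau_inn hC ((QuotientGroup.eq_one_iff _).1 h)
    · intro h
      refine (QuotientGroup.eq_one_iff _).2 ⟨⟨a, h⟩, ?_⟩
      exact (tau_coe (⟨a, h⟩ : S)).symm
  have hdr : r ∣ Nat.card χ.range := by
    rw [← Nat.card_congr (QuotientGroup.quotientKerEquivRange χ).toEquiv, hker]
    exact hd
  obtain ⟨a, ha⟩ : ∃ a : A, orderOf (χ a) = r := by
    obtain ⟨y, hy⟩ := exists_prime_orderOf_dvd_card' r hdr
    obtain ⟨a, hay⟩ := MonoidHom.mem_range.1 y.2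
    exact ⟨a, by rw [hay, Subgroup.orderOf_coe, hy]⟩
  have hz : IsPGroup r (zpowers (χ a)) := IsPGroup.of_card (n := 1) (by rw [Nat.card_zpowers, ha, pow_one])
  obtain ⟨P₂, hP₂⟩ := hz.exists_le_sylow
  obtain ⟨c, hc⟩ := MulAction.exists_smul_eq (Cfsg.Out S) P₂ P₁
  have hac : c * χ a * c⁻¹ ∈ P₀ := by
    rw [hP₀₁, ← hc]
    exact ⟨χ a, hP₂ (mem_zpowers _), rfl⟩
  rw [hP₀] at hac
  obtain ⟨σ, hσR, hσ⟩ := hac
  have hσ' : ψ (f σ) = c * χ a * c⁻¹ := hσ
  have hoσ : orderOf σ = r := by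
    have h1 : orderOf (ψ (f σ)) = r := by
      rw [hσ']
      have : c * χ a * c⁻¹ = MulAut.conj c (χ a) := rfl
      rw [this, MulEquiv.orderOf_eq, ha]
    have h2 : orderOf (((ψ.comp f).comp (R : Subgroup Φ).subtype) ⟨σ, hσR⟩) = orderOf (⟨σ, hσR⟩ : R) :=
      orderOf_injective _ hinjR _
    rw [Subgroup.orderOf_mk] at h2
    rw [← h2]
    exact h1
  obtain ⟨c', rfl⟩ := QuotientGroup.mk'_surjective _ c
  -- the conjugate lies in `A`
  have h1 : ψ (c'⁻¹ * f σ * c') = ψ (tau S a) := by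
    rw [map_mul, map_mul, map_inv, hσ']
    change (ψ c')⁻¹ * (ψ c' * ψ (tau S a) * (ψ c')⁻¹) * ψ c' = _
    group
  have h2 : (tau S a)⁻¹ * (c'⁻¹ * f σ * c') ∈ Cfsg.Inn S := by
    rw [← QuotientGroup.eq_one_iff]
    change ψ ((tau S a)⁻¹ * (c'⁻¹ * f σ * c')) = 1
    rw [map_mul, map_inv, h1, inv_mul_cancel]
  obtain ⟨s, hs⟩ := h2
  have h3 : tau S (a * s) = c'⁻¹ * f σ * c' := by
    rw [map_mul, tau_coe]
    have h4 : MulAut.conj s = (tau S a)⁻¹ * (c'⁻¹ * f σ * c') := hs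
    rw [h4, mul_inv_cancel_left]
  obtain ⟨b, hb⟩ : ∃ b : A, b = a * s := ⟨_, rfl⟩
  rw [← hb] at h3
  have hfσ : orderOf (f σ) = r := by
    apply orderOf_eq_prime
    · rw [← map_pow, ← hoσ, pow_orderOf_eq_one, map_one]
    · intro h
      have h5 := hinj σ hσR (by rw [h, map_one])
      rw [h5, orderOf_one] at hoσ
      exact hr.one_lt.ne hoσ
  have hob : orderOf b = r := by
    rw [← orderOf_injective (tau S) (tau_injective hC), h3]
    have : c'⁻¹ * f σ * c' = MulAut.conj c'⁻¹ (f σ) := by rw [MulAut.conj_apply, inv_inv]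
    rw [this, MulEquiv.orderOf_eq, hfσ]
  obtain ⟨g, hg, hfg⟩ := hfix σ hoσ
  have hcomm : Commute b ((c'⁻¹ g : S) : A) := by
    have h5 : tau S b (c'⁻¹ g) = c'⁻¹ g := by
      rw [h3]
      change c'⁻¹ (f σ (c' (c'⁻¹ g))) = c'⁻¹ g
      rw [MulAut.apply_inv_self, hfg]
    have h6 := congrArg Subtype.val h5
    rw [tau_apply] at h6
    exact mul_inv_eq_iff_eq_mul.1 h6
  have hog : orderOf ((c'⁻¹ g : S) : A) = x := by
    rw [Subgroup.orderOf_coe]
    exact (MulEquiv.orderOf_eq (c'⁻¹ : MulAut S) g).trans hg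
  refine ⟨b * ((c'⁻¹ g : S) : A), ?_⟩
  rw [hcomm.orderOf_mul_eq_mul_orderOf_of_coprime, hob, hog]
  rw [hob, hog]
  exact (Nat.coprime_primes hr hx).2 hxr

end

end Cfsg.Agent.R2.Spec.F1
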