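import Mathlib

/-!
# A regular orbit of characters (helper23)

`norm_ne_zero` : an abelian group `Q` of order prime to the characteristic acts on `V`, `X` normalizes the action, all
characters of `Q` not trivial at `a₀` have regular orbits of length `m` under `X`: then `1 + X + ... + X ^ (m - 1) ≠ 0`.
-/

set_option autoImplicit false
set_option linter.unusedSectionVars false

namespace Cfsg.Agent.R2.Spec.F1

universe u v

section closed

variable {k : Type u} [Field k] [IsAlgClosed k] {V : Type v} [AddCommGroup V] [Module k V] [FiniteDimensional k V]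
  {Q : Type*} [Group Q] (ρ : Q →* Module.End k V)

/-- a common eigenvector in an invariant subspace -/
theorem exists_common (hcomm : ∀ a b : Q, a * b = b * a) (W : Submodule k V) (hW : W ≠ ⊥)
    (hinv : ∀ g : Q, ∀ x ∈ W, ρ g x ∈ W) : ∃ (u : V) (χ : Q →* k), u ∈ W ∧ u ≠ 0 ∧ ∀ g : Q, ρ g u = χ g • u := by
  classical
  -- a minimal invariant subspace
  obtain ⟨W₀, ⟨hW₀, hW₀i, hW₀W⟩, hmin⟩ : ∃ W₀ : Submodule k V, (W₀ ≠ ⊥ ∧ (∀ g : Q, ∀ x ∈ W₀, ρ g x ∈ W₀) ∧ W₀ ≤ W) ∧
      ∀ W' : Submodule k V, (W' ≠ ⊥ ∧ (∀ g : Q, ∀ x ∈ W', ρ g x ∈ W') ∧ W' ≤ W) →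
        Module.finrank k W₀ ≤ Module.finrank k W' := by
    obtain ⟨W₀, h1, h2⟩ := WellFounded.has_min (InvImage.wf (fun W' : Submodule k V => Module.finrank k W') wellFounded_lt)
      {W' : Submodule k V | W' ≠ ⊥ ∧ (∀ g : Q, ∀ x ∈ W', ρ g x ∈ W') ∧ W' ≤ W} ⟨W, hW, hinv, le_rfl⟩
    exact ⟨W₀, h1, fun W' hW' => not_lt.1 (h2 W' hW')⟩
  -- every element acts as a scalar
  have hscal : ∀ g : Q, ∃ c : k, ∀ x ∈ W₀, ρ g x = c • x := by
    intro g
    have hnt : Nontrivial W₀ := Submodule.nontrivial_iff_ne_bot.2 hW₀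
    let A : Module.End k W₀ := (ρ g).restrict (hW₀i g)
    obtain ⟨c, hc⟩ := Module.End.exists_eigenvalue A
    obtain ⟨x, hx⟩ := hc.exists_hasEigenvector
    refine ⟨c, ?_⟩
    have h1 := hmin (W₀ ⊓ LinearMap.ker (ρ g - c • LinearMap.id)) ⟨?_, ?_, ?_⟩
    · have h2 : W₀ ⊓ LinearMap.ker (ρ g - c • LinearMap.id) = W₀ :=
        Submodule.eq_of_le_of_finrank_le inf_le_left h1
      intro y hy
      rw [← h2] at hy
      have h3 := (Submodule.mem_inf.1 hy).2
      rw [LinearMap.mem_ker, LinearMap.sub_apply, LinearMap.smul_apply, LinearMap.id_apply, sub_eq_zero] at h3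
      exact h3
    · intro hbot
      have h2 : (x : V) ∈ W₀ ⊓ LinearMap.ker (ρ g - c • LinearMap.id) := by
        refine ⟨x.2, ?_⟩
        rw [SetLike.mem_coe, LinearMap.mem_ker, LinearMap.sub_apply, LinearMap.smul_apply, LinearMap.id_apply, sub_eq_zero]
        exact congrArg Subtype.val hx.apply_eq_smul
      rw [hbot, Submodule.mem_bot] at h2
      exact hx.2 (Subtype.ext h2)
    · rintro h y ⟨hy1, hy2⟩
      refine ⟨hW₀i h y hy1, ?_⟩
      rw [SetLike.mem_coe, LinearMap.mem_ker, LinearMap.sub_apply, LinearMap.smul_apply, LinearMap.id_apply, sub_eq_zero]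
        at hy2 ⊢
      have h2 : ρ g (ρ h y) = ρ h (ρ g y) := by
        rw [← Module.End.mul_apply, ← Module.End.mul_apply, ← map_mul, ← map_mul, hcomm]
      rw [h2, hy2, map_smul]
    · exact inf_le_left.trans hW₀W
  choose c hc using hscal
  obtain ⟨u, hu, hu0⟩ := Submodule.exists_mem_ne_zero_of_ne_bot hW₀
  refine ⟨u, { toFun := c, map_one' := ?_, map_mul' := ?_ }, hW₀W hu, hu0, fun g => hc g u hu⟩
  · have h1 := hc 1 u hu
    rw [map_one, Module.End.one_apply] at h1
    have h2 : (c 1 - 1) • u = 0 := by rw [sub_smul, one_smul, ← h1, sub_self]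
    rcases smul_eq_zero.1 h2 with h3 | h3
    · exact sub_eq_zero.1 h3
    · exact absurd h3 hu0
  · intro a b
    have h1 := hc (a * b) u hu
    rw [map_mul, Module.End.mul_apply, hc b u hu, map_smul, hc a u hu, smul_smul] at h1
    have h2 : (c (a * b) - c a * c b) • u = 0 := by rw [sub_smul, ← h1, mul_comm (c a), sub_self]
    rcases smul_eq_zero.1 h2 with h3 | h3
    · exact sub_eq_zero.1 h3
    · exact absurd h3 hu0

/-- **The regular orbit.** -/
theorem norm_ne_zero_closed [Finite Q] (hcomm : ∀ a b : Q, a * b = b * a) (hchar : ((Nat.card Q : ℕ) : k) ≠ 0) (X : Module.End k V)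
    (hX : Function.Injective X) (σ : MulAut Q) (hσ : ∀ g : Q, X * ρ g = ρ (σ g) * X) {a₀ : Q} (ha₀ : ρ a₀ ≠ 1) {m : ℕ}
    (hm : ∀ χ : Q →* k, χ a₀ ≠ 1 → ∀ i : ℕ, 0 < i → i < m → ∃ a : Q, χ ((σ ^ i) a) ≠ χ a) (hm0 : 0 < m) :
    ∑ i ∈ Finset.range m, X ^ i ≠ 0 := by
  classical
  -- the kernel of the norm of `a₀`
  obtain ⟨n, hn⟩ : ∃ n, n = Nat.card Q := ⟨_, rfl⟩
  obtain ⟨B, hB⟩ : ∃ B : Module.End k V, B = ∑ i ∈ Finset.range n, (ρ a₀) ^ i := ⟨_, rfl⟩
  have hBa : B * (ρ a₀ - 1) = 0 := by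
    rw [hB, geom_sum_mul, ← map_pow, hn, pow_card_eq_one', map_one, sub_self]
  have hker : LinearMap.ker B ≠ ⊥ := by
    intro h
    apply ha₀
    rw [← sub_eq_zero]
    apply LinearMap.ext
    intro x
    have h1 : B ((ρ a₀ - 1) x) = 0 := by rw [← Module.End.mul_apply, hBa, LinearMap.zero_apply]
    rw [LinearMap.zero_apply]
    exact (LinearMap.ker_eq_bot'.1 h) _ h1
  obtain ⟨u, χ, huW, hu0, hχ⟩ := exists_common ρ hcomm (LinearMap.ker B) hker (by
    intro g x hx
    rw [LinearMap.mem_ker] at hx ⊢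
    have h1 : B * ρ g = ρ g * B := by
      rw [hB, Finset.sum_mul, Finset.mul_sum]
      refine Finset.sum_congr rfl fun i _ => ?_
      rw [← map_pow, ← map_mul, ← map_mul, hcomm]
    rw [← Module.End.mul_apply, h1, Module.End.mul_apply, hx, map_zero])
  have hχ0 : χ a₀ ≠ 1 := by
    intro h
    have hfix : ∀ i : ℕ, ((ρ a₀) ^ i) u = u := by
      intro i
      induction i with
      | zero => rw [pow_zero, Module.End.one_apply]
      | succ i ih => rw [pow_succ', Module.End.mul_apply, ih, hχ, h, one_smul]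
    rw [LinearMap.mem_ker, hB, LinearMap.sum_apply] at huW
    simp only [hfix] at huW
    rw [Finset.sum_const, Finset.card_range, ← Nat.cast_smul_eq_nsmul k] at huW
    rcases smul_eq_zero.1 huW with h1 | h1
    · rw [hn] at h1
      exact hchar h1
    · exact hu0 h1
  -- the characters of the powers
  have hinv : ∀ g : Q, σ (σ⁻¹ g) = g := fun g => by
    rw [← MulAut.mul_apply, mul_inv_cancel, MulAut.one_apply]
  have hXi : ∀ (i : ℕ) (g : Q), ρ g ((X ^ i) u) = χ ((σ⁻¹ ^ i) g) • (X ^ i) u := by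
    intro i
    induction i with
    | zero =>
      intro g
      rw [pow_zero, Module.End.one_apply, pow_zero, MulAut.one_apply]
      exact hχ g
    | succ i ih =>
      intro g
      have h0 : (X ^ (i + 1)) u = X ((X ^ i) u) := by rw [pow_succ', Module.End.mul_apply]
      have h1 : ρ g ((X ^ (i + 1)) u) = X (ρ (σ⁻¹ g) ((X ^ i) u)) := by
        have e := LinearMap.congr_fun (hσ (σ⁻¹ g)) ((X ^ i) u)
        rw [hinv, Module.End.mul_apply, Module.End.mul_apply] at e
        rw [h0]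
        exact e.symm
      have h2 : (σ⁻¹ ^ (i + 1)) g = (σ⁻¹ ^ i) (σ⁻¹ g) := by rw [pow_succ, MulAut.mul_apply]
      rw [h1, ih, map_smul, h2, ← h0]
  let χi : Fin m → (Q →* k) := fun i => χ.comp ((σ⁻¹ ^ (i : ℕ) : MulAut Q).toMonoidHom)
  have key : ∀ i j : ℕ, i < j → j < m → χ.comp ((σ⁻¹ ^ i : MulAut Q).toMonoidHom) ≠
      χ.comp ((σ⁻¹ ^ j : MulAut Q).toMonoidHom) := by
    intro i j hij hj heq
    obtain ⟨a, ha⟩ := hm χ hχ0 (j - i) (by omega) (by omega)
    apply ha
    have h1 := DFunLike.congr_fun heq ((σ ^ j) a)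
    change χ ((σ⁻¹ ^ i) ((σ ^ j) a)) = χ ((σ⁻¹ ^ j) ((σ ^ j) a)) at h1
    have h2 : (σ⁻¹ ^ i) ((σ ^ j) a) = (σ ^ (j - i)) a := by
      rw [← MulAut.mul_apply]
      congr 1
      have h3 : σ ^ j = σ ^ i * σ ^ (j - i) := by rw [← pow_add]; congr 1; omega
      rw [h3, ← mul_assoc, inv_pow, inv_mul_cancel, one_mul]
    have h3 : (σ⁻¹ ^ j) ((σ ^ j) a) = a := by
      rw [← MulAut.mul_apply, inv_pow, inv_mul_cancel, MulAut.one_apply]
    rw [h2, h3] at h1
    exact h1
  have hinj : Function.Injective χi := by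
    intro i j hij
    by_contra hne
    have hne' : (i : ℕ) ≠ j := fun h => hne (Fin.ext h)
    rcases Nat.lt_or_gt_of_ne hne' with h | h
    · exact key _ _ h j.2 hij
    · exact key _ _ h i.2 hij.symm
  have hli := (linearIndependent_monoidHom Q k).comp χi hinj
  intro hsum
  apply hu0
  rw [← Module.forall_dual_apply_eq_zero_iff k]
  intro φ
  have h1 := Fintype.linearIndependent_iff.1 hli (fun i => φ ((X ^ (i : ℕ)) u)) (by
    funext g
    rw [Finset.sum_apply, Pi.zero_apply]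
    have h2 : φ (ρ g ((∑ i ∈ Finset.range m, X ^ i) u)) = 0 := by
      rw [hsum, LinearMap.zero_apply, map_zero, map_zero]
    rw [LinearMap.sum_apply, map_sum, map_sum, Finset.sum_range] at h2
    rw [← h2]
    refine Finset.sum_congr rfl fun i _ => ?_
    rw [hXi, map_smul]
    change φ ((X ^ (i : ℕ)) u) • χ ((σ⁻¹ ^ (i : ℕ)) g) = χ ((σ⁻¹ ^ (i : ℕ)) g) • φ ((X ^ (i : ℕ)) u)
    rw [smul_eq_mul, smul_eq_mul, mul_comm]) ⟨0, hm0⟩
  simpa using h1

end closed

/-- **The regular orbit, any field.** -/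
theorem norm_ne_zero {F : Type u} [Field F] {V : Type v} [AddCommGroup V] [Module F V] [FiniteDimensional F V]
    {Q : Type*} [Group Q] [Finite Q] (ρ : Q →* Module.End F V) (hcomm : ∀ a b : Q, a * b = b * a)
    (hchar : ((Nat.card Q : ℕ) : F) ≠ 0) (X : Module.End F V)
    (hX : Function.Injective X) (σ : MulAut Q) (hσ : ∀ g : Q, X * ρ g = ρ (σ g) * X) {a₀ : Q} (ha₀ : ρ a₀ ≠ 1) {m : ℕ}
    (hm : ∀ (k : Type u) [Field k], ∀ χ : Q →* k, χ a₀ ≠ 1 → ∀ i : ℕ, 0 < i → i < m → ∃ a : Q, χ ((σ ^ i) a) ≠ χ a)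
    (hm0 : 0 < m) : ∃ u : V, ∑ i ∈ Finset.range m, (X ^ i) u ≠ 0 := by
  let k := AlgebraicClosure F
  let φ : Module.End F V →ₐ[F] Module.End k (TensorProduct F k V) := Module.End.baseChangeHom F k V
  have hφ : Function.Injective φ := LinearMap.baseChangeHom_injective F V k
  have hu : IsUnit X := (Module.End.isUnit_iff X).2
    ⟨hX, LinearMap.injective_iff_surjective.1 hX⟩
  have hXu : IsUnit (φ X) := hu.map φ
  have h1 := norm_ne_zero_closed ((φ : Module.End F V →* Module.End k (TensorProduct F k V)).comp ρ) hcomm (by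
    intro h
    apply hchar
    have h2 : algebraMap F k ((Nat.card Q : ℕ) : F) = 0 := by rw [map_natCast]; exact h
    rwa [map_eq_zero] at h2) (φ X) ((Module.End.isUnit_iff _).1 hXu).1 σ (by
    intro g
    change φ X * φ (ρ g) = φ (ρ (σ g)) * φ X
    rw [← map_mul, hσ, map_mul]) (a₀ := a₀) (by
    intro h
    apply ha₀
    apply hφ
    rw [map_one]
    exact h) (hm k) hm0
  by_contra hcon
  push Not at hcon
  apply h1
  rw [← map_zero φ, ← (show ∑ i ∈ Finset.range m, X ^ i = 0 from by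
    apply LinearMap.ext
    intro u
    rw [LinearMap.sum_apply, hcon u, LinearMap.zero_apply]), map_sum]
  exact Finset.sum_congr rfl fun i _ => (map_pow φ X i).symm

end Cfsg.Agent.R2.Spec.F1
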