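import Cfsg.Agent.R2.Spec.F1.Shult
import Cfsg.Agent.H425.KShult
import Cfsg.Agent.H228.MovAdj2

/-!
# Primes of the nilpotent radical (helper23)

* `exists_order` : `K` nilpotent normal in `G`, `S` simple normal in `G / K`, `s ∣ |K|`, `c ∈ S` of odd prime order `w`
  acting non-trivially on a `v`-subgroup `Q` of `S`, `v ≠ s`: `G` has an element of order `w s`. For `v = 2` and a
  Fermat prime `w` the group `Q` has to be abelian.
* `MovW S v w` : the corresponding property of `S`; `kadj`.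
-/

set_option autoImplicit false
set_option linter.unusedSectionVars false

namespace Cfsg.Agent.R2.Spec.F1

open Subgroup
open Cfsg.Agent.H228.GoodK (om om_ne_bot order_mul)

universe u

/-- Sylow subgroups for different primes of a nilpotent group commute -/
theorem comm_of_nilpotent' {K : Type*} [Group K] [Finite K] (hK : Group.IsNilpotent K) {p r : ℕ} (hp : p.Prime)
    (hr : r.Prime) (hpr : p ≠ r) {a b : K} (ha : ∃ i, a ^ p ^ i = 1) (hb : ∃ i, b ^ r ^ i = 1) : a * b = b * a := by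
  have := Fact.mk hp
  have := Fact.mk hr
  have hn : ∀ (q : ℕ) (_ : Fact q.Prime) (P : Sylow q K), (P : Subgroup K).Normal := by
    intro q hq P
    have h0 := ((Group.isNilpotent_of_finite_tfae (G := K)).out 0 3).1 hK
    exact @h0 q hq P
  have key : ∀ (q : ℕ) (hq : q.Prime) (P : Sylow q K) (c : K), (∃ i, c ^ q ^ i = 1) → c ∈ (P : Subgroup K) := by
    intro q hq P c hc
    have := Fact.mk hq
    have hcp : IsPGroup q (zpowers c) := by
      obtain ⟨i, hi⟩ := hc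
      obtain ⟨j, -, hj⟩ := (Nat.dvd_prime_pow hq).1 (orderOf_dvd_of_pow_eq_one hi)
      exact IsPGroup.of_card (n := j) (by rw [Nat.card_zpowers, hj])
    obtain ⟨Q, hQ⟩ := hcp.exists_le_sylow
    have h1 := hn q this P
    have h2 : P = Q := by
      obtain ⟨g, hg⟩ := MulAction.exists_smul_eq K P Q
      rw [← hg]
      exact (Sylow.smul_eq_of_normal).symm
    rw [h2]
    exact hQ (mem_zpowers c)
  obtain ⟨P⟩ : Nonempty (Sylow p K) := inferInstance
  obtain ⟨R⟩ : Nonempty (Sylow r K) := inferInstance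
  have h1 := hn p inferInstance P
  have h2 := hn r inferInstance R
  have h3 : Disjoint (P : Subgroup K) (R : Subgroup K) := IsPGroup.disjoint_of_ne p r hpr _ _ P.isPGroup' R.isPGroup'
  exact Subgroup.commute_of_normal_of_disjoint _ _ h1 h2 h3 a b (key p hp P a ha) (key r hr R b hb)

theorem comm_of_nilpotent {G : Type*} [Group G] [Finite G] {K : Subgroup G} (hK : Group.IsNilpotent K) {p r : ℕ}
    (hpr : p ≠ r) {P R : Subgroup G} (hP : IsPGroup p P) (hR : IsPGroup r R) [Fact p.Prime] [Fact r.Prime]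
    {a b : G} (ha : a ∈ P) (haK : a ∈ K) (hb : b ∈ R) (hbK : b ∈ K) : a * b = b * a := by
  have hp : p.Prime := Fact.out
  have hr : r.Prime := Fact.out
  have h := comm_of_nilpotent' hK hp hr hpr (a := ⟨a, haK⟩) (b := ⟨b, hbK⟩)
    (by
      obtain ⟨i, hi⟩ := hP ⟨a, ha⟩
      have h1 : a ^ p ^ i = 1 := congrArg Subtype.val hi
      exact ⟨i, Subtype.ext h1⟩)
    (by
      obtain ⟨i, hi⟩ := hR ⟨b, hb⟩
      have h1 : b ^ r ^ i = 1 := congrArg Subtype.val hi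
      exact ⟨i, Subtype.ext h1⟩)
  exact congrArg Subtype.val h

/-- **The kernel lemma.** -/
theorem exists_order_aux {G : Type u} [Group G] [Finite G] {K : Subgroup G} [K.Normal] (hKn : Group.IsNilpotent K)
    {S : Subgroup (G ⧸ K)}
    [hSn : S.Normal] (hS : IsSimpleGroup S) {r w v : ℕ} (hr : r.Prime) (hw : w.Prime) (hv : v.Prime) (hw2 : w ≠ 2)
    (hvw : v ≠ w) (hvr : v ≠ r) (hwr : w ≠ r) (hrK : r ∣ Nat.card K) (hwK : ¬ w ∣ Nat.card K)
    (hwS : w ∣ Nat.card S) {Q : Subgroup (G ⧸ K)} (hQS : Q ≤ S) (hQ : IsPGroup v Q) {c : G ⧸ K} (hc : c ^ w = 1)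
    (hcQ : ∀ y ∈ Q, c * y * c⁻¹ ∈ Q) (hnc : ∃ y ∈ Q, c * y ≠ y * c)
    (hv2 : v ≠ 2 ∨ (∀ k : ℕ, w ≠ 2 ^ k + 1) ∨ ∀ a ∈ Q, ∀ b ∈ Q, a * b = b * a) : ∃ x : G, orderOf x = w * r := by
  classical
  have := Fact.mk hr
  have := Fact.mk hw
  have := Fact.mk hv
  set π : G →* G ⧸ K := QuotientGroup.mk' K with hπ
  have hπs : Function.Surjective π := QuotientGroup.mk'_surjective K
  have hπk : ∀ x : G, π x = 1 ↔ x ∈ K := fun x => QuotientGroup.eq_one_iff x
  -- the Sylow subgroup of `K` and its normalizer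
  obtain ⟨R₀⟩ : Nonempty (Sylow r K) := inferInstance
  set R : Subgroup G := (R₀ : Subgroup K).map K.subtype with hRdef
  set N : Subgroup G := normalizer (R : Set G) with hNdef
  have hNK : N ⊔ K = ⊤ := Sylow.normalizer_sup_eq_top R₀
  have hRp : IsPGroup r R := R₀.isPGroup'.map _
  have hR1 : R ≠ ⊥ := by
    intro h
    have h1 : (R₀ : Subgroup K) = ⊥ := by
      rw [hRdef, Subgroup.map_eq_bot_iff_of_injective _ K.subtype_injective] at h
      exact h
    have h2 := Sylow.card_eq_multiplicity R₀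
    rw [h1, Subgroup.card_bot] at h2
    have h3 : 1 ≤ (Nat.card K).factorization r := by
      exact (hr.dvd_iff_one_le_factorization Nat.card_pos.ne').1 hrK
    have h4 : r ∣ 1 := by
      rw [h2]
      exact dvd_pow_self _ (by omega)
    exact hr.one_lt.ne' (Nat.dvd_one.1 h4)
  have hNs : ∀ g : G ⧸ K, ∃ n ∈ N, π n = g := by
    intro g
    obtain ⟨x, rfl⟩ := hπs g
    have hx : x ∈ N ⊔ K := hNK ▸ mem_top x
    obtain ⟨n, hn, k, hk, rfl⟩ := Subgroup.mem_sup_of_normal_right.1 hx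
    refine ⟨n, hn, ?_⟩
    rw [map_mul, (hπk k).2 hk, mul_one]
  have hNR : ∀ n ∈ N, ∀ x ∈ R, n * x * n⁻¹ ∈ R := fun n hn x hx => (mem_normalizer_iff.1 hn x).1 hx
  have hNR' : ∀ n ∈ N, ∀ x ∈ R, n⁻¹ * x * n ∈ R := fun n hn x hx => by
    have := hNR n⁻¹ (N.inv_mem hn) x hx
    rwa [inv_inv] at this
  obtain ⟨u₀, hu₀, hu₁⟩ := om_ne_bot hr hRp hR1
  have hUN : ∀ n ∈ N, ∀ u ∈ om r R, n * u * n⁻¹ ∈ om r R := by
    rintro n hn u ⟨hu1, hu2, hu3⟩
    refine ⟨hNR n hn u hu1, fun x hx => ?_, ?_⟩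
    · have h1 := hu2 _ (hNR' n hn x hx)
      calc n * u * n⁻¹ * x = n * (u * (n⁻¹ * x * n)) * n⁻¹ := by group
        _ = n * ((n⁻¹ * x * n) * u) * n⁻¹ := by rw [h1]
        _ = x * (n * u * n⁻¹) := by group
    · rw [conj_pow, hu3, mul_one, mul_inv_cancel]
  -- the preimage of `Q` in `N`
  set M : Subgroup G := N ⊓ Q.comap π with hM
  have hcQ' : ∀ y ∈ Q, c⁻¹ * y * c ∈ Q := by
    intro y hy
    have h1 : (Q.map (MulAut.conj c).toMonoidHom : Subgroup (G ⧸ K)) = Q := by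
      refine Subgroup.eq_of_le_of_card_ge ?_ ?_
      · rintro _ ⟨u, hu, rfl⟩
        exact hcQ u hu
      · rw [Subgroup.card_map_of_injective (MulAut.conj c).injective]
    rw [← h1] at hy
    obtain ⟨t, ht, rfl⟩ := hy
    have h2 : c⁻¹ * ((MulAut.conj c).toMonoidHom t) * c = t := by
      change c⁻¹ * (c * t * c⁻¹) * c = t
      group
    rw [h2]
    exact ht
  obtain ⟨x, hxN, hxc⟩ := hNs c
  have hxM : ∀ m ∈ M, x * m * x⁻¹ ∈ M := by
    rintro m ⟨hm1, hm2⟩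
    refine ⟨N.mul_mem (N.mul_mem hxN hm1) (N.inv_mem hxN), ?_⟩
    change π (x * m * x⁻¹) ∈ Q
    rw [map_mul, map_mul, map_inv, hxc]
    exact hcQ _ hm2
  have hxM' : ∀ m ∈ M, x⁻¹ * m * x ∈ M := by
    rintro m ⟨hm1, hm2⟩
    refine ⟨N.mul_mem (N.mul_mem (N.inv_mem hxN) hm1) hxN, ?_⟩
    change π (x⁻¹ * m * x) ∈ Q
    rw [map_mul, map_mul, map_inv, hxc]
    exact hcQ' _ hm2
  let σ : MulAut M :=
    { toFun := fun m => ⟨x * m * x⁻¹, hxM m m.2⟩
      invFun := fun m => ⟨x⁻¹ * m * x, hxM' m m.2⟩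
      left_inv := fun m => Subtype.ext (by change x⁻¹ * (x * (m : G) * x⁻¹) * x = m; group)
      right_inv := fun m => Subtype.ext (by change x * (x⁻¹ * (m : G) * x) * x⁻¹ = m; group)
      map_mul' := fun a b => Subtype.ext (by
        change x * ((a : G) * b) * x⁻¹ = (x * a * x⁻¹) * (x * b * x⁻¹); group) }
  obtain ⟨P₁⟩ : Nonempty (Sylow v M) := inferInstance
  obtain ⟨m, hm⟩ := MulAction.exists_smul_eq M (σ • P₁) P₁
  set P : Subgroup G := (P₁ : Subgroup M).map M.subtype with hP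
  have hPp : IsPGroup v P := P₁.isPGroup'.map _
  have hPM : P ≤ M := Subgroup.map_subtype_le _
  -- `m x` normalizes `P`
  have hmx : ∀ p ∈ P, ((m : G) * x) * p * ((m : G) * x)⁻¹ ∈ P := by
    rintro _ ⟨p, hp, rfl⟩
    have h1 : σ p ∈ (σ • P₁ : Sylow v M) := ⟨p, hp, rfl⟩
    have h2 : MulAut.conj m (σ p) ∈ (m • (σ • P₁) : Sylow v M) := ⟨σ p, h1, rfl⟩
    rw [hm] at h2
    refine ⟨_, h2, ?_⟩
    change (m : G) * (x * (p : G) * x⁻¹) * (m : G)⁻¹ = (m : G) * x * p * ((m : G) * x)⁻¹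
    group
  -- `P` covers `Q`
  have hPQ : ∀ g ∈ Q, ∃ p ∈ P, π p = g := by
    intro g hg
    let πM : M →* Q := (π.comp M.subtype).codRestrict Q (fun m => m.2.2)
    have hsur : Function.Surjective πM := by
      rintro ⟨g, hg⟩
      obtain ⟨n, hn, hn'⟩ := hNs g
      exact ⟨⟨n, hn, by change π n ∈ Q; rw [hn']; exact hg⟩, Subtype.ext hn'⟩
    have h1 : ((P₁.mapSurjective hsur : Sylow v Q) : Subgroup Q) = ⊤ := by
      have h3 : IsPGroup v (⊤ : Subgroup Q) := IsPGroup.of_equiv hQ Subgroup.topEquiv.symm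
      exact (P₁.mapSurjective hsur).is_maximal' h3 le_top |>.symm
    have h2 : (⟨g, hg⟩ : Q) ∈ ((P₁.mapSurjective hsur : Sylow v Q) : Subgroup Q) := h1 ▸ mem_top _
    obtain ⟨p, hp, hp'⟩ := h2
    exact ⟨p, ⟨p, hp, rfl⟩, congrArg Subtype.val hp'⟩
  have hmQ : π m ∈ Q := m.2.2
  obtain ⟨p₁, hp₁, hp₁'⟩ := hPQ _ hmQ
  -- the corrected element
  obtain ⟨x₂, hx₂⟩ : ∃ x₂ : G, x₂ = p₁⁻¹ * ((m : G) * x) := ⟨_, rfl⟩
  have hx₂N : x₂ ∈ N := by
    rw [hx₂]
    exact N.mul_mem (N.inv_mem (hPM hp₁).1) (N.mul_mem m.2.1 hxN)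
  have hx₂c : π x₂ = c := by
    rw [hx₂, map_mul, map_inv, hp₁', map_mul, hxc]
    group
  have hx₂P : ∀ p ∈ P, x₂ * p * x₂⁻¹ ∈ P := by
    intro p hp
    rw [hx₂]
    have h1 : p₁⁻¹ * ((m : G) * x) * p * (p₁⁻¹ * ((m : G) * x))⁻¹ = p₁⁻¹ * (((m : G) * x) * p * ((m : G) * x)⁻¹) * p₁ := by
      group
    rw [h1]
    exact P.mul_mem (P.mul_mem (P.inv_mem hp₁) (hmx p hp)) hp₁
  -- the element of order `w`
  obtain ⟨y, hyN, hyc, hyP, hyw⟩ : ∃ y ∈ N, π y = c ∧ (∀ p ∈ P, y * p * y⁻¹ ∈ P) ∧ y ^ w = 1 := by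
    have h1 : x₂ ^ w ∈ K := by
      rw [← hπk, map_pow, hx₂c, hc]
    have h2 : orderOf (x₂ ^ w) ∣ Nat.card K := by
      have := orderOf_dvd_natCard (⟨x₂ ^ w, h1⟩ : K)
      rwa [Subgroup.orderOf_mk] at this
    have h3 : Nat.Coprime (orderOf (x₂ ^ w)) w :=
      ((Nat.Prime.coprime_iff_not_dvd hw).2 fun h => hwK (h.trans h2)).symm
    obtain ⟨b, hb⟩ := Nat.exists_mul_mod_eq_one_of_coprime h3 hw.one_lt
    have hpow : ∀ k : ℕ, ∀ p ∈ P, x₂ ^ k * p * (x₂ ^ k)⁻¹ ∈ P := by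
      intro k
      induction k with
      | zero => intro p hp; simpa using hp
      | succ k ih =>
        intro p hp
        have h4 := hx₂P _ (ih p hp)
        have h5 : x₂ ^ (k + 1) * p * (x₂ ^ (k + 1))⁻¹ = x₂ * (x₂ ^ k * p * (x₂ ^ k)⁻¹) * x₂⁻¹ := by
          rw [pow_succ']
          group
        rwa [h5]
    refine ⟨x₂ ^ (orderOf (x₂ ^ w) * b), N.pow_mem hx₂N _, ?_, hpow _, ?_⟩
    · rw [map_pow, hx₂c]
      conv_rhs => rw [← pow_one c]
      rw [pow_eq_pow_iff_modEq]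
      have h4 : orderOf c ∣ w := orderOf_dvd_of_pow_eq_one hc
      refine Nat.ModEq.of_dvd h4 ?_
      rw [Nat.ModEq, hb.2, Nat.mod_eq_of_lt hw.one_lt]
    · rw [← pow_mul, mul_comm, pow_mul, pow_mul, pow_orderOf_eq_one, one_pow]
  have hy1 : y ≠ 1 := by
    rintro rfl
    rw [map_one] at hyc
    obtain ⟨q₀, -, h⟩ := hnc
    rw [← hyc, one_mul, mul_one] at h
    exact h rfl
  by_cases hfix : ∀ u ∈ om r R, y * u = u * y → u = 1
  · -- the commutators centralize `U`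
    have hcardP : ∃ k : ℕ, Nat.card P = v ^ k := IsPGroup.iff_card.1 hPp
    obtain ⟨k, hk⟩ := hcardP
    have hPU : ∀ p ∈ P, ∀ u ∈ om r R, p * u * p⁻¹ ∈ om r R := fun p hp => hUN p (hPM hp).1
    have hsolP : Group.IsSolvable P := by
      have := hPp.isNilpotent
      infer_instance
    have hcomm := shult_fix' hr hw hw2 hwr (om r R) P y
      (fun a ha b hb => ha.2.1 b hb.1) (fun u hu => hu.2.2) hPU (hUN y hyN) hyP hyw hsolP
      (by
        by_cases h2v : v = 2 ∧ ∃ j : ℕ, w = 2 ^ j + 1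
        · left
          have hab : ∀ a ∈ Q, ∀ b ∈ Q, a * b = b * a := by
            rcases hv2 with h | h | h
            · exact absurd h2v.1 h
            · exact absurd h2v.2.choose_spec (h _)
            · exact h
          -- the commutators of `P` lie in `K`, hence centralize `U`
          intro a ha b hb u hu
          have haQ : π a ∈ Q := (hPM ha).2
          have hbQ : π b ∈ Q := (hPM hb).2
          have hk : (b * a)⁻¹ * (a * b) ∈ K := by
            rw [← hπk, map_mul, map_inv, map_mul, map_mul, hab _ haQ _ hbQ, inv_mul_cancel]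
          have hkP : (b * a)⁻¹ * (a * b) ∈ P := P.mul_mem (P.inv_mem (P.mul_mem hb ha)) (P.mul_mem ha hb)
          have hcu : ((b * a)⁻¹ * (a * b)) * u = u * ((b * a)⁻¹ * (a * b)) :=
            comm_of_nilpotent hKn hvr hPp hRp hkP hk hu.1 (by
              obtain ⟨u', hu', rfl⟩ := hu.1
              exact u'.2)
          obtain ⟨k', hk'⟩ : ∃ k' : G, k' = (b * a)⁻¹ * (a * b) := ⟨_, rfl⟩
          have h5 : a * b = (b * a) * k' := by rw [hk']; group
          rw [← hk'] at hcu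
          rw [h5, mul_inv_rev, mul_assoc (b * a) k' u, hcu]
          group
        · right
          rw [hk]
          intro hd
          by_cases hv2' : v = 2
          · apply h2v
            refine ⟨hv2', ?_⟩
            rw [hv2'] at hd
            have h1 : (w - 1) ∣ 2 ^ k := (Dvd.intro_left _ (by rw [sq])).trans hd
            obtain ⟨j, -, hj⟩ := (Nat.dvd_prime_pow Nat.prime_two).1 h1
            exact ⟨j, by have := hw.one_lt; omega⟩
          · obtain ⟨j, hj⟩ := hw.odd_of_ne_two hw2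
            have h2 : 2 ∣ (w - 1) ^ 2 := by
              rw [hj]
              exact Dvd.dvd.pow ⟨j, by omega⟩ (by norm_num)
            have h3 := h2.trans hd
            obtain ⟨a, ha⟩ := (hv.odd_of_ne_two hv2').pow (n := k)
            omega)
      (by rw [hk]; exact fun h => hvw ((Nat.prime_dvd_prime_iff_eq hw hv).1 (hw.dvd_of_dvd_pow h)).symm)
      (by rw [hk]; exact fun h => hvr ((Nat.prime_dvd_prime_iff_eq hr hv).1 (hr.dvd_of_dvd_pow h)).symm) hfix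
    obtain ⟨q₀, hq₀, hq₀'⟩ := hnc
    obtain ⟨p₀, hp₀, hp₀'⟩ := hPQ q₀ hq₀
    -- the centralizer of `U` in `N`
    set C : Subgroup G := N ⊓ centralizer (om r R : Set G) with hC
    have hdC : y * p₀ * y⁻¹ * p₀⁻¹ ∈ C := by
      refine Subgroup.mem_inf.2
        ⟨N.mul_mem (N.mul_mem (N.mul_mem hyN (hPM hp₀).1) (N.inv_mem hyN)) (N.inv_mem (hPM hp₀).1), ?_⟩
      rw [mem_centralizer_iff]
      intro u hu
      exact (hcomm p₀ hp₀ u hu).symm
    have hCn : ∀ n ∈ N, ∀ z ∈ C, n * z * n⁻¹ ∈ C := by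
      intro n hn z hz
      obtain ⟨hz1, hz2⟩ := Subgroup.mem_inf.1 hz
      refine Subgroup.mem_inf.2 ⟨N.mul_mem (N.mul_mem hn hz1) (N.inv_mem hn), ?_⟩
      rw [mem_centralizer_iff] at hz2 ⊢
      intro u hu
      have h1 := hz2 _ (hUN n⁻¹ (N.inv_mem hn) u hu)
      rw [inv_inv] at h1
      calc u * (n * z * n⁻¹) = n * ((n⁻¹ * u * n) * z) * n⁻¹ := by group
        _ = n * (z * (n⁻¹ * u * n)) * n⁻¹ := by rw [h1]
        _ = n * z * n⁻¹ * u := by group
    have hTn : (C.map π).Normal := by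
      constructor
      rintro _ ⟨z, hz, rfl⟩ g
      obtain ⟨n, hn, rfl⟩ := hNs g
      exact ⟨n * z * n⁻¹, hCn n hn z hz, by rw [map_mul, map_mul, map_inv]⟩
    have hST : S ≤ C.map π := by
      have h1 : ((C.map π).subgroupOf S).Normal := inferInstance
      rcases hS.eq_bot_or_eq_top_of_normal _ h1 with h2 | h2
      · exfalso
        have hdS : π (y * p₀ * y⁻¹ * p₀⁻¹) ∈ S := by
          rw [map_mul, map_mul, map_mul, map_inv, map_inv, hyc, hp₀']
          exact S.mul_mem (hSn.conj_mem _ (hQS hq₀) _) (S.inv_mem (hQS hq₀))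
        have h3 : (⟨π (y * p₀ * y⁻¹ * p₀⁻¹), hdS⟩ : S) ∈ (C.map π).subgroupOf S := ⟨_, hdC, rfl⟩
        rw [h2, mem_bot] at h3
        have h4 : π (y * p₀ * y⁻¹ * p₀⁻¹) = 1 := congrArg Subtype.val h3
        rw [map_mul, map_mul, map_mul, map_inv, map_inv, hyc, hp₀', mul_inv_eq_one, mul_inv_eq_iff_eq_mul] at h4
        exact hq₀' h4
      · exact Subgroup.subgroupOf_eq_top.1 h2
    have hwC : w ∣ Nat.card C := by
      refine hwS.trans ((Subgroup.card_dvd_of_le hST).trans ?_)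
      exact Subgroup.card_map_dvd _ _
    obtain ⟨z, hz⟩ := exists_prime_orderOf_dvd_card' (G := C) w hwC
    have hz' : orderOf (z : G) = w := by rw [Subgroup.orderOf_coe, hz]
    refine ⟨(z : G) * u₀, order_mul hw hr hwr ?_ ?_ hu₀.2.2 hu₁ ?_⟩
    · rw [← hz']; exact pow_orderOf_eq_one _
    · intro h
      rw [h, orderOf_one] at hz'
      exact hw.one_lt.ne hz'
    · have h1 := (Subgroup.mem_inf.1 z.2).2
      rw [mem_centralizer_iff] at h1
      exact (h1 u₀ hu₀).symm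
  · push Not at hfix
    obtain ⟨u, hu, huy, hu1⟩ := hfix
    exact ⟨y * u, order_mul hw hr hwr hyw hy1 hu.2.2 hu1 huy⟩


/-- **The kernel lemma**, `w ∣ |K|` allowed. -/
theorem exists_order {G : Type u} [Group G] [Finite G] {K : Subgroup G} [K.Normal] (hKn : Group.IsNilpotent K)
    {S : Subgroup (G ⧸ K)}
    [hSn : S.Normal] (hS : IsSimpleGroup S) {s w v : ℕ} (hs : s.Prime) (hw : w.Prime) (hv : v.Prime) (hw2 : w ≠ 2)
    (hvw : v ≠ w) (hvs : v ≠ s) (hws : w ≠ s) (hsK : s ∣ Nat.card K)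
    (hwS : w ∣ Nat.card S) {Q : Subgroup (G ⧸ K)} (hQS : Q ≤ S) (hQ : IsPGroup v Q) {c : G ⧸ K} (hc : c ^ w = 1)
    (hcQ : ∀ y ∈ Q, c * y * c⁻¹ ∈ Q) (hnc : ∃ y ∈ Q, c * y ≠ y * c)
    (hv2 : v ≠ 2 ∨ (∀ k : ℕ, w ≠ 2 ^ k + 1) ∨ ∀ a ∈ Q, ∀ b ∈ Q, a * b = b * a) : ∃ x : G, orderOf x = w * s := by
  by_cases hwK : w ∣ Nat.card K
  · have := Fact.mk hs
    have := Fact.mk hw
    obtain ⟨a, ha⟩ := exists_prime_orderOf_dvd_card' (G := K) w hwK
    obtain ⟨b, hb⟩ := exists_prime_orderOf_dvd_card' (G := K) s hsK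
    have hab := comm_of_nilpotent' hKn hw hs hws (a := a) (b := b) ⟨1, by rw [pow_one, ← ha, pow_orderOf_eq_one]⟩
      ⟨1, by rw [pow_one, ← hb, pow_orderOf_eq_one]⟩
    refine ⟨(a * b : K), ?_⟩
    rw [Subgroup.orderOf_coe]
    refine order_mul hw hs hws (by rw [← ha, pow_orderOf_eq_one]) ?_ (by rw [← hb, pow_orderOf_eq_one]) ?_ hab
    · intro h
      rw [h, orderOf_one] at ha
      exact hw.one_lt.ne ha
    · intro h
      rw [h, orderOf_one] at hb
      exact hs.one_lt.ne hb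
  · exact exists_order_aux hKn hS hs hw hv hw2 hvw hvs hws hsK hwK hwS hQS hQ hc hcQ hnc hv2

/-- an element of order `w` normalizes a `v`-subgroup without centralizing it; the subgroup is abelian if `v = 2` and `w`
is a Fermat prime -/
def MovW (S : Type*) [Group S] (v w : ℕ) : Prop :=
  ∃ (P : Subgroup S) (x : S), IsPGroup v P ∧ orderOf x = w ∧ (∀ a ∈ P, x * a * x⁻¹ ∈ P) ∧ (∃ a ∈ P, x * a ≠ a * x) ∧
    (v ≠ 2 ∨ (∀ k : ℕ, w ≠ 2 ^ k + 1) ∨ ∀ a ∈ P, ∀ b ∈ P, a * b = b * a)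

theorem MovW.map {S T : Type*} [Group S] [Group T] (f : S →* T) (hf : Function.Injective f) {v w : ℕ} (h : MovW S v w) :
    MovW T v w := by
  obtain ⟨P, x, hP, hx, hn, ⟨a, ha, hne⟩, hv⟩ := h
  refine ⟨P.map f, f x, hP.map f, by rw [orderOf_injective f hf, hx], ?_, ⟨f a, ⟨a, ha, rfl⟩, ?_⟩, ?_⟩
  · rintro _ ⟨b, hb, rfl⟩
    exact ⟨x * b * x⁻¹, hn b hb, by rw [map_mul, map_mul, map_inv]⟩
  · intro h
    rw [← map_mul, ← map_mul] at h
    exact hne (hf h)
  · rcases hv with h | h | h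
    · exact Or.inl h
    · exact Or.inr (Or.inl h)
    · refine Or.inr (Or.inr ?_)
      rintro _ ⟨b, hb, rfl⟩ _ ⟨c, hc, rfl⟩
      rw [← map_mul, ← map_mul, h b hb c hc]

theorem MovW.congr {S T : Type*} [Group S] [Group T] (e : S ≃* T) {v w : ℕ} : MovW S v w ↔ MovW T v w :=
  ⟨fun h => h.map e.toMonoidHom e.injective, fun h => h.map e.symm.toMonoidHom e.symm.injective⟩

/-- `Mov` gives `MovW` except if `v = 2` and `w` is a Fermat prime -/
theorem MovW.of_mov {S : Type*} [Group S] {v w : ℕ} (h : Cfsg.Agent.H425.KStep.Mov S v w)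
    (hv : v ≠ 2 ∨ ∀ k : ℕ, w ≠ 2 ^ k + 1) : MovW S v w := by
  obtain ⟨P, x, hP, hx, hn, ha⟩ := h
  exact ⟨P, x, hP, hx, hn, ha, hv.imp_right Or.inl⟩

/-- **Primes of the radical are adjacent to the moving primes of `S`.** -/
theorem kadj {G : Type u} [Group G] [Finite G] {K : Subgroup G} [K.Normal] (hKn : Group.IsNilpotent K)
    {S : Subgroup (G ⧸ K)} [S.Normal] (hS : IsSimpleGroup S) {s w v : ℕ} (hs : s.Prime) (hw : w.Prime) (hv : v.Prime)
    (hw2 : w ≠ 2) (hvw : v ≠ w) (hvs : v ≠ s) (hws : w ≠ s) (hsK : s ∣ Nat.card K) (hM : MovW S v w) :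
    ∃ x : G, orderOf x = w * s := by
  obtain ⟨P, x, hP, hx, hn, ⟨a, ha, hne⟩, hv2⟩ := hM
  have hwS : w ∣ Nat.card S := hx ▸ orderOf_dvd_natCard x
  refine exists_order hKn hS hs hw hv hw2 hvw hvs hws hsK hwS (Q := P.map S.subtype) (c := (x : G ⧸ K)) ?_ (hP.map _) ?_ ?_
    ⟨a, ⟨a, ha, rfl⟩, fun h => hne (Subtype.ext h)⟩ ?_
  · rintro _ ⟨b, -, rfl⟩
    exact b.2
  · rw [← hx, ← Subgroup.orderOf_coe, pow_orderOf_eq_one]
  · rintro _ ⟨b, hb, rfl⟩
    exact ⟨x * b * x⁻¹, hn b hb, rfl⟩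
  · rcases hv2 with h | h | h
    · exact Or.inl h
    · exact Or.inr (Or.inl h)
    · refine Or.inr (Or.inr ?_)
      rintro _ ⟨b, hb, rfl⟩ _ ⟨c, hc, rfl⟩
      rw [← map_mul, ← map_mul, h b hb c hc]

end Cfsg.Agent.R2.Spec.F1
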