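import Cfsg.Agent.R2.Spec.F1.FrobA
import Cfsg.Agent.R2.Spec.F1.KAdj
import Cfsg.Agent.H718.ConjRep

/-!
# Frobenius type actions and the primes of the nilpotent radical (helper23)

* `exists_krep` : the representation of `G / K` on `Ω₁(Z(O_s(K)))`; a vector with nonzero norm under `c` gives an element
  of order `|c| s`;
* `order_of_reg` : `Q ≤ S` abelian, `c` normalizes `Q`, some `a₀ ∈ Q` lies in `[c ^ i, Q]` for all `0 < i < |c|`:
  `G` has an element of order `|c| s`;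
* `order_semi` : `c` acts semiregularly; `order_pow` : `|c| = w ^ (g + 1)`, `c ^ (w ^ g)` moves `Q`.
-/

set_option autoImplicit false
set_option linter.unusedSectionVars false

namespace Cfsg.Agent.R2.Spec.F1

open Subgroup
open Cfsg.Agent.H228.GoodK (om om_ne_bot)

universe u

theorem exists_pow_order {G : Type*} [Group G] [Finite G] {x : G} {a : ℕ} (h : a ∣ orderOf x) : ∃ y : G, orderOf y = a := by
  obtain ⟨b, hb⟩ := h
  have hx := orderOf_pos x
  have hb0 : b ≠ 0 := by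
    rintro rfl
    rw [mul_zero] at hb
    omega
  refine ⟨x ^ b, ?_⟩
  rw [orderOf_pow_of_dvd hb0 ⟨a, by rw [hb, mul_comm]⟩, hb]
  exact Nat.mul_div_cancel _ (Nat.pos_of_ne_zero hb0)

theorem omK_ne_bot {G : Type u} [Group G] [Finite G] {K : Subgroup G} (hKn : Group.IsNilpotent K) {s : ℕ} (hs : s.Prime)
    (hsK : s ∣ Nat.card K) : ∃ u ∈ om s K, u ≠ 1 := by
  classical
  have := Fact.mk hs
  obtain ⟨R₀⟩ : Nonempty (Sylow s K) := inferInstance
  have hR1 : (R₀ : Subgroup K) ≠ ⊥ := by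
    intro h1
    have h2 := Sylow.card_eq_multiplicity R₀
    rw [h1, Subgroup.card_bot] at h2
    have h3 : 1 ≤ (Nat.card K).factorization s := (hs.dvd_iff_one_le_factorization Nat.card_pos.ne').1 hsK
    have h4 : s ∣ 1 := by
      rw [h2]
      exact dvd_pow_self _ (by omega)
    exact hs.one_lt.ne' (Nat.dvd_one.1 h4)
  obtain ⟨u, ⟨hu1, hu2, hu3⟩, hu4⟩ := om_ne_bot hs R₀.isPGroup' hR1
  refine ⟨u, ⟨u.2, ?_, ?_⟩, fun h => hu4 (Subtype.ext h)⟩
  · -- the centralizer of `u` contains the Sylow subgroups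
    obtain ⟨C, hC⟩ : ∃ C : Subgroup K, C = centralizer ({u} : Set K) := ⟨_, rfl⟩
    have hCt : C = ⊤ := by
      rw [← Subgroup.index_eq_one]
      by_contra hne
      obtain ⟨p, hp, hpC⟩ := Nat.exists_prime_and_dvd hne
      have := Fact.mk hp
      obtain ⟨P⟩ : Nonempty (Sylow p K) := inferInstance
      have hPC : (P : Subgroup K) ≤ C := by
        intro a ha
        rw [hC, mem_centralizer_singleton_iff]
        by_cases hps : p = s
        · subst hps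
          have hn : (R₀ : Subgroup K).Normal := by
            have h0 := ((Group.isNilpotent_of_finite_tfae (G := K)).out 0 3).1 hKn
            exact @h0 p inferInstance R₀
          have h1 : P = R₀ := by
            obtain ⟨g, hg⟩ := MulAction.exists_smul_eq K R₀ P
            rw [← hg]
            exact Sylow.smul_eq_of_normal
          rw [h1] at ha
          exact (hu2 a ha).symm
        · obtain ⟨i, hi⟩ := P.isPGroup' ⟨a, ha⟩
          have hi' : a ^ p ^ i = 1 := congrArg Subtype.val hi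
          exact comm_of_nilpotent' hKn hp hs hps ⟨i, hi'⟩ ⟨1, by rw [pow_one]; exact hu3⟩
      exact P.not_dvd_index (hpC.trans (Subgroup.index_dvd_of_le hPC))
    intro k hk
    have h1 : (⟨k, hk⟩ : K) ∈ C := hCt ▸ mem_top _
    rw [hC, mem_centralizer_singleton_iff] at h1
    exact (congrArg Subtype.val h1).symm
  · exact congrArg Subtype.val hu3

/-- **The representation of `G / K` on the centre of `O_s(K)`** -/
theorem exists_krep {G : Type u} [Group G] [Finite G] {K : Subgroup G} [K.Normal] (hKn : Group.IsNilpotent K) {s : ℕ}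
    (hs : s.Prime) (hsK : s ∣ Nat.card K) :
    ∃ (E : Type u) (_ : AddCommGroup E) (_ : Module (ZMod s) E) (_ : Finite E) (_ : Nontrivial E)
      (ρ : (G ⧸ K) →* Module.End (ZMod s) E), ∀ c : G ⧸ K,
        (∃ u : E, ∑ i ∈ Finset.range (orderOf c), ((ρ c) ^ i) u ≠ 0) → ∃ x : G, orderOf x = orderOf c * s := by
  classical
  obtain ⟨u₀, hu₀, hu₀1⟩ := omK_ne_bot hKn hs hsK
  have hKN : ∀ (g : G), ∀ x ∈ K, g * x * g⁻¹ ∈ K := fun g x hx => Subgroup.Normal.conj_mem inferInstance x hx g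
  have hUN : ∀ g ∈ (⊤ : Subgroup G), ∀ u ∈ om s K, g * u * g⁻¹ ∈ om s K := by
    rintro g - u ⟨hu1, hu2, hu3⟩
    refine ⟨hKN g u hu1, fun x hx => ?_, ?_⟩
    · have h0 : g⁻¹ * x * g ∈ K := by
        have := hKN g⁻¹ x hx
        rwa [inv_inv] at this
      have h1 := hu2 _ h0
      calc g * u * g⁻¹ * x = g * (u * (g⁻¹ * x * g)) * g⁻¹ := by group
        _ = g * ((g⁻¹ * x * g) * u) * g⁻¹ := by rw [h1]
        _ = x * (g * u * g⁻¹) := by group
    · rw [conj_pow, hu3, mul_one, mul_inv_cancel]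
  obtain ⟨E, iE, iM, iF, e, ρ₀, he, hρ₀⟩ := Cfsg.Agent.H718.exists_conjRep s (⊤ : Subgroup G) (om s K)
    (fun a ha b hb => ha.2.1 b hb.1) (fun u hu => hu.2.2) hUN
  have he0 : e 0 = 1 := by
    have := he 0 0
    rw [add_zero] at this
    exact left_eq_mul.1 this
  obtain ⟨ρ₁, hρ₁⟩ : ∃ ρ₁ : G →* Module.End (ZMod s) E, ∀ (g : G) (x : E), ((e (ρ₁ g x) : om s K) : G) = g * e x * g⁻¹ :=
    ⟨(ρ₀ : (⊤ : Subgroup G) →* Module.End (ZMod s) E).comp (Subgroup.topEquiv.symm.toMonoidHom : G →* (⊤ : Subgroup G)),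
      fun g x => hρ₀ _ x⟩
  have hker : ∀ g ∈ K, ρ₁ g = 1 := by
    intro g hg
    apply LinearMap.ext
    intro x
    apply e.injective
    apply Subtype.ext
    rw [hρ₁, Module.End.one_apply, ← (e x).2.2.1 g hg, mul_inv_cancel_right]
  refine ⟨E, iE, iM, iF, ?_, QuotientGroup.lift K ρ₁ hker, ?_⟩
  · refine ⟨e.symm ⟨u₀, hu₀⟩, 0, fun h => hu₀1 ?_⟩
    have h1 := congrArg e h
    rw [Equiv.apply_symm_apply, he0] at h1
    exact congrArg Subtype.val h1
  · intro c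
    obtain ⟨x, rfl⟩ := QuotientGroup.mk'_surjective K c
    rintro ⟨u, hu⟩
    have hlift : QuotientGroup.lift K ρ₁ hker (QuotientGroup.mk' K x) = ρ₁ x := rfl
    rw [hlift] at hu
    obtain ⟨m, hm⟩ : ∃ m, m = orderOf (QuotientGroup.mk' K x) := ⟨_, rfl⟩
    rw [← hm] at hu ⊢
    have hpow : ∀ k : ℕ, (((e u : om s K) : G) * x) ^ k =
        ((e (∑ i ∈ Finset.range k, ((ρ₁ x) ^ i) u) : om s K) : G) * x ^ k := by
      intro k
      induction k with
      | zero => rw [pow_zero, pow_zero, Finset.range_zero, Finset.sum_empty, he0]; simp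
      | succ k ih =>
        have h1 : ((e (((ρ₁ x) ^ k) u) : om s K) : G) = x ^ k * e u * (x ^ k)⁻¹ := by
          rw [← map_pow, hρ₁]
        rw [pow_succ, ih, Finset.sum_range_succ, he, Subgroup.coe_mul, h1, pow_succ]
        group
    have hmx : x ^ m ∈ K := by
      rw [← QuotientGroup.eq_one_iff]
      change QuotientGroup.mk' K (x ^ m) = 1
      rw [map_pow, hm, pow_orderOf_eq_one]
    have hmn : m ∣ orderOf x := hm ▸ orderOf_map_dvd (QuotientGroup.mk' K) x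
    have hm0 : 0 < m := by
      rw [hm]
      exact orderOf_pos _
    obtain ⟨l, hl⟩ := hmn
    have hl0 : orderOf (x ^ m) = l := by
      rw [orderOf_pow_of_dvd hm0.ne' ⟨l, hl⟩, hl]
      exact Nat.mul_div_cancel_left _ hm0
    by_cases hsl : s ∣ l
    · exact exists_pow_order (x := x) (by rw [hl]; exact Nat.mul_dvd_mul_left m hsl)
    · obtain ⟨y, hy⟩ : ∃ y : G, y = ((e u : om s K) : G) * x := ⟨_, rfl⟩
      obtain ⟨N, hN⟩ : ∃ N : om s K, N = e (∑ i ∈ Finset.range m, ((ρ₁ x) ^ i) u) := ⟨_, rfl⟩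
      have hN1 : (N : G) ≠ 1 := by
        intro h
        apply hu
        apply e.injective
        rw [← hN, he0]
        exact Subtype.ext h
      have hym : y ^ m = N * x ^ m := by rw [hy, hpow, hN]
      have hNs : orderOf (N : G) = s := by
        have := Fact.mk hs
        exact orderOf_eq_prime N.2.2.2 hN1
      have hcop : Nat.Coprime (orderOf (N : G)) (orderOf (x ^ m)) := by
        rw [hNs, hl0]
        exact (Nat.Prime.coprime_iff_not_dvd hs).2 hsl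
      have hom : orderOf (y ^ m) = s * l := by
        rw [hym, Commute.orderOf_mul_eq_mul_orderOf_of_coprime (N.2.2.1 _ hmx) hcop, hNs, hl0]
      have hyc : QuotientGroup.mk' K y = QuotientGroup.mk' K x := by
        rw [hy, map_mul]
        have h1 : QuotientGroup.mk' K ((e u : om s K) : G) = 1 := (QuotientGroup.eq_one_iff _).2 (e u).2.1
        rw [h1, one_mul]
      have hmy : m ∣ orderOf y := by
        rw [hm, ← hyc]
        exact orderOf_map_dvd (QuotientGroup.mk' K) y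
      obtain ⟨k, hk⟩ := hmy
      rw [orderOf_pow_of_dvd hm0.ne' ⟨k, hk⟩, hk, Nat.mul_div_cancel_left _ hm0] at hom
      exact exists_pow_order (x := y) (by rw [hk, hom]; exact ⟨l, by ring⟩)

/-- **The regular orbit.** -/
theorem order_of_reg {G : Type u} [Group G] [Finite G] {K : Subgroup G} [K.Normal] (hKn : Group.IsNilpotent K)
    {S : Subgroup (G ⧸ K)} [S.Normal] (hS : IsSimpleGroup S) {s : ℕ} (hs : s.Prime) (hsK : s ∣ Nat.card K)
    (hf : ∃ r, r.Prime ∧ r ≠ s ∧ r ∣ Nat.card S ∧ ¬ ∃ x : G, orderOf x = r * s)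
    {Q : Subgroup (G ⧸ K)} (hQS : Q ≤ S) (hQ : ¬ s ∣ Nat.card Q) (hab : ∀ a ∈ Q, ∀ b ∈ Q, a * b = b * a) {c : G ⧸ K}
    (hcQ : ∀ y ∈ Q, c * y * c⁻¹ ∈ Q) {a₀ : G ⧸ K} (ha₀ : a₀ ∈ Q) (ha₀1 : a₀ ≠ 1)
    (hreg : ∀ i : ℕ, 0 < i → i < orderOf c → ∃ a ∈ Q, c ^ i * a * (c ^ i)⁻¹ * a⁻¹ = a₀) :
    ∃ x : G, orderOf x = orderOf c * s := by
  classical
  have := Fact.mk hs
  obtain ⟨E, _, _, _, _, ρ, hρ⟩ := exists_krep hKn hs hsK
  have : FiniteDimensional (ZMod s) E := Module.Finite.of_finite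
  -- `S` acts faithfully
  have hfaith : ∀ g ∈ S, ρ g = 1 → g = 1 := by
    have h1 : ((MonoidHom.ker ρ).subgroupOf S).Normal := inferInstance
    rcases hS.eq_bot_or_eq_top_of_normal _ h1 with h2 | h2
    · intro g hg hg1
      have h3 : (⟨g, hg⟩ : S) ∈ (MonoidHom.ker ρ).subgroupOf S := hg1
      rw [h2, mem_bot] at h3
      exact congrArg Subtype.val h3
    · exfalso
      obtain ⟨r, hr, hrs, hrS, hno⟩ := hf
      have := Fact.mk hr
      obtain ⟨y, hy⟩ := exists_prime_orderOf_dvd_card' r hrS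
      apply hno
      have h3 : y ∈ (MonoidHom.ker ρ).subgroupOf S := h2 ▸ mem_top _
      have h4 : ρ (y : G ⧸ K) = 1 := h3
      have h5 : orderOf (y : G ⧸ K) = r := by rw [Subgroup.orderOf_coe, hy]
      obtain ⟨u, hu⟩ := exists_ne (0 : E)
      have h6 := hρ (y : G ⧸ K) ⟨u, by
        rw [h4, h5]
        simp only [one_pow, Module.End.one_apply, Finset.sum_const, Finset.card_range]
        rw [← Nat.cast_smul_eq_nsmul (ZMod s)]
        intro h7
        rcases smul_eq_zero.1 h7 with h8 | h8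
        · rw [ZMod.natCast_eq_zero_iff] at h8
          exact hrs ((Nat.prime_dvd_prime_iff_eq hs hr).1 h8).symm
        · exact hu h8⟩
      rwa [h5] at h6
  have hcQ' : ∀ y ∈ Q, c⁻¹ * y * c ∈ Q := by
    intro y hy
    have h1 : (Q.map (MulAut.conj c).toMonoidHom : Subgroup (G ⧸ K)) = Q := by
      refine Subgroup.eq_of_le_of_card_ge ?_ ?_
      · rintro _ ⟨u, hu, rfl⟩
        exact hcQ u hu
      · rw [Subgroup.card_map_of_injective (MulAut.conj c).injective]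
    rw [← h1] at hy
    obtain ⟨t, ht, rfl⟩ := hy
    have h2 : c⁻¹ * ((MulAut.conj c).toMonoidHom t) * c = t := by
      change c⁻¹ * (c * t * c⁻¹) * c = t
      group
    rw [h2]
    exact ht
  let σ : MulAut Q :=
    { toFun := fun m => ⟨c * m * c⁻¹, hcQ m m.2⟩
      invFun := fun m => ⟨c⁻¹ * m * c, hcQ' m m.2⟩
      left_inv := fun m => Subtype.ext (by change c⁻¹ * (c * (m : G ⧸ K) * c⁻¹) * c = m; group)
      right_inv := fun m => Subtype.ext (by change c * (c⁻¹ * (m : G ⧸ K) * c) * c⁻¹ = m; group)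
      map_mul' := fun a b => Subtype.ext (by
        change c * ((a : G ⧸ K) * b) * c⁻¹ = (c * a * c⁻¹) * (c * b * c⁻¹); group) }
  have hσ : ∀ (i : ℕ) (a : Q), (((σ ^ i) a : Q) : G ⧸ K) = c ^ i * a * (c ^ i)⁻¹ := by
    intro i
    induction i with
    | zero => intro a; rw [pow_zero, MulAut.one_apply]; simp
    | succ i ih =>
      intro a
      rw [pow_succ', MulAut.mul_apply]
      change c * (((σ ^ i) a : Q) : G ⧸ K) * c⁻¹ = _
      rw [ih, pow_succ']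
      group
  refine hρ c (norm_ne_zero (F := ZMod s) ((ρ : (G ⧸ K) →* Module.End (ZMod s) E).comp Q.subtype)
    (fun a b => Subtype.ext (hab a a.2 b b.2)) ?_ (ρ c) ?_ σ ?_ (a₀ := ⟨a₀, ha₀⟩) ?_ ?_ (orderOf_pos c))
  · intro h
    rw [ZMod.natCast_eq_zero_iff] at h
    exact hQ h
  · intro x y hxy
    have h1 : ∀ z : E, ρ c⁻¹ (ρ c z) = z := fun z => by
      rw [← Module.End.mul_apply, ← map_mul, inv_mul_cancel, map_one, Module.End.one_apply]
    rw [← h1 x, ← h1 y, hxy]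
  · intro g
    change ρ c * ρ g = ρ (c * g * c⁻¹) * ρ c
    rw [← map_mul, ← map_mul, inv_mul_cancel_right]
  · intro h
    exact ha₀1 (hfaith a₀ (hQS ha₀) h)
  · intro k _ χ hχ i hi0 hi
    by_contra hcon
    push Not at hcon
    apply hχ
    obtain ⟨a, ha, ha'⟩ := hreg i hi0 hi
    have h1 := hcon ⟨a, ha⟩
    have h2 : (⟨a₀, ha₀⟩ : Q) * ⟨a, ha⟩ = (σ ^ i) ⟨a, ha⟩ := by
      apply Subtype.ext
      rw [hσ]
      change a₀ * a = _
      rw [← ha', inv_mul_cancel_right]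
    rw [← h2, map_mul] at h1
    have h3 : χ ⟨a, ha⟩ ≠ 0 := by
      intro h4
      have h5 : χ ((⟨a, ha⟩ : Q) * (⟨a, ha⟩ : Q)⁻¹) = 0 := by rw [map_mul, h4, zero_mul]
      rw [mul_inv_cancel, map_one] at h5
      exact one_ne_zero h5
    exact mul_right_cancel₀ h3 (by rw [h1, one_mul])

/-- **Semiregular actions** -/
theorem order_semi {G : Type u} [Group G] [Finite G] {K : Subgroup G} [K.Normal] (hKn : Group.IsNilpotent K)
    {S : Subgroup (G ⧸ K)} [S.Normal] (hS : IsSimpleGroup S) {s : ℕ} (hs : s.Prime) (hsK : s ∣ Nat.card K)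
    (hf : ∃ r, r.Prime ∧ r ≠ s ∧ r ∣ Nat.card S ∧ ¬ ∃ x : G, orderOf x = r * s)
    {Q : Subgroup (G ⧸ K)} (hQS : Q ≤ S) (hQ : ¬ s ∣ Nat.card Q) (hab : ∀ a ∈ Q, ∀ b ∈ Q, a * b = b * a) {c : G ⧸ K}
    (hcQ : ∀ y ∈ Q, c * y * c⁻¹ ∈ Q) (hQ1 : Q ≠ ⊥)
    (hreg : ∀ i : ℕ, 0 < i → i < orderOf c → ∀ a ∈ Q, c ^ i * a = a * c ^ i → a = 1) :
    ∃ x : G, orderOf x = orderOf c * s := by
  classical
  obtain ⟨a₀, ha₀, ha₀1⟩ : ∃ a₀ ∈ Q, a₀ ≠ 1 := by
    obtain ⟨a, ha⟩ := Subgroup.ne_bot_iff_exists_ne_one.1 hQ1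
    exact ⟨a, a.2, fun h' => ha (Subtype.ext h')⟩
  refine order_of_reg hKn hS hs hsK hf hQS hQ hab hcQ (a₀ := a₀) ha₀ ha₀1 fun i hi0 hi => ?_
  have hcQi : ∀ i : ℕ, ∀ y ∈ Q, c ^ i * y * (c ^ i)⁻¹ ∈ Q := by
    intro i
    induction i with
    | zero => intro y hy; simpa using hy
    | succ i ih =>
      intro y hy
      have h1 : c ^ (i + 1) * y * (c ^ (i + 1))⁻¹ = c * (c ^ i * y * (c ^ i)⁻¹) * c⁻¹ := by
        rw [pow_succ']; group
      rw [h1]
      exact hcQ _ (ih y hy)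
  let φ : Q → Q := fun a => ⟨c ^ i * a * (c ^ i)⁻¹ * (a : G ⧸ K)⁻¹, Q.mul_mem (hcQi i a a.2) (Q.inv_mem a.2)⟩
  have hφ : Function.Injective φ := by
    intro a b h
    have h1 : c ^ i * (a : G ⧸ K) * (c ^ i)⁻¹ * (a : G ⧸ K)⁻¹ = c ^ i * (b : G ⧸ K) * (c ^ i)⁻¹ * (b : G ⧸ K)⁻¹ :=
      congrArg Subtype.val h
    -- `b⁻¹ a` is fixed
    have hc1 := hab _ (Q.mul_mem (Q.inv_mem b.2) a.2) _ (Q.inv_mem b.2)
    have h2 : c ^ i * ((b : G ⧸ K)⁻¹ * a) * (c ^ i)⁻¹ = (b : G ⧸ K)⁻¹ * a := by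
      have e1 : c ^ i * ((b : G ⧸ K)⁻¹ * a) * (c ^ i)⁻¹ = (c ^ i * b * (c ^ i)⁻¹)⁻¹ * (c ^ i * a * (c ^ i)⁻¹) := by group
      have e2 : c ^ i * (a : G ⧸ K) * (c ^ i)⁻¹ = c ^ i * b * (c ^ i)⁻¹ * (b : G ⧸ K)⁻¹ * a := by
        rw [← h1]; group
      rw [e1, e2]
      group
    have h3 := hreg i hi0 hi _ (Q.mul_mem (Q.inv_mem b.2) a.2) (by
      calc c ^ i * ((b : G ⧸ K)⁻¹ * a) = (c ^ i * ((b : G ⧸ K)⁻¹ * a) * (c ^ i)⁻¹) * c ^ i := by group
        _ = ((b : G ⧸ K)⁻¹ * a) * c ^ i := by rw [h2])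
    exact Subtype.ext (inv_mul_eq_one.1 h3).symm
  obtain ⟨a, ha⟩ := (Finite.injective_iff_surjective.1 hφ) ⟨a₀, ha₀⟩
  exact ⟨a, a.2, congrArg Subtype.val ha⟩

/-- **Prime powers** -/
theorem order_pow {G : Type u} [Group G] [Finite G] {K : Subgroup G} [K.Normal] (hKn : Group.IsNilpotent K)
    {S : Subgroup (G ⧸ K)} [S.Normal] (hS : IsSimpleGroup S) {s : ℕ} (hs : s.Prime) (hsK : s ∣ Nat.card K)
    (hf : ∃ r, r.Prime ∧ r ≠ s ∧ r ∣ Nat.card S ∧ ¬ ∃ x : G, orderOf x = r * s)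
    {Q : Subgroup (G ⧸ K)} (hQS : Q ≤ S) (hQ : ¬ s ∣ Nat.card Q) (hab : ∀ a ∈ Q, ∀ b ∈ Q, a * b = b * a) {c : G ⧸ K}
    (hcQ : ∀ y ∈ Q, c * y * c⁻¹ ∈ Q) {w g : ℕ} (hw : w.Prime) (hc : orderOf c = w ^ (g + 1))
    (hnc : ∃ y ∈ Q, c ^ w ^ g * y ≠ y * c ^ w ^ g) : ∃ x : G, orderOf x = w ^ (g + 1) * s := by
  classical
  obtain ⟨b, hb, hbne⟩ := hnc
  have hcQi : ∀ i : ℕ, ∀ y ∈ Q, c ^ i * y * (c ^ i)⁻¹ ∈ Q := by
    intro i
    induction i with
    | zero => intro y hy; simpa using hy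
    | succ i ih =>
      intro y hy
      have h1 : c ^ (i + 1) * y * (c ^ (i + 1))⁻¹ = c * (c ^ i * y * (c ^ i)⁻¹) * c⁻¹ := by
        rw [pow_succ']; group
      rw [h1]
      exact hcQ _ (ih y hy)
  rw [← hc]
  refine order_of_reg hKn hS hs hsK hf hQS hQ hab hcQ (a₀ := c ^ w ^ g * b * (c ^ w ^ g)⁻¹ * b⁻¹)
    (Q.mul_mem (hcQi _ b hb) (Q.inv_mem hb)) ?_ fun i hi0 hi => ?_
  · intro h
    rw [mul_inv_eq_one, mul_inv_eq_iff_eq_mul] at h
    exact hbne h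
  · rw [hc] at hi
    -- `c ^ (w ^ g)` is a power of `c ^ i`
    obtain ⟨k, hk⟩ : ∃ k : ℕ, (c ^ i) ^ k = c ^ w ^ g := by
      have h1 : Nat.gcd i (w ^ (g + 1)) ∣ w ^ g := by
        obtain ⟨j, hj, hj'⟩ := (Nat.dvd_prime_pow hw).1 (Nat.gcd_dvd_right i (w ^ (g + 1)))
        rw [hj']
        refine pow_dvd_pow w ?_
        by_contra hcon
        have h2 : j = g + 1 := by omega
        rw [h2] at hj'
        have h3 := Nat.le_of_dvd hi0 (Nat.gcd_dvd_left i (w ^ (g + 1)))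
        rw [hj'] at h3
        omega
      have h3 := Nat.le_of_dvd hi0 (Nat.gcd_dvd_left i (w ^ (g + 1)))
      obtain ⟨m, -, hm⟩ := Nat.exists_mul_mod_eq_gcd (lt_of_le_of_lt h3 hi)
      obtain ⟨d, hd⟩ := h1
      refine ⟨m * d, ?_⟩
      rw [pow_mul, ← pow_mul c i m, ← pow_mod_orderOf c (i * m), hc, hm, ← pow_mul, ← hd]
    -- telescoping
    have key : ∀ k : ℕ, ∃ a ∈ Q, c ^ i * a * (c ^ i)⁻¹ * a⁻¹ = (c ^ i) ^ k * b * ((c ^ i) ^ k)⁻¹ * b⁻¹ := by
      intro k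
      induction k with
      | zero => exact ⟨1, Q.one_mem, by simp⟩
      | succ k ih =>
        obtain ⟨a, ha, ha'⟩ := ih
        obtain ⟨d, hd⟩ : ∃ d, d = (c ^ i) ^ k * b * ((c ^ i) ^ k)⁻¹ := ⟨_, rfl⟩
        have hdQ : d ∈ Q := by
          rw [hd, ← pow_mul]
          exact hcQi _ b hb
        refine ⟨d * a, Q.mul_mem hdQ ha, ?_⟩
        have h1 : (c ^ i) ^ (k + 1) * b * ((c ^ i) ^ (k + 1))⁻¹ = c ^ i * d * (c ^ i)⁻¹ := by
          rw [hd, pow_succ']; group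
        rw [← hd] at ha'
        rw [h1]
        -- `[c^i, d a] = [c^i, d] [c^i, a]`
        have h2 : c ^ i * a * (c ^ i)⁻¹ = d * b⁻¹ * a := by
          rw [← ha']; group
        have h3 : c ^ i * (d * a) * (c ^ i)⁻¹ = (c ^ i * d * (c ^ i)⁻¹) * (c ^ i * a * (c ^ i)⁻¹) := by group
        rw [h3, h2]
        have h4 := hab _ (Q.mul_mem (Q.inv_mem hb) ha) _ (Q.inv_mem (Q.mul_mem hdQ ha))
        calc c ^ i * d * (c ^ i)⁻¹ * (d * b⁻¹ * a) * (d * a)⁻¹ = c ^ i * d * (c ^ i)⁻¹ * d * ((b⁻¹ * a) * (d * a)⁻¹) := by group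
          _ = c ^ i * d * (c ^ i)⁻¹ * d * ((d * a)⁻¹ * (b⁻¹ * a)) := by rw [h4]
          _ = c ^ i * d * (c ^ i)⁻¹ * (d * (a⁻¹ * (d⁻¹ * (b⁻¹ * a)))) := by group
          _ = c ^ i * d * (c ^ i)⁻¹ * b⁻¹ := by
            have h5 := hab _ (Q.inv_mem hdQ) _ (Q.mul_mem (Q.inv_mem hb) ha)
            rw [h5]
            have h6 := hab _ (Q.inv_mem ha) _ (Q.mul_mem (Q.inv_mem hb) ha)
            have h7 : d * (a⁻¹ * (b⁻¹ * a * d⁻¹)) = d * (a⁻¹ * (b⁻¹ * a)) * d⁻¹ := by group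
            rw [h7, h6]
            have h8 : d * (b⁻¹ * a * a⁻¹) * d⁻¹ = d * b⁻¹ * d⁻¹ := by group
            rw [h8]
            have h9 := hab _ hdQ _ (Q.inv_mem hb)
            rw [h9]
            group
    obtain ⟨a, ha, ha'⟩ := key k
    exact ⟨a, ha, by rw [ha', hk]⟩

end Cfsg.Agent.R2.Spec.F1
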