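import Cfsg.Agent.R2.Spec.F1.NL

/-!
# The primes of the isolated classes are different from the characteristic of `S` (helper23)
-/

set_option autoImplicit false
set_option linter.unusedSectionVars false
set_option linter.unusedVariables false

namespace Cfsg.Agent.R2.Spec.F1

open Subgroup Cfsg
open Cfsg.Agent.H426.LieFam Cfsg.Agent.R2.Spec Cfsg.Agent.R2.Spec.P1
open Cfsg.Agent.H420.QR

universe u w

/-- nonadjacent to the characteristic -/
theorem Frm.v_nap {G : Type u} [Group G] [Finite G] {K : Subgroup G} [K.Normal] {S : Subgroup (G ⧸ K)} [S.Normal]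
    {t : Fam} {v f : ℕ} (h : Frm G K S t v f) (ht : BigS t) {x : ℕ} (hx : x.Prime) (hx2 : x ≠ 2) (hxv : x ≠ v)
    (hxS : x ∣ Nat.card S) (hna : ¬ ∃ g : S, orderOf g = v * x) :
    3 ≤ cls t (v ^ f) x ∧ nap t (cls t (v ^ f) x) := by
  rcases h.vcase hx hx2 hxv hxS hna with h1 | ⟨-, h2, n, hn⟩
  · exact h1
  · have := (rk_of_bigS h ht).2.2.1 ⟨n, hn⟩
    omega

/-- two adjacent primes, both nonadjacent to the characteristic -/
theorem Frm.same_top {G : Type u} [Group G] [Finite G] {K : Subgroup G} [K.Normal] {S : Subgroup (G ⧸ K)} [S.Normal]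
    {t : Fam} {v f : ℕ} (h : Frm G K S t v f) (ht : BigS t) {x y : ℕ} (hx : x.Prime) (hy : y.Prime) (hxy : x ≠ y)
    (hxS : x ∣ Nat.card S) (hyS : y ∣ Nat.card S) (hx3 : 3 ≤ cls t (v ^ f) x) (hy3 : 3 ≤ cls t (v ^ f) y)
    (hxb : rk t < 2 * wt t (cls t (v ^ f) x)) (hyb : rk t < 2 * wt t (cls t (v ^ f) y))
    (hadj : ∃ g : S, orderOf g = x * y) : cls t (v ^ f) x = cls t (v ^ f) y := by
  by_contra hne
  rw [h.na_of hx hy hxy hx3 hy3 hxS hyS] at hadj
  have hx5 := (cls_facts hx hx3).1
  have hy5 := (cls_facts hy hy3).1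
  exact hadj (na_of_big h.cla ⟨hx3, h.mem_cls hx (by omega) hxS hx3, hxb⟩ ⟨hy3, h.mem_cls hy (by omega) hyS hy3, hyb⟩
    hne)

theorem cls_three_le {t : Fam} {q : ℕ} : cls t q 3 ≤ 2 := by
  have key : ∀ a : ZMod 3, orderOf a ≤ 2 := by
    intro a
    have h : a = 0 ∨ a = 1 ∨ a = 2 := by
      revert a; decide
    rcases h with rfl | rfl | rfl
    · have : ¬ IsOfFinOrder (0 : ZMod 3) := by
        rw [isOfFinOrder_iff_pow_eq_one]
        rintro ⟨n, hn, h0⟩
        rw [zero_pow (by omega)] at h0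
        exact absurd h0 (by decide)
      rw [orderOf_eq_zero this]
      norm_num
    · rw [orderOf_one]; norm_num
    · apply Nat.le_of_dvd (by norm_num)
      exact orderOf_dvd_of_pow_eq_one (by decide)
  exact key _

section

variable {t : Fam} {p f : ℕ} {L : Type w} [Group L] [Finite L] {G : Type u} [Group G] [Finite G]
variable {K : Subgroup G} [K.Normal] {S : Subgroup (G ⧸ K)} [S.Normal]
variable {t' : Fam} {v f' : ℕ}

/-- **An isolated class nonadjacent to two nonadjacent classes which are not isolated.** -/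
theorem LS.iso_ne_v_aux (h : LS t p f L G) (hR : Red G K S) (hF : Frm G K S t' v f') (hS : BigS t') (hp2 : p ≠ 2)
    (hpv : p ≠ v) {i a b r : ℕ} (hr : In t (p ^ f) i r) (hi : nap t i) (ha3 : 3 ≤ a) (ham : mem t a) (hb3 : 3 ≤ b)
    (hbm : mem t b) (hia : na t i a) (hib : na t i b) (hab : na t a b) (hap : ¬ nap t a) (hbp : ¬ nap t b) : r ≠ v := by
  rintro rfl
  have hq3 := h.q_three hp2
  have hpr : p ≠ r := fun e => hr.not_dvd h.fpos (by rw [e])
  have hnp : ¬ ∃ g : G, orderOf g = r * p := fun hg => (h.adjp_iff hr).1 hg hi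
  -- `p ≥ 5`
  have hp3 : p ≠ 3 := by
    intro e
    obtain ⟨g, hg⟩ := hF.irr_v hS (z := 3) Nat.prime_three (by norm_num) (by rw [← e]; exact hpv) cls_three_le
    exact hnp (by
      rw [e, mul_comm]
      exact exists_of_S ⟨g, hg⟩)
  have hp4 : p ≠ 4 := by
    intro e
    have := h.prime
    rw [e] at this
    exact absurd this (by norm_num)
  have hp5 : 5 ≤ p := by
    have := h.prime.two_le
    omega
  have hpG : p ∣ Nat.card G := (h.dvd_iff h.prime).2 h.pdvd
  obtain ⟨hpg, hpS⟩ := hF.good_of_na_v hS h.prime hp5 hpv hpG hnp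
  obtain ⟨x, hx⟩ := exists_in h hq3 ha3 ham
  obtain ⟨y, hy⟩ := exists_in h hq3 hb3 hbm
  have hrx := hr.ne hx (na_ne hia)
  have hry := hr.ne hy (na_ne hib)
  have hnx : ¬ ∃ g : G, orderOf g = r * x := fun hg => (h.adj_iff hr hx hrx).1 hg hia
  have hny : ¬ ∃ g : G, orderOf g = r * y := fun hg => (h.adj_iff hr hy hry).1 hg hib
  obtain ⟨hxg, hxS⟩ := hF.good_of_na_v hS hx.prime hx.five hrx.symm (hx.dvd h) hnx
  obtain ⟨hyg, hyS⟩ := hF.good_of_na_v hS hy.prime hy.five hry.symm (hy.dvd h) hny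
  obtain ⟨p1, p2⟩ := hF.v_nap hS h.prime hp2 hpv hpS fun hg => hnp (exists_of_S hg)
  obtain ⟨x1, x2⟩ := hF.v_nap hS hx.prime hx.ne_two hrx.symm hxS fun hg => hnx (exists_of_S hg)
  obtain ⟨y1, y2⟩ := hF.v_nap hS hy.prime hy.ne_two hry.symm hyS fun hg => hny (exists_of_S hg)
  have hxp : x ≠ p := fun e => hx.not_dvd h.fpos (by rw [e])
  have hyp : y ≠ p := fun e => hy.not_dvd h.fpos (by rw [e])
  have e1 := hF.same_top hS hx.prime h.prime hxp hxS hpS x1 p1 (hF.nap_big hS x2) (hF.nap_big hS p2)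
    (adj_S_of_good hx.prime h.prime hxg hpg ((h.adjp_iff hx).2 hap))
  have e2 := hF.same_top hS hy.prime h.prime hyp hyS hpS y1 p1 (hF.nap_big hS y2) (hF.nap_big hS p2)
    (adj_S_of_good hy.prime h.prime hyg hpg ((h.adjp_iff hy).2 hbp))
  exact h.not_adj_S hx hy hab (adj_same' hF.cla hF.prime hF.is hx.prime hy.prime hx.ne_two hy.ne_two
    (hx.ne hy (na_ne hab)) hrx.symm hry.symm hxS hyS (e1.trans e2.symm))

/-- the pair of classes for `fourJ` -/
def fourA : Fam → ℕ × ℕ
  | .psl 7 => (4, 5)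
  | .psu 7 => (4, 5)
  | .psl 8 => (5, 6)
  | .psu 8 => (5, 6)
  | .oplus 5 => (3, 6)
  | .oplus 6 => (3, 8)
  | .ominus 5 => (3, 6)
  | _ => (0, 0)

/-- the check -/
def fourChk (t : Fam) (i : ℕ) : Bool :=
  decide (3 ≤ (fourA t).1) && memB t (fourA t).1 && decide (3 ≤ (fourA t).2) && memB t (fourA t).2 &&
    naB t i (fourA t).1 && naB t i (fourA t).2 && naB t (fourA t).1 (fourA t).2 && (!napB t (fourA t).1) &&
    !napB t (fourA t).2

theorem four_chk {t : Fam} {i : ℕ} (hi : i ∈ fourJ t) : fourChk t i = true := by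
  unfold fourJ at hi
  split at hi
  · revert hi i; decide
  · revert hi i; decide
  · revert hi i; decide
  · revert hi i; decide
  · revert hi i; decide
  · revert hi i; decide
  · revert hi i; decide
  · exact absurd hi List.not_mem_nil

theorem LS.four_ne_v (h : LS t p f L G) (hR : Red G K S) (hF : Frm G K S t' v f') (hS : BigS t') (hp2 : p ≠ 2)
    (hpv : p ≠ v) {i r : ℕ} (hi : i ∈ fourJ t) (hr : In t (p ^ f) i r) (hin : nap t i) : r ≠ v := by
  have h1 := four_chk hi
  simp only [fourChk, Bool.and_eq_true, decide_eq_true_eq, Bool.not_eq_true'] at h1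
  obtain ⟨⟨⟨⟨⟨⟨⟨⟨a1, a2⟩, a3⟩, a4⟩, a5⟩, a6⟩, a7⟩, a8⟩, a9⟩ := h1
  have hi0 : 0 < i := by have := hr.reg; omega
  refine h.iso_ne_v_aux hR hF hS hp2 hpv hr hin a1 (mem_of_memB a2) a3 (mem_of_memB a4)
    (na_of_naB hi0 (by omega) a5) (na_of_naB hi0 (by omega) a6) (na_of_naB (by omega) (by omega) a7) ?_ ?_
  · rw [nap_iff_napB, a8]
    exact Bool.false_ne_true
  · rw [nap_iff_napB, a9]
    exact Bool.false_ne_true

/-- the isolated classes in the small ranks -/
theorem iso_small {t : Fam} (ht : IsoRk t) (h5 : ¬ Five t) {i : ℕ} (h3 : 3 ≤ i) (hm : mem t i) (hi : nap t i) :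
    (SmallT t ∧ i ∈ smallI t) ∨ i ∈ fourJ t := by
  have h2 : i ≤ 2 * eta i := by
    rcases eta_cases i with ⟨h1, h2⟩ | ⟨h1, h2⟩ <;> omega
  cases t with
  | psl n =>
    change 7 ≤ n at ht
    change ¬ 9 ≤ n at h5
    change n < i + 2 at hi
    change i ≤ n at hm
    have hn : n = 7 ∨ n = 8 := by omega
    right
    rcases hn with rfl | rfl
    · have : i = 6 ∨ i = 7 := by omega
      rcases this with rfl | rfl <;> decide
    · have : i = 7 ∨ i = 8 := by omega
      rcases this with rfl | rfl <;> decide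
  | psu n =>
    change 7 ≤ n at ht
    change ¬ 9 ≤ n at h5
    change n < i + 2 at hi
    change i ≤ n at hm
    have hn : n = 7 ∨ n = 8 := by omega
    right
    rcases hn with rfl | rfl
    · have : i = 6 ∨ i = 7 := by omega
      rcases this with rfl | rfl <;> decide
    · have : i = 7 ∨ i = 8 := by omega
      rcases this with rfl | rfl <;> decide
  | psp n =>
    change 5 ≤ n at ht
    change ¬ 7 ≤ n at h5
    change n < eta i + 1 at hi
    change eta i ≤ n at hm
    have hn : n = 5 ∨ n = 6 := by omega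
    left
    rcases hn with rfl | rfl
    · refine ⟨Or.inl rfl, ?_⟩
      have : i = 5 ∨ i = 10 := by
        rcases eta_cases i with ⟨h1, h2⟩ | ⟨h1, h2⟩ <;> omega
      rcases this with rfl | rfl <;> decide
    · refine ⟨Or.inr rfl, ?_⟩
      have : i = 12 := by
        rcases eta_cases i with ⟨h1, h2⟩ | ⟨h1, h2⟩
        · rw [Nat.odd_iff] at h1
          omega
        · omega
      rw [this]; decide
  | oodd n =>
    change 5 ≤ n at ht
    change ¬ 7 ≤ n at h5
    change n < eta i + 1 at hi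
    change eta i ≤ n at hm
    have hn : n = 5 ∨ n = 6 := by omega
    left
    rcases hn with rfl | rfl
    · refine ⟨Or.inl rfl, ?_⟩
      have : i = 5 ∨ i = 10 := by
        rcases eta_cases i with ⟨h1, h2⟩ | ⟨h1, h2⟩ <;> omega
      rcases this with rfl | rfl <;> decide
    · refine ⟨Or.inr rfl, ?_⟩
      have : i = 12 := by
        rcases eta_cases i with ⟨h1, h2⟩ | ⟨h1, h2⟩
        · rw [Nat.odd_iff] at h1
          omega
        · omega
      rw [this]; decide
  | oplus n =>
    change 5 ≤ n at ht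
    change ¬ 7 ≤ n at h5
    change n < eta i + 2 at hi
    change eta i + 1 ≤ n ∨ (i = n ∧ n % 2 = 1) at hm
    have hn : n = 5 ∨ n = 6 := by omega
    right
    rcases hn with rfl | rfl
    · have : i = 5 ∨ i = 8 := by
        rcases eta_cases i with ⟨h1, h2⟩ | ⟨h1, h2⟩
        · rw [Nat.odd_iff] at h1
          omega
        · omega
      rcases this with rfl | rfl <;> decide
    · have : i = 5 ∨ i = 10 := by
        rcases eta_cases i with ⟨h1, h2⟩ | ⟨h1, h2⟩
        · rw [Nat.odd_iff] at h1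
          omega
        · omega
      rcases this with rfl | rfl <;> decide
  | ominus n =>
    change 5 ≤ n at ht
    change ¬ 7 ≤ n at h5
    change n < eta i + 2 at hi
    change eta i + 1 ≤ n ∨ i = 2 * n at hm
    have hn : n = 5 ∨ n = 6 := by omega
    rcases hn with rfl | rfl
    · right
      have : i = 8 ∨ i = 10 := by
        rcases eta_cases i with ⟨h1, h2⟩ | ⟨h1, h2⟩
        · rw [Nat.odd_iff] at h1
          omega
        · omega
      rcases this with rfl | rfl <;> decide
    · left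
      refine ⟨rfl, ?_⟩
      have : i = 5 ∨ i = 10 ∨ i = 12 := by
        rcases eta_cases i with ⟨h1, h2⟩ | ⟨h1, h2⟩
        · rw [Nat.odd_iff] at h1
          omega
        · omega
      rcases this with rfl | rfl | rfl <;> decide
  | _ => exact ht.elim

/-- **The primes of the isolated classes are different from the characteristic of `S`.** -/
theorem LS.iso_ne_v (h : LS t p f L G) (hR : Red G K S) (hF : Frm G K S t' v f') (hS : BigS t') (hp2 : p ≠ 2)
    (hpv : p ≠ v) (ht : IsoRk t) {i r : ℕ} (hr : In t (p ^ f) i r) (hi : nap t i) : r ≠ v := by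
  have hq3 := h.q_three hp2
  by_cases h5 : Five t
  · refine h.big_ne_v hR hF h5 ?_ (big_of_nap h5 hr.reg hr.mem hi) hr.prime hr.cls_eq
    cases t with
    | psl n => exact fun hq2 => by omega
    | psu n => exact fun hq2 => by omega
    | _ => trivial
  · rcases iso_small ht h5 hr.reg hr.mem hi with ⟨h6, h7⟩ | h6
    · exact h.small_ne_v hR hF hq3 h6 h7 hr.prime hr.cls_eq
    · exact h.four_ne_v hR hF hS hp2 hpv h6 hr hi

end

end Cfsg.Agent.R2.Spec.F1
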