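import Cfsg.Agent.R2.Spec.F1.NcV
import Cfsg.Agent.R2.Spec.F1.GoodS

/-!
# Primes of the radical and the characteristic (helper23)

S-side (`Frm`):
* `Frm.bigS_of_four` : four pairwise nonadjacent primes `≥ 5` of `|S|`: `BigS t`;
* `Frm.k_two` : a prime `s ≠ v` of `|K|` is nonadjacent to primes `≥ 5` of at most one class;
* `Frm.bad_adj_v` : the bad primes `z ≥ 5`, `z ≠ v`, are adjacent to `v`;
* `Frm.v_few` : the primes `≥ 5` nonadjacent to `v` : at most two classes (three for `ominus`).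

L-side (`LS`):
* `LS.bigS` : five pairwise nonadjacent classes give `BigS t'`;
* `LS.kprime_na` : a prime `s ≠ v` of `|K|` is not nonadjacent to two nonadjacent classes;
* `LS.ne_v_of_five` : the primes of a coclique of five classes are different from `v`.
-/

set_option autoImplicit false
set_option linter.unusedSectionVars false
set_option linter.unusedVariables false

namespace Cfsg.Agent.R2.Spec.F1

open Subgroup Cfsg
open Cfsg.Agent.H426.LieFam Cfsg.Agent.R2.Spec Cfsg.Agent.R2.Spec.P1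
open Cfsg.Agent.H420.QR
open Cfsg.Agent.H72

universe u w

section S

variable {G : Type u} [Group G] [Finite G] {K : Subgroup G} [K.Normal] {S : Subgroup (G ⧸ K)} [S.Normal] {t : Fam}
  {v f : ℕ}

/-- the characteristic divides the order -/
theorem Frm.vdvd (h : Frm G K S t v f) : v ∣ Nat.card S := by
  have hcla := h.cla
  have hc : Cfsg.Agent.H228.E3.Cla t := by
    cases t with
    | psl n => trivial
    | psu n => trivial
    | psp n => trivial
    | oodd n => trivial
    | oplus n => trivial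
    | ominus n => trivial
    | _ => exact hcla.elim
  obtain ⟨d, N, h1⟩ := Cfsg.Agent.H228.E3.sh_fam h.prime hc h.is
  exact h1.chr

/-- the categories of the primes in the small families -/
theorem Frm.cat_small (h : Frm G K S t v f) {x : ℕ} (hx : x.Prime) (hx5 : 5 ≤ x) (hxS : x ∣ Nat.card S) :
    (t = .psl 2 → cat t v f x ∈ ({0, 1, 2} : Finset ℕ)) ∧ (t = .psl 3 → cat t v f x ∈ ({0, 1, 2, 3} : Finset ℕ)) ∧
      (t = .psu 3 → cat t v f x ∈ ({1, 2, 3} : Finset ℕ)) ∧
      (t = .psp 2 → cat t v f x ∈ ({0, 1, 2, 4} : Finset ℕ)) := by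
  by_cases hxv : x = v
  · rw [cat, if_pos hxv]
    refine ⟨?_, ?_, ?_, ?_⟩ <;> rintro rfl <;> decide
  · rw [cat, if_neg hxv]
    have h1 := cls_pos (t := t) hx (h.nd hx hxv)
    have hxv' : ¬ x ∣ v := fun hd => hxv ((Nat.prime_dvd_prime_iff_eq hx h.prime).1 hd)
    have hm : 3 ≤ cls t (v ^ f) x → mem t (cls t (v ^ f) x) := fun h3 =>
      ((adjFacts h.cla h.prime h.is).dvd x hx (by omega) hxv' h3).1 hxS
    obtain ⟨i, hi⟩ : ∃ i, i = cls t (v ^ f) x := ⟨_, rfl⟩
    rw [← hi] at h1 hm ⊢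
    refine ⟨?_, ?_, ?_, ?_⟩
    · rintro rfl
      have h2 : i ≤ 2 := by
        by_contra hcon
        have : i ≤ 2 := hm (by omega)
        omega
      simp only [Finset.mem_insert, Finset.mem_singleton]
      omega
    · rintro rfl
      have h2 : i ≤ 3 := by
        by_contra hcon
        have : i ≤ 3 := hm (by omega)
        omega
      simp only [Finset.mem_insert, Finset.mem_singleton]
      omega
    · rintro rfl
      have h2 : i ≤ 3 := by
        by_contra hcon
        have : i ≤ 3 := hm (by omega)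
        omega
      simp only [Finset.mem_insert, Finset.mem_singleton]
      omega
    · rintro rfl
      have h2 : i ≤ 4 ∧ i ≠ 3 := by
        by_cases h3 : 3 ≤ i
        · have h4 : eta i ≤ 2 := hm h3
          rcases eta_cases i with ⟨h5, h6⟩ | ⟨⟨k, hk⟩, h6⟩ <;> omega
        · omega
      simp only [Finset.mem_insert, Finset.mem_singleton]
      omega

/-- **Four pairwise nonadjacent primes.** -/
theorem Frm.bigS_of_four (h : Frm G K S t v f) {X : Finset ℕ} (hX : ∀ x ∈ X, x.Prime ∧ 5 ≤ x ∧ x ∣ Nat.card S)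
    (hXX : ∀ x ∈ X, ∀ y ∈ X, x ≠ y → ¬ ∃ g : S, orderOf g = x * y) (h4 : 4 ≤ X.card) : BigS t := by
  have hinj : Set.InjOn (cat t v f) X := by
    intro x hx y hy hxy
    by_contra hne
    obtain ⟨hxp, hx5, hxS⟩ := hX x hx
    obtain ⟨hyp, hy5, hyS⟩ := hX y hy
    exact hXX x hx y hy hne (h.adj_cat hxp hyp hx5 hy5 hne hxS hyS hxy)
  have key : ∀ {T : Finset ℕ}, (∀ x ∈ X, cat t v f x ∈ T) → X.card ≤ T.card := fun hT =>
    Finset.card_le_card_of_injOn (cat t v f) hT hinj
  have key' : ∀ {T : Finset ℕ}, (∀ x ∈ X, cat t v f x ∈ T) → T.card ≤ 4 → X.image (cat t v f) = T := by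
    intro T hT h5
    apply Finset.eq_of_subset_of_card_le
    · intro c hc
      obtain ⟨x, hx, rfl⟩ := Finset.mem_image.1 hc
      exact hT x hx
    · rw [Finset.card_image_of_injOn hinj]
      omega
  refine ⟨h.cla, ?_, ?_, ?_, ?_⟩
  · intro ht
    have h1 := key (T := {0, 1, 2}) fun x hx => (h.cat_small (hX x hx).1 (hX x hx).2.1 (hX x hx).2.2).1 ht
    have h2 : ({0, 1, 2} : Finset ℕ).card = 3 := by decide
    omega
  · intro ht
    have h1 := key' (T := {0, 1, 2, 3}) (fun x hx => (h.cat_small (hX x hx).1 (hX x hx).2.1 (hX x hx).2.2).2.1 ht)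
      (by decide)
    obtain ⟨x, hx, hx0⟩ := Finset.mem_image.1 (show 0 ∈ X.image (cat t v f) by rw [h1]; decide)
    obtain ⟨y, hy, hy1⟩ := Finset.mem_image.1 (show 1 ∈ X.image (cat t v f) by rw [h1]; decide)
    obtain ⟨hxp, hx5, hxS⟩ := hX x hx
    obtain ⟨hyp, hy5, hyS⟩ := hX y hy
    have hxv : x = v := by
      by_contra hne
      have h2 := cls_pos (t := t) hxp (h.nd hxp hne)
      rw [cat, if_neg hne] at hx0
      omega
    have hyv : y ≠ v := by
      intro hyv
      rw [cat, if_pos hyv, ht] at hy1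
      exact absurd hy1 (by decide)
    have h2 := h.mem_TV hyp (by omega) (Or.inl hy5) hyv hyS fun hg =>
      hXX x hx y hy (by rw [hxv]; exact hyv.symm) (by rw [hxv]; exact hg)
    rw [cat, if_neg hyv] at hy1
    rw [hy1, ht] at h2
    exact absurd h2 (by decide)
  · intro ht
    have h1 := key (T := {1, 2, 3}) fun x hx => (h.cat_small (hX x hx).1 (hX x hx).2.1 (hX x hx).2.2).2.2.1 ht
    have h2 : ({1, 2, 3} : Finset ℕ).card = 3 := by decide
    omega
  · intro ht
    have h1 := key' (T := {0, 1, 2, 4}) (fun x hx => (h.cat_small (hX x hx).1 (hX x hx).2.1 (hX x hx).2.2).2.2.2 ht)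
      (by decide)
    obtain ⟨x, hx, hx1⟩ := Finset.mem_image.1 (show 1 ∈ X.image (cat t v f) by rw [h1]; decide)
    obtain ⟨y, hy, hy2⟩ := Finset.mem_image.1 (show 2 ∈ X.image (cat t v f) by rw [h1]; decide)
    obtain ⟨hxp, hx5, hxS⟩ := hX x hx
    obtain ⟨hyp, hy5, hyS⟩ := hX y hy
    have hne : ∀ {z c : ℕ}, cat t v f z = c → c ≠ 0 → z ≠ v := by
      intro z c hz hc hzv
      rw [cat, if_pos hzv, ht] at hz
      exact hc hz.symm
    have hxv := hne hx1 (by norm_num)
    have hyv := hne hy2 (by norm_num)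
    rw [cat, if_neg hxv] at hx1
    rw [cat, if_neg hyv] at hy2
    have hxy : x ≠ y := by
      rintro rfl
      omega
    have hw := fun {z : ℕ} (hz : z.Prime) (hzv : z ≠ v) (hz2 : cls t (v ^ f) z ≤ 2) (hz5 : 5 ≤ z) =>
      wS_le_one h.cla (by rw [ht]; exact fun n h => by cases h) (by rw [ht]; exact fun n h => by cases h) (by omega)
        (h.nd hz hzv) hz2
    have hwx := hw hxp hxv (by omega) hx5
    have hwy := hw hyp hyv (by omega) hy5
    refine hXX x hx y hy hxy (adj_wS h.cla h.is hxp hyp hxy ?_)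
    have h5 : cS t = 0 := by rw [ht]; rfl
    have h6 : rk t = 2 := by rw [ht]; rfl
    omega

theorem an_unique {t : Fam} (ht : Classical t) {i j : ℕ} (hi : An t i) (hj : An t j) : i = j := by
  cases t with
  | psl n =>
    change i = n at hi
    change j = n at hj
    omega
  | psu n =>
    change i % 2 = 1 ∧ (i = n ∨ i + 1 = n) at hi
    change j % 2 = 1 ∧ (j = n ∨ j + 1 = n) at hj
    omega
  | psp n =>
    change i = 2 * n at hi
    change j = 2 * n at hj
    omega
  | oodd n =>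
    change i = 2 * n at hi
    change j = 2 * n at hj
    omega
  | oplus n =>
    change i + 2 = 2 * n at hi
    change j + 2 = 2 * n at hj
    omega
  | ominus n =>
    change i = 2 * n at hi
    change j = 2 * n at hj
    omega
  | _ => exact ht.elim

/-- a prime nonadjacent to a prime of the radical is anisotropic -/
theorem Frm.k_an (h : Frm G K S t v f) (ht : BigS t) {s : ℕ} (hs : s.Prime) (hsv : s ≠ v) (hsK : s ∣ Nat.card K)
    {x : ℕ} (hx : x.Prime) (hx2 : x ≠ 2) (hxs : x ≠ s) (hxS : x ∣ Nat.card S) (hna : ¬ ∃ g : G, orderOf g = s * x) :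
    x ≠ v ∧ 3 ≤ cls t (v ^ f) x ∧ An t (cls t (v ^ f) x) := by
  have hxv : x ≠ v := by
    rintro rfl
    apply hna
    rw [mul_comm]
    exact h.sv_adj ht hs hsv hsK
  rcases h.kcase hs hsK hsv hx hx2 hxs hxS hna with h1 | h1 | h1 | h1
  · exact absurd h1 hxv
  · exact ⟨hxv, h1⟩
  · exact absurd h1.1 ht.2.1
  · exact absurd h1.1 ht.2.2.2.1

/-- **A prime of the radical is nonadjacent to at most one class.** -/
theorem Frm.k_two (h : Frm G K S t v f) (ht : BigS t) {s : ℕ} (hs : s.Prime) (hsv : s ≠ v) (hsK : s ∣ Nat.card K)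
    {x y : ℕ} (hx : x.Prime) (hy : y.Prime) (hx2 : x ≠ 2) (hy2 : y ≠ 2) (hxs : x ≠ s) (hys : y ≠ s) (hxy : x ≠ y)
    (hxS : x ∣ Nat.card S) (hyS : y ∣ Nat.card S) (hnx : ¬ ∃ g : G, orderOf g = s * x)
    (hny : ¬ ∃ g : G, orderOf g = s * y) : ∃ g : S, orderOf g = x * y := by
  obtain ⟨hxv, hx3, hxA⟩ := h.k_an ht hs hsv hsK hx hx2 hxs hxS hnx
  obtain ⟨hyv, hy3, hyA⟩ := h.k_an ht hs hsv hsK hy hy2 hys hyS hny
  exact adj_same' h.cla h.prime h.is hx hy hx2 hy2 hxy hxv hyv hxS hyS (an_unique h.cla hxA hyA)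

/-- **The bad primes are adjacent to the characteristic.** -/
theorem Frm.bad_adj_v (h : Frm G K S t v f) (ht : BigS t) {z : ℕ} (hz : z.Prime) (hz5 : 5 ≤ z) (hzv : z ≠ v)
    (hzB : z ∣ Nat.card K * S.index) : ∃ g : G, orderOf g = v * z := by
  by_cases hzK : z ∣ Nat.card K
  · exact h.sv_adj ht hz hzv hzK
  · have hzi : z ∣ S.index := (hz.dvd_mul.1 hzB).resolve_left hzK
    have hvS : v ∣ Nat.card S := h.vdvd
    by_contra hna
    by_cases hzd : z ∣ dg t (v ^ f)
    · obtain ⟨h1, -, -⟩ := h.dcase hz hz5 hzd h.prime hzv.symm fun hg => hna (by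
        rw [mul_comm]
        exact exists_of_S hg)
      exact (cls_facts h.prime h1).2.1 (dvd_pow_self v h.f_ne)
    · have hfd := fldDat_cls h.cla h.center h.prime h.is hz hz5 hzd
      apply hna
      rw [mul_comm]
      exact exists_of_quot (hfd.adj h.cent hz hzi h.prime hzv (Or.inl rfl) hvS)

/-- the primes nonadjacent to the characteristic: their number of classes -/
theorem Frm.v_few (h : Frm G K S t v f) {X : Finset ℕ} (hX : ∀ x ∈ X, x.Prime ∧ 5 ≤ x ∧ x ≠ v ∧ x ∣ Nat.card S)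
    (hvX : ∀ x ∈ X, ¬ ∃ g : S, orderOf g = v * x) (hXX : ∀ x ∈ X, ∀ y ∈ X, x ≠ y → ¬ ∃ g : S, orderOf g = x * y) :
    X.card ≤ 3 ∧ (3 ≤ X.card → (∃ n, t = .ominus n) ∧ X.image (fun x => cls t (v ^ f) x) = TV t) := by
  have hinj : Set.InjOn (fun x => cls t (v ^ f) x) X := by
    intro x hx y hy hxy
    by_contra hne
    obtain ⟨hxp, hx5, hxv, hxS⟩ := hX x hx
    obtain ⟨hyp, hy5, hyv, hyS⟩ := hX y hy
    exact hXX x hx y hy hne (adj_same' h.cla h.prime h.is hxp hyp (by omega) (by omega) hne hxv hyv hxS hyS hxy)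
  have h1 : ∀ x ∈ X, cls t (v ^ f) x ∈ TV t := by
    intro x hx
    obtain ⟨hxp, hx5, hxv, hxS⟩ := hX x hx
    exact h.mem_TV hxp (by omega) (Or.inl hx5) hxv hxS (hvX x hx)
  have h2 : X.card ≤ (TV t).card := Finset.card_le_card_of_injOn _ h1 hinj
  refine ⟨h2.trans (card_TV' t), fun h3 => ⟨?_, ?_⟩⟩
  · by_contra hcon
    push Not at hcon
    have h4 := h2.trans (card_TV t hcon)
    omega
  · apply Finset.eq_of_subset_of_card_le
    · intro c hc
      obtain ⟨x, hx, rfl⟩ := Finset.mem_image.1 hc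
      exact h1 x hx
    · rw [Finset.card_image_of_injOn hinj]
      exact (card_TV' t).trans h3

end S

section L

variable {t : Fam} {p f : ℕ} {L : Type w} [Group L] [Finite L] {G : Type u} [Group G] [Finite G]
variable {K : Subgroup G} [K.Normal] {S : Subgroup (G ⧸ K)} [S.Normal]
variable {t' : Fam} {v f' : ℕ}

/-- nonadjacency in `S` from the classes of `L` -/
theorem LS.not_adj_S (h : LS t p f L G) {i j r s : ℕ} (hr : In t (p ^ f) i r) (hs : In t (p ^ f) j s)
    (hij : na t i j) : ¬ ∃ g : S, orderOf g = r * s := fun hg =>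
  (h.adj_iff hr hs (hr.ne hs (na_ne hij))).1 (exists_of_S hg) hij

/-- the primes of a coclique of classes are good, except for at most one class -/
theorem LS.good_or (h : LS t p f L G) (hR : Red G K S) {I : Finset ℕ} {z : ℕ → ℕ}
    (hz : ∀ j ∈ I, In t (p ^ f) j (z j)) (hna : ∀ j ∈ I, ∀ k ∈ I, j ≠ k → na t j k) (h3 : 3 ≤ I.card) :
    ∃ a, ∀ j ∈ I.erase a, ¬ z j ∣ Nat.card K * S.index ∧ z j ∣ Nat.card S := by
  by_cases hall : ∀ j ∈ I, ¬ z j ∣ Nat.card K * S.index
  · refine ⟨0, fun j hj => ⟨hall j (Finset.mem_of_mem_erase hj), ?_⟩⟩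
    have h1 := (hz j (Finset.mem_of_mem_erase hj)).dvd h
    rw [card_eq_mul (K := K) (S := S)] at h1
    exact ((hz j (Finset.mem_of_mem_erase hj)).prime.dvd_mul.1 h1).resolve_right (hall j (Finset.mem_of_mem_erase hj))
  · push Not at hall
    obtain ⟨a, ha, hbad⟩ := hall
    refine ⟨a, fun j hj => ?_⟩
    have hjI := Finset.mem_of_mem_erase hj
    have hja := Finset.ne_of_mem_erase hj
    obtain ⟨k, hk, hka, hkj⟩ := exists_third h3 a j
    exact h.good_of_bad hR (hz a ha) (hz j hjI) (hz k hk) (hna a ha j hjI hja.symm) (hna a ha k hk hka.symm)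
      (hna j hjI k hk hkj.symm) hbad

/-- **Five classes: `S` is not small.** -/
theorem LS.bigS (h : LS t p f L G) (hR : Red G K S) (hF : Frm G K S t' v f') {I : Finset ℕ}
    (hreg : ∀ j ∈ I, 3 ≤ j ∧ mem t j) (hna : ∀ j ∈ I, ∀ k ∈ I, j ≠ k → na t j k)
    (hex : ∀ j ∈ I, ∃ r : ℕ, r.Prime ∧ cls t (p ^ f) r = j) (h5 : 5 ≤ I.card) : BigS t' := by
  classical
  choose! z hz using hex
  have hzI : ∀ j ∈ I, In t (p ^ f) j (z j) := fun j hj => ⟨(hz j hj).1, (hz j hj).2, (hreg j hj).1, (hreg j hj).2⟩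
  obtain ⟨a, ha⟩ := h.good_or hR hzI hna (by omega)
  have hinj : Set.InjOn z ((I.erase a : Finset ℕ) : Set ℕ) := by
    intro j hj k hk hjk
    by_contra hne
    exact (hzI j (Finset.mem_of_mem_erase hj)).ne (hzI k (Finset.mem_of_mem_erase hk)) hne hjk
  have hcard : ((I.erase a).image z).card = (I.erase a).card := Finset.card_image_of_injOn hinj
  have h4 : 4 ≤ (I.erase a).card := by
    have := Finset.pred_card_le_card_erase (s := I) (a := a)
    omega
  refine hF.bigS_of_four (X := (I.erase a).image z) ?_ ?_ (by omega)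
  · intro x hx
    obtain ⟨j, hj, rfl⟩ := Finset.mem_image.1 hx
    have h6 := hzI j (Finset.mem_of_mem_erase hj)
    exact ⟨h6.prime, h6.five, (ha j hj).2⟩
  · intro x hx y hy hxy
    obtain ⟨j, hj, rfl⟩ := Finset.mem_image.1 hx
    obtain ⟨k, hk, rfl⟩ := Finset.mem_image.1 hy
    have hjk : j ≠ k := fun hjk => hxy (by rw [hjk])
    exact h.not_adj_S (hzI j (Finset.mem_of_mem_erase hj)) (hzI k (Finset.mem_of_mem_erase hk))
      (hna j (Finset.mem_of_mem_erase hj) k (Finset.mem_of_mem_erase hk) hjk)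

/-- **A prime of the radical different from the characteristic is not nonadjacent to two nonadjacent classes.** -/
theorem LS.kprime_na (h : LS t p f L G) (hR : Red G K S) (hF : Frm G K S t' v f') (hS : BigS t') {s : ℕ}
    (hs : s.Prime) (hsv : s ≠ v) (hsK : s ∣ Nat.card K) {i j x y : ℕ} (hx : In t (p ^ f) i x) (hy : In t (p ^ f) j y)
    (hij : na t i j) (hxs : x ≠ s) (hys : y ≠ s) (hnx : ¬ ∃ g : G, orderOf g = s * x)
    (hny : ¬ ∃ g : G, orderOf g = s * y) : False := by
  have hxy := hx.ne hy (na_ne hij)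
  have hxyG : ¬ ∃ g : G, orderOf g = x * y := fun hg => (h.adj_iff hx hy hxy).1 hg hij
  have hsG : s ∣ Nat.card G := by
    rw [card_eq_mul (K := K) (S := S)]
    exact Dvd.dvd.mul_left (hsK.mul_right _) _
  have hbad : s ∣ Nat.card K * S.index := hsK.mul_right _
  obtain ⟨-, hxS⟩ := Red.two_bad hR hs hx.prime hy.prime hsG (hx.dvd h) (hy.dvd h) hxs.symm hys.symm hxy hnx hny hxyG hbad
  obtain ⟨-, hyS⟩ := Red.two_bad hR hs hy.prime hx.prime hsG (hy.dvd h) (hx.dvd h) hys.symm hxs.symm hxy.symm hny hnx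
    (fun ⟨g, hg⟩ => hxyG ⟨g, by rw [hg, mul_comm]⟩) hbad
  exact hxyG (exists_of_S (hF.k_two hS hs hsv hsK hx.prime hy.prime hx.ne_two hy.ne_two hxs hys hxy hxS hyS hnx hny))

/-- the defining characteristic in the radical -/
theorem LS.p_kprime (h : LS t p f L G) (hR : Red G K S) (hF : Frm G K S t' v f') (hS : BigS t') (hpv : p ≠ v)
    {i j x y : ℕ} (hx : In t (p ^ f) i x) (hy : In t (p ^ f) j y) (hij : na t i j) (hni : nap t i) (hnj : nap t j) :
    ¬ p ∣ Nat.card K := by
  intro hpK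
  have hxp : x ≠ p := fun hxp => hx.not_dvd h.fpos (by rw [hxp])
  have hyp : y ≠ p := fun hyp => hy.not_dvd h.fpos (by rw [hyp])
  exact h.kprime_na hR hF hS h.prime hpv hpK hx hy hij hxp hyp
    (fun hg => (h.adjp_iff hx).1 (by rwa [mul_comm] at hg) hni)
    (fun hg => (h.adjp_iff hy).1 (by rwa [mul_comm] at hg) hnj)

/-- a regular class in the radical -/
theorem LS.cls_kprime (h : LS t p f L G) (hR : Red G K S) (hF : Frm G K S t' v f') (hS : BigS t') {k s : ℕ}
    (hs : In t (p ^ f) k s) (hsv : s ≠ v) {i j x y : ℕ} (hx : In t (p ^ f) i x)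
    (hy : In t (p ^ f) j y) (hij : na t i j) (hki : na t k i) (hkj : na t k j) : ¬ s ∣ Nat.card K := by
  intro hsK
  have hsx := hs.ne hx (na_ne hki)
  have hsy := hs.ne hy (na_ne hkj)
  exact h.kprime_na hR hF hS hs.prime hsv hsK hx hy hij hsx.symm hsy.symm
    (fun hg => (h.adj_iff hs hx hsx).1 hg hki) (fun hg => (h.adj_iff hs hy hsy).1 hg hkj)

/-- a prime nonadjacent to the characteristic is good -/
theorem Frm.good_of_na_v (hF : Frm G K S t' v f') (hS : BigS t') {z : ℕ} (hz : z.Prime) (hz5 : 5 ≤ z) (hzv : z ≠ v)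
    (hzG : z ∣ Nat.card G) (hna : ¬ ∃ g : G, orderOf g = v * z) : ¬ z ∣ Nat.card K * S.index ∧ z ∣ Nat.card S := by
  have h1 : ¬ z ∣ Nat.card K * S.index := fun hd => hna (hF.bad_adj_v hS hz hz5 hzv hd)
  refine ⟨h1, ?_⟩
  rw [card_eq_mul (K := K) (S := S)] at hzG
  exact (hz.dvd_mul.1 hzG).resolve_right h1

/-- **The classes nonadjacent to the characteristic of `S`.** -/
theorem LS.v_few (h : LS t p f L G) (hR : Red G K S) (hF : Frm G K S t' v f') (hS : BigS t') {J : Finset ℕ} {z : ℕ → ℕ}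
    (hJ : ∀ j ∈ J, In t (p ^ f) j (z j)) (hJJ : ∀ j ∈ J, ∀ k ∈ J, j ≠ k → na t j k) (hv : ∀ j ∈ J, z j ≠ v)
    (hvJ : ∀ j ∈ J, ¬ ∃ g : G, orderOf g = v * z j) :
    (∀ j ∈ J, ¬ z j ∣ Nat.card K * S.index ∧ z j ∣ Nat.card S) ∧ J.card ≤ 3 ∧
      (3 ≤ J.card → (∃ n, t' = .ominus n) ∧ J.image (fun j => cls t' (v ^ f') (z j)) = TV t') := by
  classical
  have hgood : ∀ j ∈ J, ¬ z j ∣ Nat.card K * S.index ∧ z j ∣ Nat.card S := fun j hj =>
    hF.good_of_na_v hS (hJ j hj).prime (hJ j hj).five (hv j hj) ((hJ j hj).dvd h) (hvJ j hj)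
  have hinj : Set.InjOn z (J : Set ℕ) := by
    intro j hj k hk hjk
    by_contra hne
    exact (hJ j hj).ne (hJ k hk) hne hjk
  have hcard : (J.image z).card = J.card := Finset.card_image_of_injOn hinj
  have h1 := hF.v_few (X := J.image z) (by
    intro x hx
    obtain ⟨j, hj, rfl⟩ := Finset.mem_image.1 hx
    exact ⟨(hJ j hj).prime, (hJ j hj).five, hv j hj, (hgood j hj).2⟩) (by
    intro x hx
    obtain ⟨j, hj, rfl⟩ := Finset.mem_image.1 hx
    exact fun hg => hvJ j hj (exists_of_S hg)) (by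
    intro x hx y hy hxy
    obtain ⟨j, hj, rfl⟩ := Finset.mem_image.1 hx
    obtain ⟨k, hk, rfl⟩ := Finset.mem_image.1 hy
    have hjk : j ≠ k := fun hjk => hxy (by rw [hjk])
    exact h.not_adj_S (hJ j hj) (hJ k hk) (hJJ j hj k hk hjk))
  rw [hcard] at h1
  refine ⟨hgood, h1.1, fun h3 => ⟨(h1.2 h3).1, ?_⟩⟩
  rw [← (h1.2 h3).2, Finset.image_image]
  rfl

/-- **The primes of a coclique of five classes are different from the characteristic of `S`.** -/
theorem LS.ne_v_of_five (h : LS t p f L G) (hR : Red G K S) (hF : Frm G K S t' v f') {I : Finset ℕ}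
    (hreg : ∀ j ∈ I, 3 ≤ j ∧ mem t j) (hna : ∀ j ∈ I, ∀ k ∈ I, j ≠ k → na t j k)
    (hex : ∀ j ∈ I, ∃ r : ℕ, r.Prime ∧ cls t (p ^ f) r = j) (h5 : 5 ≤ I.card) {i r : ℕ} (hi : i ∈ I) (hr : r.Prime)
    (hri : cls t (p ^ f) r = i) : r ≠ v := by
  classical
  intro hrv
  have hS := h.bigS hR hF hreg hna hex h5
  choose! z hz using hex
  have hzI : ∀ j ∈ I, In t (p ^ f) j (z j) := fun j hj => ⟨(hz j hj).1, (hz j hj).2, (hreg j hj).1, (hreg j hj).2⟩
  have hrI : In t (p ^ f) i r := ⟨hr, hri, (hreg i hi).1, (hreg i hi).2⟩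
  have hcard : (I.erase i).card = I.card - 1 := Finset.card_erase_of_mem hi
  have key : ∀ j ∈ I.erase i, na t i j := fun j hj =>
    hna i hi j (Finset.mem_of_mem_erase hj) (Finset.ne_of_mem_erase hj).symm
  have h1 := (h.v_few hR hF hS (J := I.erase i) (z := z) (fun j hj => hzI j (Finset.mem_of_mem_erase hj))
    (fun j hj k hk => hna j (Finset.mem_of_mem_erase hj) k (Finset.mem_of_mem_erase hk)) (by
      intro j hj hzv
      exact hrI.ne (hzI j (Finset.mem_of_mem_erase hj)) (na_ne (key j hj)) (hrv.trans hzv.symm)) (by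
      intro j hj hg
      rw [← hrv] at hg
      exact (h.adj_iff hrI (hzI j (Finset.mem_of_mem_erase hj))
        (hrI.ne (hzI j (Finset.mem_of_mem_erase hj)) (na_ne (key j hj)))).1 hg (key j hj))).2.1
  omega

end L

end Cfsg.Agent.R2.Spec.F1
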