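import Cfsg.Agent.R2.Spec.F1.MovFix
import Cfsg.Agent.H228.MovAdj

/-!
# The moving primes of the classical groups (helper23)

* `An t i` : the anisotropic classes;
* `movW_cls` : a prime of a regular class which is not anisotropic moves a `v`-subgroup (`MovW`).
-/

set_option autoImplicit false
set_option linter.unusedSectionVars false

namespace Cfsg.Agent.R2.Spec.F1

open Cfsg Cfsg.Agent.H426.LieFam Cfsg.Agent.R2.Spec Cfsg.Agent.R2.Spec.P1

universe u

/-- the anisotropic classes: the primes of these classes lie in no proper parabolic subgroup -/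
def An : Fam → ℕ → Prop
  | .psl n, i => i = n
  | .psu n, i => i % 2 = 1 ∧ (i = n ∨ i + 1 = n)
  | .psp n, i => i = 2 * n
  | .oodd n, i => i = 2 * n
  | .oplus n, i => i + 2 = 2 * n
  | .ominus n, i => i = 2 * n
  | _, _ => True

/-- the classical groups have the Borel–Tits property -/
theorem isLieFilt {t : Fam} (ht : Classical t) {v f : ℕ} {S : Type u} [Group S] (h : Fam.Is v f S t) :
    Cfsg.Agent.KFacts.RgdLieCharP.IsLieFilt v S := by
  cases t with
  | psl n =>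
    obtain ⟨hn, h2, F, i1, i2, hch, hF, e⟩ := h
    exact Or.inl ⟨F, i1, i2, hch, n, hn, fun h => by rw [hF]; exact h2 h, e⟩
  | psp n =>
    obtain ⟨hn, h2, F, i1, i2, hch, hF, e⟩ := h
    exact Or.inr (Or.inl ⟨F, i1, i2, hch, n, hn, fun h => by rw [hF]; exact h2 h, e⟩)
  | psu n =>
    obtain ⟨hn, h2, F, i1, i2, hch, hF, e⟩ := h
    exact Or.inr (Or.inr (Or.inl ⟨F, i1, i2, hch, n, _, hF, hn, h2, e⟩))
  | oodd n =>
    obtain ⟨hn, h2, F, i1, i2, hch, hF, e⟩ := h
    exact Or.inr (Or.inr (Or.inr (Or.inl ⟨F, i1, i2, hch, n, hn, by rw [hF]; exact h2, e⟩)))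
  | oplus n =>
    obtain ⟨hn, F, i1, i2, hch, hF, e⟩ := h
    exact Or.inr (Or.inr (Or.inr (Or.inr (Or.inl ⟨F, i1, i2, hch, n, hn, e⟩))))
  | ominus n =>
    obtain ⟨hn, F, i1, i2, hch, a, b, hF, hab, e⟩ := h
    exact Or.inr (Or.inr (Or.inr (Or.inr (Or.inr (Or.inl ⟨F, i1, i2, hch, n, a, b, hn, hab, e⟩)))))
  | g2 => exact ht.elim
  | f4 => exact ht.elim
  | e6 => exact ht.elim
  | e7 => exact ht.elim
  | e8 => exact ht.elim
  | td4 => exact ht.elim
  | te6 => exact ht.elim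
  | sz => exact ht.elim
  | tf4 => exact ht.elim
  | ree => exact ht.elim

section num

theorem dvd_sub_one_of_co {q w e : ℕ} (hq : 1 ≤ q) (h : co q w ∣ e) : w ∣ q ^ e - 1 := by
  have h1 : ((q : ℕ) : ZMod w) ^ e = 1 := orderOf_dvd_iff_pow_eq_one.1 h
  rw [← ZMod.natCast_eq_zero_iff, Nat.cast_sub (Nat.one_le_pow _ _ hq)]
  push_cast
  rw [h1, sub_self]

theorem co_dvd_of {q w e : ℕ} (hq : 1 ≤ q) (h : w ∣ q ^ e - 1) : co q w ∣ e := by
  rw [co, orderOf_dvd_iff_pow_eq_one]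
  rw [← ZMod.natCast_eq_zero_iff, Nat.cast_sub (Nat.one_le_pow _ _ hq)] at h
  push_cast at h
  exact sub_eq_zero.1 h

/-- the classes modulo a Fermat prime -/
theorem four_dvd_orderOf {w k : ℕ} (hw : w.Prime) (hk : w = 2 ^ k + 1) {x : ZMod w} (hx : x ≠ 0) (h3 : 3 ≤ orderOf x) :
    4 ∣ orderOf x := by
  have := Fact.mk hw
  have h1 : orderOf x ∣ w - 1 := orderOf_dvd_of_pow_eq_one (ZMod.pow_card_sub_one_eq_one hx)
  have h2 : w - 1 = 2 ^ k := Nat.sub_eq_of_eq_add hk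
  rw [h2] at h1
  obtain ⟨j, hj, hj'⟩ := (Nat.dvd_prime_pow Nat.prime_two).1 h1
  rw [hj'] at h3 ⊢
  rcases Nat.lt_or_ge j 2 with h | h
  · interval_cases j <;> omega
  · exact ⟨2 ^ (j - 2), by rw [show (4 : ℕ) = 2 ^ 2 by norm_num, ← pow_add]; congr 1; omega⟩

theorem cls_pos_ne {t : Fam} {q w : ℕ} (h3 : 3 ≤ cls t q w) : ((sg t q : ℤ) : ZMod w) ≠ 0 := by
  intro h
  rw [cls, h] at h3
  rcases Nat.eq_zero_or_pos (orderOf (0 : ZMod w)) with h1 | h1
  · omega
  · by_cases hnt : Nontrivial (ZMod w)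
    · have h2 : (0 : ZMod w) ^ orderOf (0 : ZMod w) = 1 := pow_orderOf_eq_one _
      rw [zero_pow h1.ne'] at h2
      exact zero_ne_one h2
    · have : Subsingleton (ZMod w) := not_nontrivial_iff_subsingleton.1 hnt
      rw [Subsingleton.elim (0 : ZMod w) 1, orderOf_one] at h3
      omega

end num

section fams

open Cfsg.Agent.LieClassical.OrthCount Cfsg.Agent.LieClassical.OmegaReindex Cfsg.Agent.LieClassical

variable {v f n w : ℕ} {S : Type u} [Group S]

theorem cast_ne_of {F : Type*} [Field F] {v w : ℕ} [CharP F v] (hw : w.Prime) (hv : v.Prime) (hwv : ¬ w ∣ v) :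
    (w : F) ≠ 0 := by
  intro h
  rw [CharP.cast_eq_zero_iff F v] at h
  exact hwv (by rw [(Nat.prime_dvd_prime_iff_eq hv hw).1 h])

theorem movA_fam_psl (hv : v.Prime) (h : Fam.Is v f S (.psl n)) (hw : w.Prime)
    (h3 : 3 ≤ cls (.psl n) (v ^ f) w) (hle : cls (.psl n) (v ^ f) w + 1 ≤ n) : MovA S v w := by
  obtain ⟨hn, h2, F, _, _, hch, hF, ⟨e⟩⟩ := h
  rw [cls_eq_co (by intro k; exact fun h => by cases h)] at h3 hle
  obtain ⟨k, rfl⟩ : ∃ k, n = k + 1 := ⟨n - 1, by omega⟩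
  rw [MovA.congr e]
  have hq : 1 ≤ v ^ f := Nat.one_le_pow _ _ hv.pos
  refine movA_psl hv hw (e := co (v ^ f) w) (by omega) (by omega) ?_ ?_
  · rw [hF]
    exact dvd_sub_one_of_co hq dvd_rfl
  · rw [hF]
    intro h
    have h4 := co_dvd_of (w := w) (e := 1) hq (by rwa [pow_one])
    have := Nat.le_of_dvd (by norm_num) h4
    omega

theorem movA_fam_psu (hv : v.Prime) (h : Fam.Is v f S (.psu n)) (hw : w.Prime)
    (h3 : 3 ≤ cls (.psu n) (v ^ f) w) (hle : cls (.psu n) (v ^ f) w ≤ n) (he : cls (.psu n) (v ^ f) w % 2 = 0) :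
    MovA S v w := by
  obtain ⟨hn, h2, F, _, _, hch, hF, ⟨e⟩⟩ := h
  obtain ⟨i, hi⟩ : ∃ i, i = cls (.psu n) (v ^ f) w := ⟨_, rfl⟩
  rw [← hi] at h3 hle he
  rw [MovA.congr e]
  have hq : 1 ≤ v ^ f := Nat.one_le_pow _ _ hv.pos
  have hsg : ((sg (.psu n) (v ^ f) : ℤ) : ZMod w) = -((v ^ f : ℕ) : ZMod w) := by
    simp only [sg]
    push_cast
    ring
  have hev : Even i := Nat.even_iff.2 he
  refine movA_psu hF hv hw hn (e := i / 2) (by omega) (by omega) ?_ ?_
  · have h1 : Fintype.card F ^ (i / 2) = (v ^ f) ^ i := by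
      rw [hF, ← pow_mul]
      congr 1
      omega
    rw [h1, ← ZMod.natCast_eq_zero_iff, Nat.cast_sub (Nat.one_le_pow _ _ hq), Nat.cast_pow, Nat.cast_one]
    have h4 : ((sg (.psu n) (v ^ f) : ℤ) : ZMod w) ^ i = 1 := by
      rw [hi, cls]
      exact pow_orderOf_eq_one _
    rw [hsg, hev.neg_pow] at h4
    rw [h4, sub_self]
  · intro h
    have h4 : ((sg (.psu n) (v ^ f) : ℤ) : ZMod w) ^ 2 = 1 := by
      rw [← ZMod.natCast_eq_zero_iff, Nat.cast_sub (Nat.one_le_pow _ _ hq), Nat.cast_pow, Nat.cast_one] at h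
      rw [hsg, neg_sq]
      exact sub_eq_zero.1 h
    have h5 := Nat.le_of_dvd (by norm_num) (orderOf_dvd_of_pow_eq_one h4)
    rw [hi, cls] at h3
    omega

theorem movA_fam_psp_odd (hv : v.Prime) (h : Fam.Is v f S (.psp n)) (hw : w.Prime) (hw2 : w ≠ 2)
    (h3 : 3 ≤ cls (.psp n) (v ^ f) w) (hle : cls (.psp n) (v ^ f) w ≤ n) : MovA S v w := by
  obtain ⟨hn, h2, F, _, _, hch, hF, ⟨e⟩⟩ := h
  rw [cls_eq_co (by intro k; exact fun h => by cases h)] at h3 hle
  rw [MovA.congr e]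
  have hq : 1 ≤ v ^ f := Nat.one_le_pow _ _ hv.pos
  refine movA_psp hv hw hw2 (e := co (v ^ f) w) (by omega) (by omega) ?_
  rw [hF]
  exact dvd_sub_one_of_co hq dvd_rfl

theorem movA_fam_psp_two (h : Fam.Is 2 f S (.psp n)) (hw : w.Prime) (hw2 : w ≠ 2)
    (h3 : 3 ≤ cls (.psp n) (2 ^ f) w) (hle : eta (cls (.psp n) (2 ^ f) w) + 1 ≤ n) : MovA S 2 w := by
  obtain ⟨hn, h2, F, _, _, hch, hF, ⟨e⟩⟩ := h
  rw [cls_eq_co (by intro k; exact fun h => by cases h), ← hF] at h3 hle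
  obtain ⟨k, rfl⟩ : ∃ k, n = 1 + k := ⟨n - 1, by omega⟩
  rw [MovA.congr e]
  have h4 := one_le_eta (k := co (Fintype.card F) w) (by omega)
  have : Finite (Matrix.symplecticGroup (Fin (1 + k)) F) := Finite.of_injective _ Subtype.val_injective
  refine MovA.quot _ (center_sp Nat.prime_two) Nat.prime_two hw (movA_sp_two (k := k) hw hw2 ?_)
  have h5 := (psp_dvd (F := F) (n := k) (by omega) hw hw2 h3).2 (by omega)
  exact h5.trans (Subgroup.card_quotient_dvd_card _)

theorem movA_fam_oodd (hv : v.Prime) (h : Fam.Is v f S (.oodd n)) (hw : w.Prime) (hw2 : w ≠ 2) (hwv : ¬ w ∣ v)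
    (h3 : 3 ≤ cls (.oodd n) (v ^ f) w) (hle : cls (.oodd n) (v ^ f) w ≤ n) : MovA S v w := by
  obtain ⟨hn, ho, F, _, _, hch, hF, ⟨e⟩⟩ := h
  rw [cls_eq_co (by intro k; exact fun h => by cases h)] at h3 hle
  rw [MovA.congr e]
  have hq : 1 ≤ v ^ f := Nat.one_le_pow _ _ hv.pos
  have hv2 : v ≠ 2 := by
    rintro rfl
    have hf : f ≠ 0 := by
      rintro rfl
      have := Fintype.one_lt_card (α := F)
      rw [hF, pow_zero] at this
      omega
    rw [Nat.odd_pow_iff hf] at ho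
    exact absurd ho (by decide)
  refine movA_odd hv hv2 hn hw hw2 (by rintro rfl; exact hwv dvd_rfl) (e := co (v ^ f) w) (by omega) (by omega) ?_
  rw [hF]
  exact dvd_sub_one_of_co hq dvd_rfl

theorem movA_fam_oplus (hv : v.Prime) (h : Fam.Is v f S (.oplus n)) (hw : w.Prime) (hw2 : w ≠ 2) (hwv : ¬ w ∣ v)
    (h3 : 3 ≤ cls (.oplus n) (v ^ f) w) (hm : mem (.oplus n) (cls (.oplus n) (v ^ f) w))
    (ha : ¬ An (.oplus n) (cls (.oplus n) (v ^ f) w)) : MovA S v w := by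
  obtain ⟨hn, F, _, _, hch, hF, ⟨e⟩⟩ := h
  have hcl : cls (.oplus n) (v ^ f) w = co (Nat.card F) w := by
    rw [cls_eq_co (by intro k; exact fun h => by cases h), Nat.card_eq_fintype_card, hF]
  rw [hcl] at h3 hm ha
  have hm' := eta_eq_iff_plus.2 hm
  rw [MovA.congr e]
  have hq : 1 ≤ Nat.card F := Nat.card_pos
  have hvw : v ≠ w := by rintro rfl; exact hwv dvd_rfl
  have hwF : (w : F) ≠ 0 := cast_ne_of hw hv hwv
  obtain ⟨m, rfl⟩ : ∃ m, n = 1 + m := ⟨n - 1, by omega⟩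
  by_cases hodd : co (Nat.card F) w % 2 = 1 ∧ co (Nat.card F) w ≤ 1 + m
  · refine movA_plus hv (by omega) hw hw2 hvw (e := co (Nat.card F) w) (by omega) hodd.2 ?_
    rw [← Nat.card_eq_fintype_card]
    exact dvd_sub_one_of_co hq dvd_rfl
  · have hD := data_plus (F := F) (m := 1 + m) (by omega)
    have h4 : MovA (Cfsg.isometryGroup F (quadPlus (1 + m) F)) v w := by
      rw [coe_quadPlus]
      refine movA_plus_of_elt (by omega) hw hwF ?_
      refine Cfsg.Agent.H72.AdjOrth.elt_extend (elt_cls (F := F) hw h3) (sgn_pm _) (Or.inl rfl) ?_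
      rcases eta_cases (co (Nat.card F) w) with ⟨h5, h6⟩ | ⟨h5, h6⟩
      · rw [Nat.odd_iff] at h5
        omega
      · have h7 : ¬ co (Nat.card F) w + 2 = 2 * (1 + m) := ha
        rcases hm' with h8 | ⟨h8, h9⟩
        · omega
        · rw [Nat.even_iff] at h5
          rw [sgn, if_pos (Nat.even_iff.2 h5)] at h9
          norm_num at h9
    rw [← coe_quadPlus]
    exact movA_pomega hD hv hw hw2 hvw h4

theorem movA_fam_ominus (hv : v.Prime) (h : Fam.Is v f S (.ominus n)) (hw : w.Prime) (hw2 : w ≠ 2) (hwv : ¬ w ∣ v)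
    (h3 : 3 ≤ cls (.ominus n) (v ^ f) w) (hm : mem (.ominus n) (cls (.ominus n) (v ^ f) w))
    (ha : ¬ An (.ominus n) (cls (.ominus n) (v ^ f) w)) : MovA S v w := by
  obtain ⟨hn, F, _, _, hch, a, b, hF, hab, ⟨e⟩⟩ := h
  have hcl : cls (.ominus n) (v ^ f) w = co (Nat.card F) w := by
    rw [cls_eq_co (by intro k; exact fun h => by cases h), Nat.card_eq_fintype_card, hF]
  rw [hcl] at h3 hm ha
  have hm' := eta_eq_iff_minus.2 hm
  rw [MovA.congr e]
  have hq : 1 ≤ Nat.card F := Nat.card_pos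
  have hvw : v ≠ w := by rintro rfl; exact hwv dvd_rfl
  have hwF : (w : F) ≠ 0 := cast_ne_of hw hv hwv
  obtain ⟨m, rfl⟩ : ∃ m, n = m + 1 := ⟨n - 1, by omega⟩
  change MovA (POmega F (quadFormMinus m F a b)) v w
  have h7 : ¬ co (Nat.card F) w = 2 * (m + 1) := ha
  by_cases hodd : co (Nat.card F) w % 2 = 1 ∧ co (Nat.card F) w ≤ m
  · refine movA_minus hv (by omega) hab hw hw2 hvw (e := co (Nat.card F) w) (by omega) hodd.2 ?_
    rw [← Nat.card_eq_fintype_card]
    exact dvd_sub_one_of_co hq dvd_rfl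
  · have hD := data_minus (F := F) (m := m) (by omega) hab
    have h4 : MovA (Cfsg.isometryGroup F (quadMinus m F a b)) v w := by
      rw [coe_quadMinus]
      refine movA_minus_of_elt (by omega) hw hwF hab ?_
      rcases eta_cases (co (Nat.card F) w) with ⟨h5, h6⟩ | ⟨h5, h6⟩
      · rw [Nat.odd_iff] at h5
        rcases hm' with h8 | ⟨h8, h9⟩
        · omega
        · rw [sgn, if_neg (by rw [Nat.not_even_iff]; exact h5)] at h9
          norm_num at h9
      · rw [Nat.even_iff] at h5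
        rcases Nat.lt_or_ge (eta (co (Nat.card F) w)) m with h8 | h8
        · exact Cfsg.Agent.H72.AdjOrth.elt_extend (elt_cls (F := F) hw h3) (sgn_pm _) (Or.inr rfl) (by omega)
        · have h9 : eta (co (Nat.card F) w) = m := by
            rcases hm' with h8 | ⟨h8, h9⟩ <;> omega
          have h10 := elt_cls (F := F) hw h3
          rw [h9, sgn, if_pos (Nat.even_iff.2 h5)] at h10
          exact h10
    rw [← coe_quadMinus]
    exact movA_pomega hD hv hw hw2 hvw h4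

end fams

/-- **The moving primes of the classical groups.** -/
theorem movW_cls {t : Fam} (ht : Classical t) {v f : ℕ} {S : Type u} [Group S] [Finite S] [IsSimpleGroup S]
    (hna : ∃ a b : S, a * b ≠ b * a) (hv : v.Prime) (h : Fam.Is v f S t) {w : ℕ} (hw : w.Prime) (hw2 : w ≠ 2)
    (hwv : ¬ w ∣ v) (h3 : 3 ≤ cls t (v ^ f) w) (hm : mem t (cls t (v ^ f) w)) (ha : ¬ An t (cls t (v ^ f) w)) :
    MovW S v w := by
  have := Fact.mk hv
  have hadj := adjFacts ht hv h
  -- adjacency with `v`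
  have key : ¬ nap t (cls t (v ^ f) w) → (v ≠ 2 ∨ ∀ k : ℕ, w ≠ 2 ^ k + 1) → MovW S v w := by
    intro hp hv2
    exact MovW.of_mov (Cfsg.Agent.H228.MovAdj.mov_of_adj (isLieFilt ht h) hna hw (by rintro rfl; exact hwv dvd_rfl)
      ((hadj.adjp w hw hw2 hwv h3 hm).2 hp)) hv2
  cases t with
  | psl n =>
    have h1 : cls (.psl n) (v ^ f) w ≤ n := hm
    have h2 : ¬ cls (.psl n) (v ^ f) w = n := ha
    exact (movA_fam_psl hv h hw h3 (by omega)).movW
  | psu n =>
    have h1 : cls (.psu n) (v ^ f) w ≤ n := hm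
    by_cases he : cls (.psu n) (v ^ f) w % 2 = 0
    · exact (movA_fam_psu hv h hw h3 h1 he).movW
    · have h2 : ¬ (cls (.psu n) (v ^ f) w % 2 = 1 ∧ (cls (.psu n) (v ^ f) w = n ∨ cls (.psu n) (v ^ f) w + 1 = n)) := ha
      refine key (fun (h : n < _ + 2) => h2 ⟨by omega, by omega⟩) ?_
      right
      intro k hk
      have h4 : 4 ∣ cls (.psu n) (v ^ f) w := four_dvd_orderOf hw hk (cls_pos_ne h3) h3
      omega
  | psp n =>
    have h1 : eta (cls (.psp n) (v ^ f) w) ≤ n := hm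
    have h2 : ¬ cls (.psp n) (v ^ f) w = 2 * n := ha
    rcases eta_cases (cls (.psp n) (v ^ f) w) with ⟨h5, h6⟩ | ⟨h5, h6⟩
    · exact (movA_fam_psp_odd hv h hw hw2 h3 (by omega)).movW
    · rcases eq_or_ne v 2 with rfl | hv2
      · exact (movA_fam_psp_two h hw hw2 h3 (by omega)).movW
      · exact key (fun (h : n < _ + 1) => by omega) (Or.inl hv2)
  | oodd n =>
    have h1 : eta (cls (.oodd n) (v ^ f) w) ≤ n := hm
    have h2 : ¬ cls (.oodd n) (v ^ f) w = 2 * n := ha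
    rcases eta_cases (cls (.oodd n) (v ^ f) w) with ⟨h5, h6⟩ | ⟨h5, h6⟩
    · exact (movA_fam_oodd hv h hw hw2 hwv h3 (by omega)).movW
    · refine key (fun (h : n < _ + 1) => by omega) (Or.inl ?_)
      rintro rfl
      obtain ⟨hn, ho, F, _, _, hch, hF, e⟩ := h
      have hf : f ≠ 0 := by
        rintro rfl
        have := Fintype.one_lt_card (α := F)
        rw [hF, pow_zero] at this
        omega
      rw [Nat.odd_pow_iff hf] at ho
      exact absurd ho (by decide)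
  | oplus n => exact (movA_fam_oplus hv h hw hw2 hwv h3 hm ha).movW
  | ominus n => exact (movA_fam_ominus hv h hw hw2 hwv h3 hm ha).movW
  | g2 => exact ht.elim
  | f4 => exact ht.elim
  | e6 => exact ht.elim
  | e7 => exact ht.elim
  | e8 => exact ht.elim
  | td4 => exact ht.elim
  | te6 => exact ht.elim
  | sz => exact ht.elim
  | tf4 => exact ht.elim
  | ree => exact ht.elim

/-- **The primes of the radical, classical case**: `s ∣ |K|`, `s ≠ v`, is adjacent to the primes of the regular classes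
which are not anisotropic. -/
theorem kadj_cls {t : Fam} (ht : Classical t) {v f : ℕ} {G : Type u} [Group G] [Finite G] {K : Subgroup G} [K.Normal]
    (hKn : Group.IsNilpotent K) {S : Subgroup (G ⧸ K)} [S.Normal] (hS : IsSimpleGroup S)
    (hna : ∃ a b : S, a * b ≠ b * a) (hv : v.Prime) (h : Fam.Is v f S t) {s w : ℕ} (hs : s.Prime) (hsv : s ≠ v)
    (hsK : s ∣ Nat.card K) (hw : w.Prime) (hw2 : w ≠ 2) (hwv : ¬ w ∣ v) (hws : w ≠ s) (h3 : 3 ≤ cls t (v ^ f) w)
    (hm : mem t (cls t (v ^ f) w)) (ha : ¬ An t (cls t (v ^ f) w)) : ∃ x : G, orderOf x = w * s :=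
  kadj hKn hS hs hw hv hw2 (by rintro rfl; exact hwv dvd_rfl) hsv.symm hws hsK (movW_cls ht hna hv h hw hw2 hwv h3 hm ha)

end Cfsg.Agent.R2.Spec.F1
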