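import Cfsg.Agent.R2.Spec.F1.MovU
import Cfsg.Agent.R2.Spec.P1.Main
import Cfsg.Agent.H425.MovFix
import Cfsg.Agent.H208.LSidePSp

/-!
# Abelian moved subgroups: stabilizers of singular vectors (helper23)

* `movA_fixed` : an isometry of prime order `r ≠ p` fixing a nonzero singular vector;
* `movA_plus_of_elt`, `movA_minus_of_elt` : `PΩ^±_{2m}(q)`, an element of order `r` in the orthogonal group of dimension
  `2 m - 2` of the same type;
* `movA_sp_two` : `PSp_{2m}(q)`, `q` even, `r` divides the order of `Sp_{2m-2}(q)`.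
-/

set_option autoImplicit false
set_option linter.unusedSectionVars false

namespace Cfsg.Agent.R2.Spec.F1

open Cfsg QuadraticMap LinearMap Module
open Cfsg.Agent.ClassicalGeometry.OrthCharTwo Cfsg.Agent.H404.Siegel Cfsg.Agent.H425.KStep Cfsg.Agent.H425.MinusBd
open Cfsg.Agent.LieClassical.OrthCore Cfsg.Agent.LieClassical.OrthCount Cfsg.Agent.LieClassical.OmegaReindex
open Cfsg.Agent.H425.Fix

universe u

section fixed

variable {F : Type*} [Field F] {ι : Type} [Fintype ι] [DecidableEq ι] {Q : QuadraticForm F (ι → F)}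

theorem movA_fixed {p r : ℕ} [CharP F p] (hQ : ∀ x, (∀ y, polar Q x y = 0) → x = 0)
    (x : Cfsg.isometryGroup F (⇑Q)) (hx : orderOf x = r) (hr1 : r ≠ 1) (hrF : (r : F) ≠ 0) {e : ι → F} (he0 : e ≠ 0)
    (he : Q e = 0) (hxe : act x e = e) : MovA (Cfsg.isometryGroup F (⇑Q)) p r := by
  have hlin : lin x ^ r = 1 := by
    ext1 v
    apply LinearMap.ext
    intro w
    change (lin x ^ r) _ = _
    rw [lin_pow, ← hx, pow_orderOf_eq_one, act_one]
    rfl
  have hx1 : x ≠ 1 := by
    rintro rfl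
    exact hr1 (by rw [← hx, orderOf_one])
  obtain ⟨v, hv⟩ : ∃ v, act x v ≠ v := by
    by_contra hcon
    push Not at hcon
    exact hx1 (act_ext fun v => by rw [hcon v, act_one])
  set w := act x v - v with hw
  have hw0 : w ≠ 0 := sub_ne_zero.2 hv
  have hwr : w ∈ LinearMap.range (lin x - 1) := ⟨v, rfl⟩
  have hew : polar Q e w = 0 := by
    rw [hw, polar_sub_right, sub_eq_zero]
    conv_lhs => rw [← hxe]
    exact polar_act x e v
  have hxw : polar Q e (act x w) = 0 := by
    conv_lhs => rw [← hxe]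
    rw [show polar Q (act x e) (act x w) = polar Q e w from polar_act x e w, hew]
  let P : Subgroup (Cfsg.isometryGroup F (⇑Q)) :=
    { carrier := {g | ∃ u, polar Q e u = 0 ∧ IsE e u g}
      one_mem' := ⟨0, by rw [polar_zero_right], fun z => by rw [act_one]; simp⟩
      mul_mem' := by
        rintro a b ⟨u, hu, ha⟩ ⟨u', hu', hb⟩
        exact ⟨u + u', by rw [polar_add_right, hu, hu', add_zero], isE_mul he hu hu' ha hb⟩
      inv_mem' := by
        rintro a ⟨u, hu, ha⟩
        exact ⟨-u, by rw [polar_neg_right, hu, neg_zero], isE_inv he hu ha⟩ }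
  obtain ⟨E, hE⟩ := exists_E (Q := Q) e w he hew
  refine ⟨P, x, ?_, hx, ?_, ⟨E, ⟨w, hew, hE⟩, ?_⟩, ?_⟩
  · rintro ⟨g, u, hu, hg⟩
    refine ⟨1, Subtype.ext ?_⟩
    change g ^ p ^ 1 = 1
    have h1 := isE_pow he hu hg p
    rw [CharP.cast_eq_zero, zero_smul] at h1
    rw [pow_one]
    exact isE_zero_iff h1
  · rintro g ⟨u, hu, hg⟩
    have h1 := isE_conj hg x
    rw [hxe] at h1
    refine ⟨act x u, ?_, h1⟩
    conv_lhs => rw [← hxe]
    rw [show polar Q (act x e) (act x u) = polar Q e u from polar_act x e u, hu]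
  · intro hc
    have h1 := isE_conj hE x
    rw [hxe, hc, mul_inv_cancel_right] at h1
    obtain ⟨f, hf⟩ : ∃ f, polar Q e f ≠ 0 := by
      by_contra hcon
      push Not at hcon
      exact he0 (hQ e hcon)
    have h2 := (hE f).symm.trans (h1 f)
    -- `act x w - w` is a multiple of `e`
    set c := (polar Q e f)⁻¹ * (polar Q (act x w) f + Q (act x w) * polar Q e f - polar Q w f - Q w * polar Q e f) with hc'
    have h3 : act x w - w = c • e := by
      have h4 : polar Q e f • (act x w - w) =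
          (polar Q (act x w) f + Q (act x w) * polar Q e f - polar Q w f - Q w * polar Q e f) • e := by
        have h5 : f + polar Q e f • w - polar Q w f • e - (Q w * polar Q e f) • e =
          f + polar Q e f • act x w - polar Q (act x w) f • e - (Q (act x w) * polar Q e f) • e := h2
        linear_combination (norm := module) (-1 : F) • h5
      rw [hc', mul_smul, ← h4, smul_smul, inv_mul_cancel₀ hf, one_smul]
    have h4 : lin x (c • e) = c • e := by rw [lin_apply, act_smul, hxe]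
    have h5 : c • e ∈ LinearMap.range (lin x - 1) := ⟨w, by rw [← h3]; rfl⟩
    have h6 := range_fix hrF hlin _ h5 h4
    rw [h6, sub_eq_zero] at h3
    exact hw0 (range_fix hrF hlin w hwr h3)
  · rintro a ⟨u, hu, ha⟩ b ⟨u', hu', hb⟩
    have h1 := isE_mul he hu hu' ha hb
    have h2 := isE_mul he hu' hu hb ha
    rw [add_comm u' u] at h2
    exact act_ext fun z => (h1 z).trans (h2 z).symm

end fixed

section elt

open Cfsg.Agent.H377 Cfsg.Agent.H403.Classify Cfsg.Agent.LieClassical.OrthForms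

variable {F : Type*} [Field F] [Finite F]

/-- an isometry of an abstract space as an element of the isometry group -/
theorem exists_isom_of {ι : Type} [Fintype ι] [DecidableEq ι] (Q : QuadraticForm F (ι → F)) (hQ : Nondeg Q)
    {V : Type*} [AddCommGroup V] [Module F V] (Q' : V → F) (e : (ι → F) ≃ₗ[F] V)
    (he : ∀ u, Q' (e u) = Q u) (T : Module.End F V) (hT : ∀ v, Q' (T v) = Q' v) :
    ∃ M : isometryGroup F ⇑Q, orderOf M = orderOf T ∧ ∀ x, act M x = e.symm (T (e x)) := by
  classical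
  let φ : Module.End F V ≃ₐ[F] Matrix ι ι F := (e.symm.conjAlgEquiv F).trans LinearMap.toMatrixAlgEquiv'
  have hφ : ∀ (S : Module.End F V) (x : ι → F), (φ S).mulVec x = e.symm (S (e x)) := by
    intro S x
    show (LinearMap.toMatrix' (e.symm.conj S)).mulVec x = _
    rw [LinearMap.toMatrix'_mulVec]
    rfl
  have hM : ∀ x, Q ((φ T).mulVec x) = Q x := by
    intro x
    rw [← he, ← he, hφ, e.apply_symm_apply, hT]
  have hinj : ∀ x, (φ T).mulVec x = 0 → x = 0 := by
    intro x hx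
    apply hQ
    intro y
    have h1 : QuadraticMap.polar Q ((φ T).mulVec x) ((φ T).mulVec y) = QuadraticMap.polar Q x y := by
      rw [QuadraticMap.polar, QuadraticMap.polar, ← Matrix.mulVec_add, hM, hM, hM]
    rw [← h1, hx]
    simp [QuadraticMap.polar]
  have hunit : IsUnit (φ T) := by
    rw [← Matrix.mulVec_injective_iff_isUnit]
    intro x y hxy
    have h1 : (φ T).mulVec (x - y) = 0 := by
      rw [Matrix.mulVec_sub]
      exact sub_eq_zero.2 hxy
    exact sub_eq_zero.1 (hinj _ h1)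
  obtain ⟨M, hM'⟩ := hunit
  have hmem : M ∈ isometryGroup F ⇑Q := by
    rw [Cfsg.Agent.LieClassical.OrthFinite.mem_isometryGroup_iff]
    intro x
    rw [hM']
    exact hM x
  refine ⟨⟨M, hmem⟩, ?_, ?_⟩
  · have h1 : orderOf (φ T) = orderOf T := orderOf_injective (φ : Module.End F V →* Matrix ι ι F) φ.injective T
    rw [← h1, ← hM', orderOf_units, ← Subgroup.orderOf_coe]
  · intro x
    rw [← hφ, ← hM']
    rfl

theorem movA_of_hyp {ι : Type} [Fintype ι] [DecidableEq ι] {Q : QuadraticForm F (ι → F)} (hQ : Nondeg Q) {p r : ℕ}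
    [CharP F p] (hr : r.Prime) (hrF : (r : F) ≠ 0)
    {A : Type*} [AddCommGroup A] [Module F A] {Q₁ : QuadraticForm F A} {T : Module.End F A}
    (hT : ∀ v, Q₁ (T v) = Q₁ v) (ho : orderOf T = r) (e : (ι → F) ≃ₗ[F] ((F × F) × A))
    (he : ∀ u, sumQ (hypQ F) Q₁ (e u) = Q u) : MovA (isometryGroup F (⇑Q)) p r := by
  obtain ⟨M, hM1, hM2⟩ := exists_isom_of Q hQ _ e he ((1 : Module.End F (F × F)).prodMap T) (by
    intro v
    rw [sumQ_apply, sumQ_apply, LinearMap.prodMap_apply, hT]
    rfl)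
  rw [orderOf_prodMap, orderOf_one, Nat.lcm_one_left, ho] at hM1
  refine movA_fixed hQ M hM1 hr.one_lt.ne' hrF (e := e.symm ((1, 0), 0)) ?_ ?_ ?_
  · intro h
    have h1 := (LinearEquiv.map_eq_zero_iff _).1 h
    exact one_ne_zero (congrArg (fun z : (F × F) × A => z.1.1) h1)
  · rw [← he, e.apply_symm_apply, sumQ_apply, hypQ_apply]
    simp
  · rw [hM2, e.apply_symm_apply]
    congr 1
    rw [LinearMap.prodMap_apply]
    simp

theorem exists_hyp_of_elt {m : ℕ} {δ : ℤ} {r : ℕ} (h : Elt F m δ r) :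
    ∃ (Q₁ : QuadraticForm F (Fin (2 * m) → F)) (T : Module.End F (Fin (2 * m) → F)), (∀ v, Q₁ (T v) = Q₁ v) ∧
      orderOf T = r ∧ Nondeg (sumQ (hypQ F) Q₁) ∧ HasSign (⇑(sumQ (hypQ F) Q₁)) (1 + m) δ := by
  obtain ⟨-, Q₁, T, hQ₁, hs, hT, ho⟩ := h
  have h1 := (hasSign_mul (F := F)).prod hs
  rw [one_mul] at h1
  exact ⟨Q₁, T, hT, ho, sumQ_nondeg hypQ_nondeg hQ₁, h1⟩

theorem movA_plus_of_elt {m p r : ℕ} [CharP F p] (hm : 1 ≤ m) (hr : r.Prime) (hrF : (r : F) ≠ 0)
    (h : Elt F m 1 r) : MovA (isometryGroup F (quadFormPlus (1 + m) F)) p r := by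
  obtain ⟨Q₁, T, hT, ho, hnd, hs⟩ := exists_hyp_of_elt h
  obtain ⟨e, he⟩ := exists_plus (m := 1 + m) (by omega) (by
    rw [Module.finrank_prod, Module.finrank_prod, Module.finrank_self, Module.finrank_fin_fun]; ring) _ hnd hs
  rw [← coe_plusForm]
  exact movA_of_hyp (nondeg_plusForm (1 + m) F) hr hrF hT ho e (fun u => by rw [he, coe_plusForm])

theorem movA_minus_of_elt {m p r : ℕ} [CharP F p] (hm : 1 ≤ m) (hr : r.Prime) (hrF : (r : F) ≠ 0) {a b : F}
    (hab : ∀ z₁ z₂ : F, z₁ ^ 2 + a * z₁ * z₂ + b * z₂ ^ 2 = 0 → z₁ = 0 ∧ z₂ = 0)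
    (h : Elt F m (-1) r) : MovA (isometryGroup F (quadFormMinus m F a b)) p r := by
  obtain ⟨Q₁, T, hT, ho, hnd, hs⟩ := exists_hyp_of_elt h
  obtain ⟨e, he⟩ : ∃ e : (((Fin m ⊕ Fin m) ⊕ Fin 2 → F) ≃ₗ[F] (F × F) × (Fin (2 * m) → F)),
      ∀ u, sumQ (hypQ F) Q₁ (e u) = quadFormMinus m F a b u := by
    have h1 := exists_minus (m := 1 + m) (by omega) (by
      rw [Module.finrank_prod, Module.finrank_prod, Module.finrank_self, Module.finrank_fin_fun]; ring) _ hnd hs hab
    have hm1 : 1 + m - 1 = m := by omega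
    rw [hm1] at h1
    exact h1
  rw [← coe_minusForm]
  exact movA_of_hyp (nondeg_minusForm m F a b hab) hr hrF hT ho e (fun u => by rw [he, coe_minusForm])

end elt

section sp

open Cfsg.Agent.ClassicalGeometry.SympBasic Cfsg.Agent.ClassicalGeometry

variable {F : Type*} [Field F]

theorem sp_comm_of_two [CharP F 2] {m : ℕ} {e : Fin m ⊕ Fin m → F} {a b : Matrix.symplecticGroup (Fin m) F}
    (ha : a ∈ SympSiegel.Q e) (hb : b ∈ SympSiegel.Q e) : a * b = b * a := by
  obtain ⟨w, c, h, rfl⟩ := ha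
  obtain ⟨w', c', h', rfl⟩ := hb
  rw [SympSiegel.siegel_mul h h', SympSiegel.siegel_mul h' h, add_comm w w', add_comm c c', sympForm_swap w' w]
  congr 2
  exact (CharTwo.neg_eq _).symm

/-- **the symplectic group in characteristic two** -/
theorem movA_sp_fixed [Finite F] [CharP F 2] {m r : ℕ} (hr : r.Prime) (hr2 : r ≠ 2) {e : Fin m ⊕ Fin m → F} (he : e ≠ 0)
    {x : Matrix.symplecticGroup (Fin m) F} (hx : orderOf x = r) (hxe : x • e = e) :
    MovA (Matrix.symplecticGroup (Fin m) F) 2 r := by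
  have := Fact.mk Nat.prime_two
  refine ⟨SympSiegel.Q e, x, SympSiegel.isPGroup_Q 2 e, hx, ?_, ?_, fun a ha b hb => sp_comm_of_two ha hb⟩
  · intro a ha
    have h1 := (SympSiegel.smul_mem_Q_iff x e a).2 ha
    rwa [hxe] at h1
  · by_contra hcon
    push Not at hcon
    have hxQ : x ∈ SympSiegel.Q e := by
      rw [SympSiegel.mem_Q_iff he]
      refine ⟨hxe, fun v hv => ?_⟩
      have h1 := hcon _ (SympSiegel.siegel_mem_Q hv 0)
      have h2 := SympSiegel.conj_siegel x hv 0
      rw [h1, mul_inv_cancel_right, hxe] at h2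
      have h3 : sympForm m F e (x • v) = 0 := by
        conv_lhs => rw [← hxe]
        rw [SympSiegel.form_smul, hv]
      obtain ⟨a, ha, -⟩ := SympSiegel.siegel_eq_siegel he h3 hv h2.symm
      exact ⟨a, ha⟩
    have h1 := orderOf_dvd_of_pow_eq_one (SympSiegel.pow_char_eq_one_of_mem_Q (p := 2) hxQ)
    rw [hx] at h1
    exact hr2 ((Nat.prime_dvd_prime_iff_eq hr Nat.prime_two).1 h1)

theorem movA_sp_two [Finite F] [CharP F 2] {k r : ℕ} (hr : r.Prime) (hr2 : r ≠ 2)
    (h : r ∣ Nat.card (Matrix.symplecticGroup (Fin k) F)) :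
    MovA (Matrix.symplecticGroup (Fin (1 + k)) F) 2 r := by
  have := Fact.mk hr
  have : Finite (Matrix.symplecticGroup (Fin k) F) := Finite.of_injective _ Subtype.val_injective
  obtain ⟨s, hs⟩ := exists_prime_orderOf_dvd_card' r h
  refine movA_sp_fixed hr hr2 (e := Cfsg.Agent.ClassicalGeometry.SympAutCentral.E F (⟨0, by omega⟩ : Fin (1 + k))) ?_
    (x := Cfsg.Agent.H208.LSidePSp.low k s) ?_ (Cfsg.Agent.H208.LSidePSp.low_smul k s)
  · intro h0
    have h1 := congrFun h0 (Sum.inl ⟨0, by omega⟩)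
    rw [Cfsg.Agent.ClassicalGeometry.SympAutCentral.E, Pi.single_eq_same] at h1
    exact one_ne_zero h1
  · rw [orderOf_injective _ (Cfsg.Agent.H208.LSidePSp.low_injective k), hs]

end sp

end Cfsg.Agent.R2.Spec.F1
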