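import Cfsg.Agent.R2.Spec.F1.FrobH
import Cfsg.Agent.R2.Spec.F1.MovCl
import Cfsg.Agent.R2.Spec.P1.Exp
import Cfsg.Agent.H376.PrimeOrd

/-!
# Elements of prime power order moving `v`-subgroups (helper23)

* `MovG S v w g` : an element `x` of order `w ^ (g + 1)` normalizes an abelian `v`-subgroup and `x ^ (w ^ g)` moves it;
* `MovH S v w g` : the same, not necessarily abelian;
* the linear part (Siegel parabolic subgroups) of the classical groups.
-/

set_option autoImplicit false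
set_option linter.unusedSectionVars false

namespace Cfsg.Agent.R2.Spec.F1

open Subgroup Matrix
open Cfsg.Agent.H425.Siegel

universe u

/-- an element of order `w ^ (g + 1)` normalizes an abelian `v`-subgroup, its power of order `w` does not centralize it -/
def MovG (S : Type*) [Group S] (v w g : ℕ) : Prop :=
  ∃ (P : Subgroup S) (x : S), IsPGroup v P ∧ orderOf x = w ^ (g + 1) ∧ (∀ a ∈ P, x * a * x⁻¹ ∈ P) ∧
    (∃ a ∈ P, x ^ w ^ g * a ≠ a * x ^ w ^ g) ∧ ∀ a ∈ P, ∀ b ∈ P, a * b = b * a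

/-- the same, not necessarily abelian -/
def MovH (S : Type*) [Group S] (v w g : ℕ) : Prop :=
  ∃ (P : Subgroup S) (x : S), IsPGroup v P ∧ orderOf x = w ^ (g + 1) ∧ (∀ a ∈ P, x * a * x⁻¹ ∈ P) ∧
    ∃ a ∈ P, x ^ w ^ g * a ≠ a * x ^ w ^ g

theorem MovG.map {S T : Type*} [Group S] [Group T] (f : S →* T) (hf : Function.Injective f) {v w g : ℕ}
    (h : MovG S v w g) : MovG T v w g := by
  obtain ⟨P, x, hP, hx, hn, ⟨a, ha, hne⟩, hv⟩ := h
  refine ⟨P.map f, f x, hP.map f, by rw [orderOf_injective f hf, hx], ?_, ⟨f a, ⟨a, ha, rfl⟩, ?_⟩, ?_⟩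
  · rintro _ ⟨b, hb, rfl⟩
    exact ⟨x * b * x⁻¹, hn b hb, by rw [map_mul, map_mul, map_inv]⟩
  · intro h
    rw [← map_pow, ← map_mul, ← map_mul] at h
    exact hne (hf h)
  · rintro _ ⟨b, hb, rfl⟩ _ ⟨c, hc, rfl⟩
    rw [← map_mul, ← map_mul, hv b hb c hc]

theorem MovG.congr {S T : Type*} [Group S] [Group T] (e : S ≃* T) {v w g : ℕ} : MovG S v w g ↔ MovG T v w g :=
  ⟨fun h => h.map e.toMonoidHom e.injective, fun h => h.map e.symm.toMonoidHom e.symm.injective⟩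

theorem MovG.movH {S : Type*} [Group S] {v w g : ℕ} (h : MovG S v w g) : MovH S v w g := by
  obtain ⟨P, x, hP, hx, hn, ha, -⟩ := h
  exact ⟨P, x, hP, hx, hn, ha⟩

theorem movG_of_homs {O A V : Type*} [Group O] [Group A] [AddCommGroup V] {p r g : ℕ} (hV : ∀ v : V, p • v = 0)
    (d : A →* O) (u : Multiplicative V →* O) (hu : Function.Injective u) (act : A → V → V)
    (h : ∀ a v, d a * u (Multiplicative.ofAdd v) * (d a)⁻¹ = u (Multiplicative.ofAdd (act a v))) {a : A}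
    (ha : orderOf (d a) = r ^ (g + 1)) {v : V} (hv : act (a ^ r ^ g) v ≠ v) : MovG O p r g := by
  refine ⟨u.range, d a, ?_, ha, ?_, ⟨u (Multiplicative.ofAdd v), ⟨_, rfl⟩, ?_⟩, ?_⟩
  · rintro ⟨_, w, rfl⟩
    refine ⟨1, Subtype.ext ?_⟩
    change (u w) ^ p ^ 1 = 1
    rw [pow_one, ← map_pow]
    have h1 : w ^ p = 1 := hV (Multiplicative.toAdd w)
    rw [h1, map_one]
  · rintro _ ⟨w, rfl⟩
    exact ⟨Multiplicative.ofAdd (act a (Multiplicative.toAdd w)), (h a (Multiplicative.toAdd w)).symm⟩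
  · intro hc
    apply hv
    have h1 := h (a ^ r ^ g) v
    rw [map_pow, hc, mul_inv_cancel_right] at h1
    exact (Multiplicative.ofAdd.injective (hu h1)).symm
  · rintro _ ⟨b, rfl⟩ _ ⟨c, rfl⟩
    rw [← map_mul, ← map_mul, mul_comm]

/-- passing to a normal subgroup containing the elements of order `w ^ (g + 1)` -/
theorem MovG.sub {O : Type*} [Group O] (N : Subgroup O) [hNn : N.Normal] {v w g : ℕ}
    (hN : ∀ x : O, x ^ w ^ (g + 1) = 1 → x ∈ N)
    (hv : v.Prime) (hw : w.Prime) (hvw : v ≠ w) (h : MovG O v w g) : MovG N v w g := by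
  obtain ⟨P, x, hP, hx, hn, ⟨a, ha, hne⟩, hab⟩ := h
  have hxN : x ∈ N := hN x (by rw [← hx, pow_orderOf_eq_one])
  have hP' : IsPGroup v (P.subgroupOf N) := by
    rintro ⟨⟨b, hbN⟩, hb⟩
    obtain ⟨k, hk⟩ := hP ⟨b, hb⟩
    have h1 : b ^ v ^ k = 1 := congrArg Subtype.val hk
    exact ⟨k, Subtype.ext (Subtype.ext h1)⟩
  refine ⟨P.subgroupOf N, ⟨x, hxN⟩, hP', by rw [Subgroup.orderOf_mk, hx], fun b hb => hn b hb, ?_,
    fun b hb c hc => Subtype.ext (hab b hb c hc)⟩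
  by_contra hcon
  push Not at hcon
  apply hne
  obtain ⟨y, hy⟩ : ∃ y : O, y = x ^ w ^ g := ⟨_, rfl⟩
  have hyN : y ∈ N := hy ▸ N.pow_mem hxN _
  have hyw : y ^ w = 1 := by rw [hy, ← pow_mul, ← pow_succ, ← hx, pow_orderOf_eq_one]
  have hyP : ∀ b ∈ P, y * b * y⁻¹ ∈ P := by
    rw [hy]
    have key : ∀ k : ℕ, ∀ b ∈ P, x ^ k * b * (x ^ k)⁻¹ ∈ P := by
      intro k
      induction k with
      | zero => intro b hb; simpa using hb
      | succ k ih =>
        intro b hb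
        have h1 : x ^ (k + 1) * b * (x ^ (k + 1))⁻¹ = x * (x ^ k * b * (x ^ k)⁻¹) * x⁻¹ := by
          rw [pow_succ']; group
        rw [h1]
        exact hn _ (ih b hb)
    exact key _
  rw [← hy] at hne ⊢
  obtain ⟨c, hc⟩ : ∃ c : O, c = y * a * y⁻¹ * a⁻¹ := ⟨_, rfl⟩
  have hcP : c ∈ P := hc ▸ P.mul_mem (hyP a ha) (P.inv_mem ha)
  have hcN : c ∈ N := by
    rw [hc]
    have h1 : y * a * y⁻¹ * a⁻¹ = y * (a * y⁻¹ * a⁻¹) := by group
    rw [h1]
    exact N.mul_mem hyN (hNn.conj_mem _ (N.inv_mem hyN) a)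
  have hyc : y * c = c * y := by
    have h1 := congrArg Subtype.val (hcon ⟨c, hcN⟩ hcP)
    rw [hy]
    exact h1
  have hpow : ∀ k : ℕ, y ^ k * a * (y ^ k)⁻¹ = c ^ k * a := by
    intro k
    induction k with
    | zero => simp
    | succ k ih =>
      have h1 : y ^ (k + 1) * a * (y ^ (k + 1))⁻¹ = y * (y ^ k * a * (y ^ k)⁻¹) * y⁻¹ := by
        rw [pow_succ']; group
      have h2 : y * c ^ k = c ^ k * y := (Commute.pow_right (show Commute y c from hyc) k).eq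
      have h3 : y * a * y⁻¹ = c * a := by rw [hc]; group
      rw [h1, ih, ← mul_assoc, h2, mul_assoc (c ^ k), mul_assoc (c ^ k), h3, ← mul_assoc, pow_succ]
  have h1 := hpow w
  rw [hyw, one_mul, inv_one, mul_one, right_eq_mul] at h1
  obtain ⟨k, hk⟩ := hP ⟨c, hcP⟩
  have hk' : c ^ v ^ k = 1 := congrArg Subtype.val hk
  have h2 : Nat.Coprime w (v ^ k) := Nat.Coprime.pow_right _ ((Nat.coprime_primes hw hv).2 hvw.symm)
  have h3 : c = 1 := by
    have h4 := orderOf_dvd_of_pow_eq_one h1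
    have h5 := orderOf_dvd_of_pow_eq_one hk'
    exact orderOf_eq_one_iff.1 (Nat.eq_one_of_dvd_coprimes h2 h4 h5)
  rw [h3, eq_comm, mul_inv_eq_one, mul_inv_eq_iff_eq_mul] at hc
  exact hc

/-- passing to the quotient by a normal subgroup of order prime to `v` -/
theorem MovG.quot {O : Type*} [Group O] [Finite O] (Z : Subgroup O) [Z.Normal] {v w g : ℕ} (hZ : ¬ v ∣ Nat.card Z)
    (hv : v.Prime) (hw : w.Prime) (h : MovG O v w g) : MovG (O ⧸ Z) v w g := by
  obtain ⟨P, x, hP, hx, hn, ⟨a, ha, hne⟩, hab⟩ := h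
  have hyP : ∀ b ∈ P, x ^ w ^ g * b * (x ^ w ^ g)⁻¹ ∈ P := by
    have key : ∀ k : ℕ, ∀ b ∈ P, x ^ k * b * (x ^ k)⁻¹ ∈ P := by
      intro k
      induction k with
      | zero => intro b hb; simpa using hb
      | succ k ih =>
        intro b hb
        have h1 : x ^ (k + 1) * b * (x ^ (k + 1))⁻¹ = x * (x ^ k * b * (x ^ k)⁻¹) * x⁻¹ := by
          rw [pow_succ']; group
        rw [h1]
        exact hn _ (ih b hb)
    exact key _
  have hc : QuotientGroup.mk' Z x ^ w ^ g * QuotientGroup.mk' Z a ≠ QuotientGroup.mk' Z a * QuotientGroup.mk' Z x ^ w ^ g := by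
    intro hc
    have h1 : (x ^ w ^ g * a * (x ^ w ^ g)⁻¹) * a⁻¹ ∈ Z := by
      rw [← QuotientGroup.eq_one_iff]
      change QuotientGroup.mk' Z ((x ^ w ^ g * a * (x ^ w ^ g)⁻¹) * a⁻¹) = 1
      rw [map_mul, map_mul, map_mul, map_inv, map_inv, map_pow, hc]
      group
    have h2 : (x ^ w ^ g * a * (x ^ w ^ g)⁻¹) * a⁻¹ ∈ P := P.mul_mem (hyP a ha) (P.inv_mem ha)
    obtain ⟨k, hk⟩ := hP ⟨_, h2⟩
    have h3 : orderOf ((x ^ w ^ g * a * (x ^ w ^ g)⁻¹) * a⁻¹) ∣ Nat.card Z := by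
      rw [← Subgroup.orderOf_mk _ h1]
      exact orderOf_dvd_natCard _
    have h4 : orderOf ((x ^ w ^ g * a * (x ^ w ^ g)⁻¹) * a⁻¹) ∣ v ^ k := orderOf_dvd_of_pow_eq_one (congrArg Subtype.val hk)
    have h5 : Nat.Coprime (Nat.card Z) (v ^ k) :=
      Nat.Coprime.pow_right _ ((Nat.Prime.coprime_iff_not_dvd hv).2 hZ).symm
    have h6 := orderOf_eq_one_iff.1 (Nat.eq_one_of_dvd_coprimes h5 h3 h4)
    rw [mul_inv_eq_one, mul_inv_eq_iff_eq_mul] at h6
    exact hne h6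
  have : Fact w.Prime := ⟨hw⟩
  refine ⟨P.map (QuotientGroup.mk' Z), QuotientGroup.mk' Z x, hP.map _, ?_, ?_, ⟨QuotientGroup.mk' Z a, ⟨a, ha, rfl⟩, hc⟩, ?_⟩
  · refine orderOf_eq_prime_pow ?_ ?_
    · intro h1
      apply hc
      rw [h1, one_mul, mul_one]
    · rw [← map_pow, ← hx, pow_orderOf_eq_one, map_one]
  · rintro _ ⟨b, hb, rfl⟩
    exact ⟨x * b * x⁻¹, hn b hb, by rw [map_mul, map_mul, map_inv]⟩
  · rintro _ ⟨b, hb, rfl⟩ _ ⟨c, hc, rfl⟩
    rw [← map_mul, ← map_mul, hab b hb c hc]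

/-- elements of `GL_m(q)` of order dividing `q ^ e - 1`, `e ≤ m` -/
theorem exists_glN {F : Type*} [Field F] [Fintype F] {e m N : ℕ} (he1 : 1 ≤ e) (he : e ≤ m)
    (h : N ∣ Fintype.card F ^ e - 1) : ∃ A : GL (Fin m) F, orderOf A = N := by
  obtain ⟨A, hA⟩ := Cfsg.Agent.H376.PrimeOrd.exists_GL (F := F) e (by omega) N (by rwa [Nat.card_eq_fintype_card])
  obtain ⟨c, rfl⟩ := Nat.exists_eq_add_of_le he
  let f : Matrix (Fin e) (Fin e) F →* Matrix (Fin e ⊕ Fin c) (Fin e ⊕ Fin c) F :=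
    { toFun := fun B => fromBlocks B 0 0 1
      map_one' := fromBlocks_one
      map_mul' := fun B C => by rw [fromBlocks_multiply]; simp }
  have hf : Function.Injective f := fun B C h => (fromBlocks_inj.1 h).1
  let φ : Matrix (Fin e ⊕ Fin c) (Fin e ⊕ Fin c) F ≃* Matrix (Fin (e + c)) (Fin (e + c)) F :=
    (Matrix.reindexAlgEquiv F F finSumFinEquiv).toMulEquiv
  refine ⟨Units.map (φ.toMonoidHom.comp f) A, ?_⟩
  rw [orderOf_injective _ (Units.map_injective (φ.injective.comp hf)), hA]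

/-! ### the linear groups -/

section sl

variable {F : Type*} [Field F] {k : ℕ}

theorem movG_sl [Fintype F] {p : ℕ} [CharP F p] {e r g : ℕ} (hr : r.Prime) (he1 : 1 ≤ e) (he : e ≤ k)
    (h : r ^ (g + 1) ∣ Fintype.card F ^ e - 1) (h1 : ¬ r ∣ Fintype.card F - 1) :
    MovG (Matrix.SpecialLinearGroup (Fin (k + 1)) F) p r g := by
  obtain ⟨A₀, hA₀⟩ := exists_glN (F := F) he1 he h
  obtain ⟨A, hAA⟩ : ∃ A, A = A₀ ^ r ^ g := ⟨_, rfl⟩
  have hA : orderOf A = r := by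
    rw [hAA, orderOf_pow_of_dvd (pow_pos hr.pos g).ne' (by rw [hA₀, pow_succ]; exact dvd_mul_right _ _), hA₀, pow_succ,
      Nat.mul_div_cancel_left _ (pow_pos hr.pos g)]
  obtain ⟨B, hne⟩ : ∃ B : Matrix (Fin k) (Fin 1) F,
      (A : Matrix (Fin k) (Fin k) F).det • ((A : Matrix (Fin k) (Fin k) F) * B) ≠ B := by
    by_contra hcon
    push Not at hcon
    set c := (A : Matrix (Fin k) (Fin k) F).det with hc
    have hc0 : c ≠ 0 := det_ne A
    have h2 : (A : Matrix (Fin k) (Fin k) F) = c⁻¹ • 1 := by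
      ext i j
      have h3 := congrFun (congrFun (hcon (Matrix.single j 0 1)) i) 0
      rw [Matrix.smul_apply, Matrix.mul_single_apply_same, smul_eq_mul, mul_one] at h3
      rw [Matrix.smul_apply, smul_eq_mul]
      by_cases hij : i = j
      · subst hij
        rw [Matrix.single_apply_same] at h3
        rw [Matrix.one_apply_eq, mul_one]
        exact eq_inv_of_mul_eq_one_right h3
      · rw [Matrix.single_apply_of_row_ne (Ne.symm hij)] at h3
        rw [Matrix.one_apply_ne hij, mul_zero]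
        exact (mul_eq_zero.1 h3).resolve_left hc0
    apply h1
    rw [← hA]
    apply orderOf_dvd_of_pow_eq_one
    apply Units.ext
    rw [Units.val_pow_eq_pow_val, h2, Units.val_one, smul_pow, one_pow, inv_pow, FiniteField.pow_card_sub_one_eq_one c hc0,
      inv_one, one_smul]
  refine movG_of_homs (V := Matrix (Fin k) (Fin 1) F) (A := GL (Fin k) F) (p := p) ?_ (dgL k F) (uniL k F) uniL_injective
    (fun A B => (A : Matrix (Fin k) (Fin k) F).det • ((A : Matrix (Fin k) (Fin k) F) * B)) ?_ (a := A₀)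
    (by rw [orderOf_injective _ dgL_injective, hA₀]) (v := B) (by rw [← hAA]; exact hne)
  · intro v
    rw [← Nat.cast_smul_eq_nsmul F, CharP.cast_eq_zero, zero_smul]
  · intro A B
    rw [mul_inv_eq_iff_eq_mul]
    apply Subtype.ext
    change rX k F (lv A) * rX k F _ = rX k F _ * rX k F (lv A)
    rw [← map_mul, ← map_mul]
    exact congrArg (rX k F) (conj_L A B)

theorem movG_psl [Fintype F] {p : ℕ} [CharP F p] (hp : p.Prime) {e r g : ℕ} (hr : r.Prime) (he1 : 1 ≤ e) (he : e ≤ k)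
    (h : r ^ (g + 1) ∣ Fintype.card F ^ e - 1) (h1 : ¬ r ∣ Fintype.card F - 1) :
    MovG (Matrix.ProjectiveSpecialLinearGroup (Fin (k + 1)) F) p r g :=
  have : Finite (Matrix.SpecialLinearGroup (Fin (k + 1)) F) := Finite.of_injective _ Subtype.val_injective
  MovG.quot _ (center_sl hp) hp hr (movG_sl hr he1 he h h1)

end sl

/-! ### the symplectic and orthogonal groups -/

section mat

variable {F : Type*} [Field F] {m : ℕ}

theorem orderOf_glpow {A₀ : GL (Fin m) F} {r g : ℕ} (hr : r.Prime) (hA₀ : orderOf A₀ = r ^ (g + 1)) :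
    orderOf (A₀ ^ r ^ g) = r := by
  rw [orderOf_pow_of_dvd (pow_pos hr.pos g).ne' (by rw [hA₀, pow_succ]; exact dvd_mul_right _ _), hA₀, pow_succ,
    Nat.mul_div_cancel_left _ (pow_pos hr.pos g)]

/-- **the isometry group of plus type** -/
theorem movG_isom [Fintype F] {p : ℕ} [CharP F p] (hm : 3 ≤ m) {e r g : ℕ} (hr : r.Prime)
    (hr2 : r ≠ 2) (he1 : 1 ≤ e) (he : e ≤ m) (h : r ^ (g + 1) ∣ Fintype.card F ^ e - 1) :
    MovG (Cfsg.isometryGroup F (Cfsg.quadFormPlus m F)) p r g := by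
  obtain ⟨A, hA⟩ := exists_glN (F := F) he1 he h
  obtain ⟨B, hB, hne⟩ := exists_alt hm (sq_ne_one hr hr2 (orderOf_glpow hr hA))
  refine movG_of_homs (V := alt m F) (A := GL (Fin m) F) (p := p) ?_ (Cfsg.Agent.H425.Torus.dg m F) (uniA m F) uniA_injective
    (fun A B => ⟨actM A B, act_alt A B.2⟩) ?_ (a := A)
    (by rw [orderOf_injective _ Cfsg.Agent.H425.Torus.dg_injective, hA]) (v := ⟨B, hB⟩) ?_
  · intro v
    apply Subtype.ext
    change p • (v : Matrix (Fin m) (Fin m) F) = 0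
    rw [← Nat.cast_smul_eq_nsmul F, CharP.cast_eq_zero, zero_smul]
  · intro A B
    rw [mul_inv_eq_iff_eq_mul]
    apply Subtype.ext
    apply Units.ext
    exact conj_blocks A B
  · intro h
    exact hne (congrArg Subtype.val h)

/-- **the symplectic group** -/
theorem movG_sp [Fintype F] {p : ℕ} [CharP F p] {e r g : ℕ} (hr : r.Prime)
    (hr2 : r ≠ 2) (he1 : 1 ≤ e) (he : e ≤ m) (h : r ^ (g + 1) ∣ Fintype.card F ^ e - 1) :
    MovG (Matrix.symplecticGroup (Fin m) F) p r g := by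
  obtain ⟨A, hA⟩ := exists_glN (F := F) he1 he h
  obtain ⟨B, hB, hne⟩ := exists_sym (sq_ne_one hr hr2 (orderOf_glpow hr hA))
  have hact : ∀ (A : GL (Fin m) F) (B : sym m F), actM A B ∈ sym m F := by
    intro A B
    change (actM A B)ᵀ = actM A B
    have hB : (B : Matrix (Fin m) (Fin m) F)ᵀ = B := B.2
    rw [actM_transpose, hB]
  refine movG_of_homs (V := sym m F) (A := GL (Fin m) F) (p := p) ?_ (dgSp m F) (uniSp m F) uniSp_injective
    (fun A B => ⟨actM A B, hact A B⟩) ?_ (a := A) (by rw [orderOf_injective _ dgSp_injective, hA]) (v := ⟨B, hB⟩) ?_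
  · intro v
    apply Subtype.ext
    change p • (v : Matrix (Fin m) (Fin m) F) = 0
    rw [← Nat.cast_smul_eq_nsmul F, CharP.cast_eq_zero, zero_smul]
  · intro A B
    rw [mul_inv_eq_iff_eq_mul]
    apply Subtype.ext
    exact conj_blocks A B
  · intro h
    exact hne (congrArg Subtype.val h)

theorem movG_psp [Fintype F] {p : ℕ} [CharP F p] (hp : p.Prime) {e r g : ℕ} (hr : r.Prime)
    (hr2 : r ≠ 2) (he1 : 1 ≤ e) (he : e ≤ m) (h : r ^ (g + 1) ∣ Fintype.card F ^ e - 1) : MovG (Cfsg.PSp m F) p r g :=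
  have : Finite (Matrix.symplecticGroup (Fin m) F) := Finite.of_injective _ Subtype.val_injective
  MovG.quot _ (center_sp hp) hp hr (movG_sp hr hr2 he1 he h)

end mat

section orth

open Cfsg.Agent.LieClassical.OrthCount Cfsg.Agent.LieClassical.OmegaReindex Cfsg.Agent.LieClassical

/-- from the isometry group to `PΩ` -/
theorem movG_pomega {F : Type*} [Field F] [Finite F] {ι : Type} [Fintype ι] [DecidableEq ι] {Q : QuadraticForm F (ι → F)}
    (hD : Cfsg.Agent.H390.Lift.Data Q) {p r g : ℕ} [CharP F p] (hp : p.Prime) (hr : r.Prime) (hr2 : r ≠ 2) (hpr : p ≠ r)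
    (h : MovG (Cfsg.isometryGroup F ⇑Q) p r g) : MovG (Cfsg.POmega F ⇑Q) p r g :=
  MovG.quot _ (center_omega hD hp) hp hr
    (MovG.sub (Cfsg.Omega F ⇑Q) (fun _ hg => Cfsg.Agent.H390.Lift.mem_of_odd _ hD.idx ((hr.odd_of_ne_two hr2).pow) hg) hp hr
      hpr h)

variable {F : Type} [Field F] [Fintype F] {m p e r g : ℕ} [CharP F p]

theorem data_odd (hp : p.Prime) (hp2 : p ≠ 2) (hm : 3 ≤ m) : Cfsg.Agent.H390.Lift.Data (quadOdd m F) :=
  have hcard : Fintype.card (Unit ⊕ (Fin m ⊕ Fin m)) = 2 * m + 1 := by simp; ring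
  Cfsg.Agent.H390.data_of _ (quadOdd_nondegenerate (two_ne hp2 hp)) (by rw [hcard]; omega)
    (quadOdd_isotropic (by omega)) (Or.inr (by rw [hcard]; omega))

theorem movG_plus (hp : p.Prime) (hm : 3 ≤ m) (hr : r.Prime) (hr2 : r ≠ 2) (hpr : p ≠ r) (he1 : 1 ≤ e) (he : e ≤ m)
    (h : r ^ (g + 1) ∣ Fintype.card F ^ e - 1) : MovG (Cfsg.POmega F (Cfsg.quadFormPlus m F)) p r g := by
  have h1 : MovG (Cfsg.isometryGroup F (quadPlus m F)) p r g := by
    rw [coe_quadPlus]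
    exact movG_isom hm hr hr2 he1 he h
  rw [← coe_quadPlus]
  exact movG_pomega (data_plus hm) hp hr hr2 hpr h1

theorem movG_odd (hp : p.Prime) (hp2 : p ≠ 2) (hm : 3 ≤ m) (hr : r.Prime) (hr2 : r ≠ 2) (hpr : p ≠ r) (he1 : 1 ≤ e)
    (he : e ≤ m) (h : r ^ (g + 1) ∣ Fintype.card F ^ e - 1) : MovG (Cfsg.POmega F (Cfsg.quadFormOdd m F)) p r g := by
  have h1 : MovG (Cfsg.isometryGroup F (quadOdd m F)) p r g := by
    rw [coe_quadOdd]
    obtain ⟨f, hf⟩ := Cfsg.Agent.H104.OrthEmb.exists_emb_odd (F := F) m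
    exact (movG_isom hm hr hr2 he1 he h).map f hf
  rw [← coe_quadOdd]
  exact movG_pomega (data_odd hp hp2 hm) hp hr hr2 hpr h1

theorem movG_minus (hp : p.Prime) (hm : 3 ≤ m) {a b : F}
    (hab : ∀ z₁ z₂ : F, z₁ ^ 2 + a * z₁ * z₂ + b * z₂ ^ 2 = 0 → z₁ = 0 ∧ z₂ = 0)
    (hr : r.Prime) (hr2 : r ≠ 2) (hpr : p ≠ r) (he1 : 1 ≤ e) (he : e ≤ m)
    (h : r ^ (g + 1) ∣ Fintype.card F ^ e - 1) : MovG (Cfsg.POmega F (Cfsg.quadFormMinus m F a b)) p r g := by
  have h1 : MovG (Cfsg.isometryGroup F (quadMinus m F a b)) p r g := by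
    rw [coe_quadMinus]
    obtain ⟨f, hf⟩ := Cfsg.Agent.H104.OrthEmb.exists_emb_minus (F := F) m a b
    exact (movG_isom hm hr hr2 he1 he h).map f hf
  rw [← coe_quadMinus]
  exact movG_pomega (data_minus hm hab) hp hr hr2 hpr h1

end orth

end Cfsg.Agent.R2.Spec.F1
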