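import Cfsg.Agent.R2.Spec.F1.MovU

/-!
# Moved subgroups: the primes of `q ^ 2 - 1` (helper23)

* `movA_psl_one` : `PSL_{k+1}(q)`, `1 ≤ k`, odd primes of `q - 1`;
* `movA_psu_irr` : `PSU_n(q)`, `n ≥ 4`, odd primes of `q ^ 2 - 1`;
* `movA_psu_two` : `PSU_n(q)`, `n ≥ 3`, odd primes of `q - 1`.
-/

set_option autoImplicit false
set_option linter.unusedSectionVars false

namespace Cfsg.Agent.R2.Spec.F1

open Subgroup Matrix
open Cfsg Cfsg.Agent.LieClassical Cfsg.Agent.LieClassical.HermBasic Cfsg.Agent.H948.UBase Cfsg.Agent.H948.UProd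
open Cfsg.Agent.H425.Siegel

section torus

variable {F : Type*} [Field F] {k : ℕ}

/-- the diagonal torus -/
def dgT (k : ℕ) (F : Type*) [Field F] : (Fin k → Fˣ) →* GL (Fin k) F :=
  (Units.map (Matrix.diagonalRingHom (Fin k) F).toMonoidHom).comp
    (MulEquiv.piUnits (M := fun _ : Fin k => F)).symm.toMonoidHom

theorem dgT_val (d : Fin k → Fˣ) : (dgT k F d : Matrix (Fin k) (Fin k) F) = Matrix.diagonal fun i => (d i : F) := rfl

theorem dgT_injective : Function.Injective (dgT k F) := by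
  intro a b h
  have h1 := congrArg (Units.val : GL (Fin k) F → Matrix (Fin k) (Fin k) F) h
  rw [dgT_val, dgT_val] at h1
  funext i
  exact Units.ext (congrFun (Matrix.diagonal_injective h1) i)

theorem det_dgT (d : Fin k → Fˣ) : (dgT k F d : Matrix (Fin k) (Fin k) F).det = ∏ i, (d i : F) := by
  rw [dgT_val, Matrix.det_diagonal]

theorem exists_unit [Fintype F] {r : ℕ} (hr : r.Prime) (h : r ∣ Fintype.card F - 1) : ∃ a : Fˣ, orderOf a = r := by
  classical
  have := Fact.mk hr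
  exact exists_prime_orderOf_dvd_card' r (by rw [Nat.card_eq_fintype_card, Fintype.card_units]; exact h)

theorem orderOf_mulSingle {ι : Type*} [DecidableEq ι] {M : Type*} [Group M] (i : ι) (a : M) :
    orderOf (Pi.mulSingle i a : ι → M) = orderOf a :=
  orderOf_injective (MonoidHom.mulSingle (fun _ : ι => M) i) (Pi.mulSingle_injective (M := fun _ : ι => M) i) a

end torus

section sl

variable {F : Type*} [Field F] {k : ℕ}

theorem movA_sl_of {p : ℕ} [CharP F p] {r : ℕ} {A : GL (Fin k) F} (hA : orderOf A = r) {B : Matrix (Fin k) (Fin 1) F}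
    (hne : (A : Matrix (Fin k) (Fin k) F).det • ((A : Matrix (Fin k) (Fin k) F) * B) ≠ B) :
    MovA (Matrix.SpecialLinearGroup (Fin (k + 1)) F) p r := by
  refine movA_of_homs (V := Matrix (Fin k) (Fin 1) F) (A := GL (Fin k) F) (p := p) ?_ (dgL k F) (uniL k F) uniL_injective
    (fun A B => (A : Matrix (Fin k) (Fin k) F).det • ((A : Matrix (Fin k) (Fin k) F) * B)) ?_ (a := A)
    (by rw [orderOf_injective _ dgL_injective, hA]) (v := B) hne
  · intro v
    rw [← Nat.cast_smul_eq_nsmul F, CharP.cast_eq_zero, zero_smul]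
  · intro A B
    rw [mul_inv_eq_iff_eq_mul]
    apply Subtype.ext
    change rX k F (lv A) * rX k F _ = rX k F _ * rX k F (lv A)
    rw [← map_mul, ← map_mul]
    exact congrArg (rX k F) (conj_L A B)

theorem movA_sl_one [Fintype F] {p : ℕ} [CharP F p] {r : ℕ} (hr : r.Prime) (hr2 : r ≠ 2) (hk : 1 ≤ k)
    (h : r ∣ Fintype.card F - 1) : MovA (Matrix.SpecialLinearGroup (Fin (k + 1)) F) p r := by
  obtain ⟨a, ha⟩ := exists_unit hr h
  refine movA_sl_of (A := dgT k F (Pi.mulSingle ⟨0, hk⟩ a)) (B := Matrix.single ⟨0, hk⟩ 0 1) ?_ ?_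
  · rw [orderOf_injective _ dgT_injective, orderOf_mulSingle, ha]
  · intro hc
    have h1 := congrFun (congrFun hc ⟨0, hk⟩) 0
    rw [Matrix.smul_apply, Matrix.mul_single_apply_same, Matrix.single_apply_same, smul_eq_mul, mul_one, det_dgT, dgT_val,
      Matrix.diagonal_apply_eq, Pi.mulSingle_eq_same, Finset.prod_eq_single ⟨0, hk⟩
        (fun b _ hb => by rw [Pi.mulSingle_eq_of_ne hb, Units.val_one]) (fun h => absurd (Finset.mem_univ _) h),
      Pi.mulSingle_eq_same] at h1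
    have h2 : a ^ 2 = 1 := Units.ext (by rw [Units.val_pow_eq_pow_val, sq]; exact h1)
    have h3 := orderOf_dvd_of_pow_eq_one h2
    rw [ha] at h3
    exact hr2 ((Nat.prime_dvd_prime_iff_eq hr Nat.prime_two).1 h3)

/-- **`PSL`, the odd primes of `q - 1`** -/
theorem movA_psl_one [Fintype F] {p : ℕ} [CharP F p] (hp : p.Prime) {r : ℕ} (hr : r.Prime) (hr2 : r ≠ 2) (hk : 1 ≤ k)
    (h : r ∣ Fintype.card F - 1) : MovA (Matrix.ProjectiveSpecialLinearGroup (Fin (k + 1)) F) p r :=
  have : Finite (Matrix.SpecialLinearGroup (Fin (k + 1)) F) := Finite.of_injective _ Subtype.val_injective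
  MovA.quot _ (center_sl hp) hp hr (movA_sl_one hr hr2 hk h)

end sl

section su

variable {F : Type} [Field F] [Fintype F] {q k : ℕ}

theorem det_levi (hF : Fintype.card F = q ^ 2) (A : GL (Fin k) F) : LinearMap.det (levi hF A) =
    (A : Matrix (Fin k) (Fin k) F).det * cj hF ((A⁻¹ : GL (Fin k) F) : Matrix (Fin k) (Fin k) F).det := by
  rw [levi, LinearMap.det_prodMap, ← Matrix.toLin'_apply', LinearMap.det_toLin', ← Matrix.toLin'_apply',
    LinearMap.det_toLin', Matrix.det_transpose, RingHom.map_det]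
  rfl

theorem movA_su_of (hF : Fintype.card F = q ^ 2) {p : ℕ} [CharP F p] (hp : p.Prime) {r : ℕ} (hr : r.Prime)
    {A : GL (Fin k) F} (hA : orderOf A = r) (hdA : LinearMap.det (levi hF A) = 1) {S : Matrix (Fin k) (Fin k) F}
    (hS : (cm hF S)ᵀ = -S)
    (hne : (A : Matrix (Fin k) (Fin k) F) * S * (cm hF (A : Matrix (Fin k) (Fin k) F))ᵀ ≠ S) :
    MovA (SU (k + k) F q) p r := by
  obtain ⟨ι, hι⟩ := exists_coord (isHerm_hyp (k := k) hF) (n := k + k)
    (by rw [Module.finrank_prod, Module.finrank_fin_fun])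
  let X : isoM (hypForm hF k) := ⟨levi hF A, iso_levi hF A, hdA⟩
  have hXr : X ^ r = 1 := by
    apply Subtype.ext
    change levi hF A ^ r = 1
    rw [levi_pow, ← hA, pow_orderOf_eq_one, levi_one]
  let U : Multiplicative (skH hF k) →* isoM (hypForm hF k) :=
    { toFun := fun T => ⟨uni2 ((Multiplicative.toAdd T : skH hF k) : Matrix (Fin k) (Fin k) F),
        iso_uni2 hF (Multiplicative.toAdd T : skH hF k).2, det_uni2 hp⟩
      map_one' := Subtype.ext uni2_zero
      map_mul' := fun a b => Subtype.ext (uni2_add _ _) }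
  have hUX : ∀ T : skH hF k, ∃ T' : skH hF k, X * U (Multiplicative.ofAdd T) = U (Multiplicative.ofAdd T') * X ∧
      (T' : Matrix (Fin k) (Fin k) F) = (A : Matrix (Fin k) (Fin k) F) * T * (cm hF (A : Matrix (Fin k) (Fin k) F))ᵀ := by
    intro T
    refine ⟨⟨_, act_skH hF A T.2⟩, ?_, rfl⟩
    apply Subtype.ext
    exact levi_uni2 hF A T
  set φ : isoM (hypForm hF k) →* SU (k + k) F q := suHom ι hι with hφ
  have hφinj : Function.Injective φ := by
    intro a b hab
    apply Subtype.ext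
    exact Cfsg.Agent.H389.QU.toSU_inj ι hι (hS := a.2.1) (hT := b.2.1) (hS1 := a.2.2) (hT1 := b.2.2) hab
  have hmov : ¬ φ X * φ (U (Multiplicative.ofAdd ⟨S, hS⟩)) = φ (U (Multiplicative.ofAdd ⟨S, hS⟩)) * φ X := by
    intro hc
    obtain ⟨T', hT', hT2⟩ := hUX ⟨S, hS⟩
    rw [← map_mul, ← map_mul] at hc
    have h2 := hφinj hc
    rw [hT'] at h2
    have h3 : (U (Multiplicative.ofAdd T') : isoM (hypForm hF k)) = U (Multiplicative.ofAdd ⟨S, hS⟩) := by
      have h4 := congrArg φ h2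
      rw [map_mul, map_mul] at h4
      exact hφinj (mul_right_cancel h4)
    apply hne
    rw [← hT2]
    have h5 : uni2 (T' : Matrix (Fin k) (Fin k) F) = uni2 S := congrArg Subtype.val h3
    apply Matrix.ext_of_mulVec_single
    intro i
    have h6 := congrArg Prod.fst (LinearMap.congr_fun h5 (0, Pi.single i 1))
    rw [uni2_apply, uni2_apply] at h6
    simpa using h6
  have hX1 : φ X ≠ 1 := by
    intro h
    rw [h, one_mul, mul_one] at hmov
    exact hmov rfl
  have := Fact.mk hr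
  refine ⟨(φ.comp U).range, φ X, ?_, orderOf_eq_prime (by rw [← map_pow, hXr, map_one]) hX1, ?_, ?_, ?_⟩
  · rintro ⟨_, T, rfl⟩
    refine ⟨1, Subtype.ext ?_⟩
    change (φ.comp U T) ^ p ^ 1 = 1
    rw [pow_one, ← map_pow]
    have h2 : T ^ p = 1 := by
      change p • (Multiplicative.toAdd T) = 0
      apply Subtype.ext
      change p • ((Multiplicative.toAdd T : skH hF k) : Matrix (Fin k) (Fin k) F) = 0
      rw [← Nat.cast_smul_eq_nsmul F, CharP.cast_eq_zero, zero_smul]
    rw [h2, map_one]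
  · rintro _ ⟨T, rfl⟩
    obtain ⟨T', hT', -⟩ := hUX (Multiplicative.toAdd T)
    refine ⟨Multiplicative.ofAdd T', ?_⟩
    change φ (U (Multiplicative.ofAdd T')) = φ X * φ (U T) * (φ X)⁻¹
    rw [eq_mul_inv_iff_mul_eq, ← map_mul, ← map_mul]
    exact congrArg φ hT'.symm
  · exact ⟨φ (U (Multiplicative.ofAdd ⟨S, hS⟩)), ⟨_, rfl⟩, hmov⟩
  · rintro _ ⟨b, rfl⟩ _ ⟨c, rfl⟩
    rw [← map_mul, ← map_mul, mul_comm]

theorem center_psu {n p : ℕ} [CharP F p] (hF : Fintype.card F = q ^ 2) (hp : p.Prime) (hn : 3 ≤ n) :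
    ¬ p ∣ Nat.card (center (SU n F q)) := by
  rw [Cfsg.Agent.S0279.result hF n hn]
  intro hd
  have h3 : p ∣ q + 1 := hd.trans (Nat.gcd_dvd_right _ _)
  have h4 : p ∣ q := by
    have h5 : p ∣ Fintype.card F := by
      rw [← CharP.cast_eq_zero_iff F p]
      exact FiniteField.cast_card_eq_zero F
    rw [hF] at h5
    exact hp.dvd_of_dvd_pow h5
  have h5 := (Nat.dvd_add_right h4).1 h3
  exact hp.one_lt.ne' (Nat.dvd_one.1 h5)

theorem movA_psu_of (hF : Fintype.card F = q ^ 2) {n p : ℕ} [CharP F p] (hp : p.Prime) {r : ℕ} (hr : r.Prime)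
    (hn : 3 ≤ n) (hk : 2 * k ≤ n) (h : MovA (SU (k + k) F q) p r) : MovA (PSU n F q) p r := by
  obtain ⟨f, hf⟩ := Cfsg.Agent.H389.QU.exists_emb (m := k + k) (n := n) hF (by omega)
  have hfin : Finite (SU n F q) := inferInstance
  exact MovA.quot _ (center_psu hF hp hn) hp hr (h.map f hf)

theorem sq_card (hF : Fintype.card F = q ^ 2) : Fintype.card F - 1 = q ^ 2 - 1 := by rw [hF]

/-- **`PSU`, `n ≥ 4`, the odd primes of `q ^ 2 - 1`** -/
theorem movA_psu_irr (hF : Fintype.card F = q ^ 2) {n p : ℕ} [CharP F p] (hp : p.Prime) {r : ℕ} (hr : r.Prime)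
    (hr2 : r ≠ 2) (hn : 4 ≤ n) (h : r ∣ q ^ 2 - 1) : MovA (PSU n F q) p r := by
  obtain ⟨a, ha⟩ := exists_unit (F := F) hr (by rw [hF]; exact h)
  have hsq : a ^ 2 ≠ 1 := by
    intro h2
    have h3 := orderOf_dvd_of_pow_eq_one h2
    rw [ha] at h3
    exact hr2 ((Nat.prime_dvd_prime_iff_eq hr Nat.prime_two).1 h3)
  have haa : a⁻¹ ≠ a := fun h1 => hsq (by rw [sq]; nth_rewrite 1 [← h1]; exact inv_mul_cancel a)
  let d : Fin 2 → Fˣ := ![a, a⁻¹]
  have hd : orderOf d = r := by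
    have := Fact.mk hr
    refine orderOf_eq_prime ?_ ?_
    · funext i
      fin_cases i
      · change a ^ r = 1
        rw [← ha, pow_orderOf_eq_one]
      · change (a⁻¹) ^ r = 1
        rw [inv_pow, ← ha, pow_orderOf_eq_one, inv_one]
    · intro h1
      have h2 : a = 1 := congrFun h1 0
      rw [h2, orderOf_one] at ha
      exact hr.one_lt.ne ha
  have hdet : (dgT 2 F d : Matrix (Fin 2) (Fin 2) F).det = 1 := by
    rw [det_dgT, Fin.prod_univ_two]
    change (a : F) * ((a⁻¹ : Fˣ) : F) = 1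
    rw [← Units.val_mul, mul_inv_cancel, Units.val_one]
  have hns : ¬ ∃ c : F, (dgT 2 F d : Matrix (Fin 2) (Fin 2) F) = c • 1 := by
    rintro ⟨c, hc⟩
    rw [dgT_val] at hc
    have h1 := congrFun (congrFun hc 0) 0
    have h2 := congrFun (congrFun hc 1) 1
    rw [Matrix.diagonal_apply_eq, Matrix.smul_apply, Matrix.one_apply_eq, smul_eq_mul, mul_one] at h1 h2
    apply haa
    apply Units.ext
    exact h2.trans h1.symm
  obtain ⟨S, hS, hne⟩ := exists_skH hF hns
  refine movA_psu_of hF hp hr (by omega) (k := 2) (by omega)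
    (movA_su_of hF hp hr (A := dgT 2 F d) (by rw [orderOf_injective _ dgT_injective, hd]) ?_ hS hne)
  rw [det_levi, hdet, one_mul]
  have h1 : ((dgT 2 F d)⁻¹ : GL (Fin 2) F) = dgT 2 F d⁻¹ := (map_inv _ _).symm
  rw [h1, det_dgT, Fin.prod_univ_two]
  change cj hF (((a⁻¹ : Fˣ) : F) * (((a⁻¹)⁻¹ : Fˣ) : F)) = 1
  rw [← Units.val_mul, inv_inv, inv_mul_cancel, Units.val_one, map_one]

/-- **`PSU`, `n ≥ 3`, the odd primes of `q - 1`** -/
theorem movA_psu_two (hF : Fintype.card F = q ^ 2) {n p : ℕ} [CharP F p] (hp : p.Prime) {r : ℕ} (hr : r.Prime)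
    (hr2 : r ≠ 2) (hn : 3 ≤ n) (h : r ∣ q - 1) : MovA (PSU n F q) p r := by
  have hq1 : 1 ≤ q := by
    rcases Nat.eq_zero_or_pos q with h0 | h0
    · rw [h0] at hF
      have := Fintype.card_pos (α := F)
      omega
    · exact h0
  obtain ⟨a, ha⟩ := exists_unit (F := F) hr (by
    rw [hF]
    have h1 := Nat.sq_sub_sq q 1
    rw [one_pow] at h1
    rw [h1]
    exact h.mul_left _)
  have haq : a ^ q = a := by
    obtain ⟨c, hc⟩ := h
    have h1 : q = r * c + 1 := by omega
    rw [h1, pow_succ, pow_mul, ← ha, pow_orderOf_eq_one, one_pow, one_mul]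
  have hsq : a ^ 2 ≠ 1 := by
    intro h2
    have h3 := orderOf_dvd_of_pow_eq_one h2
    rw [ha] at h3
    exact hr2 ((Nat.prime_dvd_prime_iff_eq hr Nat.prime_two).1 h3)
  obtain ⟨g, hg⟩ : ∃ g : F, g ^ q ≠ g := by
    by_contra h
    push Not at h
    apply cj_ne_id hF
    ext x
    exact h x
  have hg0 : g - g ^ q ≠ 0 := sub_ne_zero.2 (Ne.symm hg)
  let d : Fin 1 → Fˣ := ![a]
  have hd : orderOf d = r := by
    have := Fact.mk hr
    refine orderOf_eq_prime ?_ ?_
    · funext i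
      fin_cases i
      change a ^ r = 1
      rw [← ha, pow_orderOf_eq_one]
    · intro h1
      have h2 : a = 1 := congrFun h1 0
      rw [h2, orderOf_one] at ha
      exact hr.one_lt.ne ha
  refine movA_psu_of hF hp hr hn (k := 1) (by omega)
    (movA_su_of hF hp hr (A := dgT 1 F d) (by rw [orderOf_injective _ dgT_injective, hd]) ?_
      (S := Matrix.of fun _ _ => g - g ^ q) ?_ ?_)
  · rw [det_levi]
    have h1 : ((dgT 1 F d)⁻¹ : GL (Fin 1) F) = dgT 1 F d⁻¹ := (map_inv _ _).symm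
    rw [h1, det_dgT, det_dgT, Fin.prod_univ_one, Fin.prod_univ_one]
    change (a : F) * cj hF ((a⁻¹ : Fˣ) : F) = 1
    rw [cj_apply, ← Units.val_pow_eq_pow_val, inv_pow, haq, ← Units.val_mul, mul_inv_cancel, Units.val_one]
  · ext i j
    change cj hF (g - g ^ q) = -(g - g ^ q)
    rw [map_sub, cj_apply, cj_apply, pow_q_pow_q hF, neg_sub]
  · intro hc
    have h1 := congrFun (congrFun hc 0) 0
    rw [Matrix.mul_apply, Fin.sum_univ_one, Matrix.mul_apply, Fin.sum_univ_one, dgT_val, Matrix.diagonal_apply_eq] at h1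
    change (a : F) * (g - g ^ q) * cj hF (Matrix.diagonal (fun i => ((d i : Fˣ) : F)) 0 0) = g - g ^ q at h1
    rw [Matrix.diagonal_apply_eq, cj_apply] at h1
    change (a : F) * (g - g ^ q) * (a : F) ^ q = g - g ^ q at h1
    rw [← Units.val_pow_eq_pow_val, haq] at h1
    have h2 : ((a : F) ^ 2 - 1) * (g - g ^ q) = 0 := by linear_combination h1
    rcases mul_eq_zero.1 h2 with h3 | h3
    · exact hsq (Units.ext (by rw [Units.val_pow_eq_pow_val, Units.val_one]; exact sub_eq_zero.1 h3))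
    · exact hg0 h3

end su

end Cfsg.Agent.R2.Spec.F1
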