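import Cfsg.Agent.R2.Spec.F1.MovI
import Cfsg.Agent.R2.Spec.F1.MovCl

/-!
# The primes of `u ^ 2 - 1` are moving (helper23)

* `movA_irr` : `w ∣ (v ^ f) ^ 2 - 1` odd, `S` classical over the field with `v ^ f` elements: `MovA S v w`, except for
  `w ∣ v ^ f + 1` in `PSL_2`, `PSU_3`.
-/

set_option autoImplicit false
set_option linter.unusedSectionVars false

namespace Cfsg.Agent.R2.Spec.F1

open Subgroup Cfsg
open Cfsg.Agent.H426.LieFam Cfsg.Agent.R2.Spec Cfsg.Agent.R2.Spec.P1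
open Cfsg.Agent.LieClassical.OrthCount Cfsg.Agent.LieClassical.OmegaReindex Cfsg.Agent.LieClassical

universe u

theorem sq_sub_one_eq (q : ℕ) : q ^ 2 - 1 = (q + 1) * (q - 1) := by
  have h1 := Nat.sq_sub_sq q 1
  rw [one_pow] at h1
  exact h1

theorem one_le_f_of {F : Type*} [Field F] [Fintype F] {v f : ℕ} (hF : Fintype.card F = v ^ f) : f ≠ 0 := by
  rintro rfl
  have := Fintype.one_lt_card (α := F)
  rw [hF, pow_zero] at this
  omega

theorem movA_irr {t : Fam} (ht : Classical t) {v f : ℕ} {S : Type u} [Group S] (hv : v.Prime) (h : Fam.Is v f S t)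
    {w : ℕ} (hw : w.Prime) (hw2 : w ≠ 2) (hwv : w ≠ v) (hirr : w ∣ (v ^ f) ^ 2 - 1)
    (h1 : t = .psl 2 → ¬ w ∣ v ^ f + 1) (h2 : t = .psu 3 → ¬ w ∣ v ^ f + 1) : MovA S v w := by
  have hwv' : v ≠ w := hwv.symm
  have hor : w ∣ v ^ f + 1 ∨ w ∣ v ^ f - 1 := by
    rw [sq_sub_one_eq] at hirr
    exact hw.dvd_mul.1 hirr
  cases t with
  | psl n =>
    obtain ⟨hn, h4, F, _, _, hch, hF, ⟨e⟩⟩ := h
    obtain ⟨k, rfl⟩ : ∃ k, n = k + 1 := ⟨n - 1, by omega⟩
    rw [MovA.congr e]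
    by_cases h3 : w ∣ v ^ f - 1
    · exact movA_psl_one hv hw hw2 (by omega) (by rw [hF]; exact h3)
    · have h5 : w ∣ v ^ f + 1 := hor.resolve_right h3
      have hk : 2 ≤ k := by
        by_contra hcon
        have hk1 : k = 1 := by omega
        subst hk1
        exact h1 rfl h5
      exact movA_psl hv hw (e := 2) (by norm_num) hk (by rw [hF]; exact hirr) (by rw [hF]; exact h3)
  | psu n =>
    obtain ⟨hn, h4, F, _, _, hch, hF, ⟨e⟩⟩ := h
    rw [MovA.congr e]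
    rcases Nat.lt_or_ge 3 n with h3 | h3
    · exact movA_psu_irr hF hv hw hw2 (by omega) hirr
    · have hn3 : n = 3 := by omega
      subst hn3
      exact movA_psu_two hF hv hw hw2 le_rfl (hor.resolve_left (h2 rfl))
  | psp n =>
    obtain ⟨hn, h4, F, _, _, hch, hF, ⟨e⟩⟩ := h
    rw [MovA.congr e]
    exact movA_psp hv hw hw2 (e := 2) (by norm_num) hn (by rw [hF]; exact hirr)
  | oodd n =>
    obtain ⟨hn, ho, F, _, _, hch, hF, ⟨e⟩⟩ := h
    rw [MovA.congr e]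
    have hv2 : v ≠ 2 := by
      rintro rfl
      rw [Nat.odd_pow_iff (one_le_f_of hF)] at ho
      exact absurd ho (by decide)
    exact movA_odd hv hv2 hn hw hw2 hwv' (e := 2) (by norm_num) (by omega) (by rw [hF]; exact hirr)
  | oplus n =>
    obtain ⟨hn, F, _, _, hch, hF, ⟨e⟩⟩ := h
    rw [MovA.congr e]
    exact movA_plus hv (by omega) hw hw2 hwv' (e := 2) (by norm_num) (by omega) (by rw [hF]; exact hirr)
  | ominus n =>
    obtain ⟨hn, F, _, _, hch, a, b, hF, hab, ⟨e⟩⟩ := h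
    rw [MovA.congr e]
    obtain ⟨m, rfl⟩ : ∃ m, n = m + 1 := ⟨n - 1, by omega⟩
    exact movA_minus (m := m) hv (by omega) hab hw hw2 hwv' (e := 2) (by norm_num) (by omega)
      (by rw [hF]; exact hirr)
  | g2 => exact ht.elim
  | f4 => exact ht.elim
  | e6 => exact ht.elim
  | e7 => exact ht.elim
  | e8 => exact ht.elim
  | td4 => exact ht.elim
  | te6 => exact ht.elim
  | sz => exact ht.elim
  | tf4 => exact ht.elim
  | ree => exact ht.elim

theorem sg_sq (t : Fam) (q : ℕ) : (sg t q) ^ 2 = (q : ℤ) ^ 2 := by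
  cases t <;> simp [sg]

/-- the irregular classes -/
theorem dvd_sq_of_cls {t : Fam} {q w : ℕ} (hq : 1 ≤ q) (hw : w.Prime) (hwq : ¬ w ∣ q) (h : cls t q w ≤ 2) :
    w ∣ q ^ 2 - 1 := by
  have := Fact.mk hw
  have hq0 : ((q : ℕ) : ZMod w) ≠ 0 := fun h0 => hwq ((ZMod.natCast_eq_zero_iff q w).1 h0)
  have hs : ((sg t q : ℤ) : ZMod w) ^ 2 = ((q : ℕ) : ZMod w) ^ 2 := by
    have h1 := congrArg (fun z : ℤ => (z : ZMod w)) (sg_sq t q)
    push_cast at h1
    exact h1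
  have hs0 : ((sg t q : ℤ) : ZMod w) ≠ 0 := by
    intro h0
    rw [h0, zero_pow two_ne_zero] at hs
    exact hq0 (pow_eq_zero_iff two_ne_zero |>.1 hs.symm)
  have hpos : 0 < orderOf ((sg t q : ℤ) : ZMod w) := by
    have h2 : ((sg t q : ℤ) : ZMod w) ^ (w - 1) = 1 := ZMod.pow_card_sub_one_eq_one hs0
    exact Nat.pos_of_dvd_of_pos (orderOf_dvd_of_pow_eq_one h2) (by have := hw.one_lt; omega)
  have hdvd : orderOf ((sg t q : ℤ) : ZMod w) ∣ 2 := by
    rw [cls] at h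
    obtain ⟨k, hk⟩ : ∃ k, k = orderOf ((sg t q : ℤ) : ZMod w) := ⟨_, rfl⟩
    rw [← hk] at h hpos ⊢
    interval_cases k
    · exact one_dvd _
    · exact dvd_rfl
  have h3 : ((q : ℕ) : ZMod w) ^ 2 = 1 := by rw [← hs]; exact orderOf_dvd_iff_pow_eq_one.1 hdvd
  rw [← ZMod.natCast_eq_zero_iff, Nat.cast_sub (Nat.one_le_pow _ _ hq)]
  push_cast
  rw [h3, sub_self]

end Cfsg.Agent.R2.Spec.F1
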