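import Cfsg.Agent.R2.Spec.F1.MovA
import Cfsg.Agent.H389.QU.Emb
import Cfsg.Agent.S0279

/-!
# Abelian moved subgroups of the unitary groups (helper23)

* `movA_su_even` : `SU_{2k}(q)`, an element of prime order `w`, `w ∣ (q ^ 2) ^ e - 1`, `e ≤ k`, `w ∤ q ^ 2 - 1`, moves
  the unipotent radical of the Siegel parabolic subgroup;
* `movA_psu` : `PSU_n(q)`, `2 e ≤ n`.
-/

set_option autoImplicit false
set_option linter.unusedSectionVars false

namespace Cfsg.Agent.R2.Spec.F1

open Subgroup Matrix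
open Cfsg Cfsg.Agent.LieClassical Cfsg.Agent.LieClassical.HermBasic Cfsg.Agent.H948.UBase Cfsg.Agent.H948.UProd
open Cfsg.Agent.H425.Siegel (exists_gl)

section hyp

variable {F : Type} [Field F] [Fintype F] {q k : ℕ}

/-- the hyperbolic Hermitian form -/
def hypForm (hF : Fintype.card F = q ^ 2) (k : ℕ) :
    ((Fin k → F) × (Fin k → F)) →ₛₗ[cj hF] ((Fin k → F) × (Fin k → F)) →ₗ[F] F :=
  LinearMap.mk₂'ₛₗ (cj hF) (RingHom.id F) (fun x y => ∑ i, x.1 i ^ q * y.2 i + ∑ i, x.2 i ^ q * y.1 i)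
    (fun x y z => by
      simp only [Prod.fst_add, Prod.snd_add, Pi.add_apply, add_pow_q hF, add_mul, Finset.sum_add_distrib]
      abel)
    (fun c x y => by
      simp only [Prod.smul_fst, Prod.smul_snd, Pi.smul_apply, smul_eq_mul, mul_pow, cj_apply, mul_assoc,
        ← Finset.mul_sum, mul_add])
    (fun x y z => by
      simp only [Prod.fst_add, Prod.snd_add, Pi.add_apply, mul_add, Finset.sum_add_distrib]
      abel)
    (fun c x y => by
      simp only [Prod.smul_fst, Prod.smul_snd, Pi.smul_apply, smul_eq_mul, RingHom.id_apply, mul_add, Finset.mul_sum]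
      congr 1 <;> exact Finset.sum_congr rfl fun i _ => by ring)

theorem hypForm_apply (hF : Fintype.card F = q ^ 2) (x y : (Fin k → F) × (Fin k → F)) :
    hypForm hF k x y = ∑ i, x.1 i ^ q * y.2 i + ∑ i, x.2 i ^ q * y.1 i := rfl

theorem hypForm_dot (hF : Fintype.card F = q ^ 2) (x y : (Fin k → F) × (Fin k → F)) :
    hypForm hF k x y = (⇑(cj hF) ∘ x.1) ⬝ᵥ y.2 + (⇑(cj hF) ∘ x.2) ⬝ᵥ y.1 := rfl

theorem isHerm_hyp (hF : Fintype.card F = q ^ 2) : IsHerm hF (hypForm hF k) where
  symm := ⟨fun x y => by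
    rw [hypForm_apply, hypForm_apply, map_add, map_sum, map_sum, add_comm]
    congr 1 <;> exact Finset.sum_congr rfl fun i _ => by
      rw [cj_apply, mul_pow, pow_q_pow_q hF, mul_comm]⟩
  sep := fun x h => by
    apply Prod.ext
    · funext i
      have h1 := h (0, Pi.single i 1)
      rw [hypForm_apply] at h1
      simp only [Pi.zero_apply, mul_zero, Finset.sum_const_zero, add_zero] at h1
      rw [Finset.sum_eq_single i (fun j _ hj => by rw [Pi.single_eq_of_ne hj, mul_zero])
        (fun h => absurd (Finset.mem_univ i) h), Pi.single_eq_same, mul_one, pow_q_eq_zero hF] at h1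
      exact h1
    · funext i
      have h1 := h (Pi.single i 1, 0)
      rw [hypForm_apply] at h1
      simp only [Pi.zero_apply, mul_zero, Finset.sum_const_zero, zero_add] at h1
      rw [Finset.sum_eq_single i (fun j _ hj => by rw [Pi.single_eq_of_ne hj, mul_zero])
        (fun h => absurd (Finset.mem_univ i) h), Pi.single_eq_same, mul_one, pow_q_eq_zero hF] at h1
      exact h1

/-- the conjugate matrix -/
def cm (hF : Fintype.card F = q ^ 2) (A : Matrix (Fin k) (Fin k) F) : Matrix (Fin k) (Fin k) F := A.map (cj hF)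

theorem cm_mul (hF : Fintype.card F = q ^ 2) (A B : Matrix (Fin k) (Fin k) F) : cm hF (A * B) = cm hF A * cm hF B :=
  Matrix.map_mul

theorem cm_one (hF : Fintype.card F = q ^ 2) : cm hF (1 : Matrix (Fin k) (Fin k) F) = 1 :=
  Matrix.map_one _ (map_zero _) (map_one _)

theorem cj_mulVec (hF : Fintype.card F = q ^ 2) (A : Matrix (Fin k) (Fin k) F) (x : Fin k → F) :
    ⇑(cj hF) ∘ (A *ᵥ x) = cm hF A *ᵥ (⇑(cj hF) ∘ x) := by
  funext i
  exact RingHom.map_mulVec (cj hF) A x i

/-- the Levi element -/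
def levi (hF : Fintype.card F = q ^ 2) (A : GL (Fin k) F) : Module.End F ((Fin k → F) × (Fin k → F)) :=
  (Matrix.mulVecLin (A : Matrix (Fin k) (Fin k) F)).prodMap
    (Matrix.mulVecLin (cm hF ((A⁻¹ : GL (Fin k) F) : Matrix (Fin k) (Fin k) F))ᵀ)

theorem levi_apply (hF : Fintype.card F = q ^ 2) (A : GL (Fin k) F) (x : (Fin k → F) × (Fin k → F)) :
    levi hF A x = ((A : Matrix (Fin k) (Fin k) F) *ᵥ x.1,
      (cm hF ((A⁻¹ : GL (Fin k) F) : Matrix (Fin k) (Fin k) F))ᵀ *ᵥ x.2) := rfl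

theorem levi_mul (hF : Fintype.card F = q ^ 2) (A B : GL (Fin k) F) : levi hF (A * B) = levi hF A * levi hF B := by
  apply LinearMap.ext
  intro x
  rw [Module.End.mul_apply, levi_apply, levi_apply, levi_apply]
  simp only [Matrix.mulVec_mulVec]
  rw [_root_.mul_inv_rev, Units.val_mul, Units.val_mul, cm_mul, Matrix.transpose_mul]

theorem levi_one (hF : Fintype.card F = q ^ 2) : levi hF (1 : GL (Fin k) F) = 1 := by
  apply LinearMap.ext
  intro x
  rw [levi_apply, inv_one, Units.val_one, cm_one, Matrix.transpose_one, Matrix.one_mulVec, Matrix.one_mulVec]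
  rfl

theorem levi_pow (hF : Fintype.card F = q ^ 2) (A : GL (Fin k) F) (n : ℕ) : levi hF A ^ n = levi hF (A ^ n) := by
  induction n with
  | zero => rw [pow_zero, pow_zero, levi_one]
  | succ n ih => rw [pow_succ, pow_succ, levi_mul, ih]

theorem cm_inv (hF : Fintype.card F = q ^ 2) (A : GL (Fin k) F) :
    (cm hF (A : Matrix (Fin k) (Fin k) F))ᵀ * (cm hF ((A⁻¹ : GL (Fin k) F) : Matrix (Fin k) (Fin k) F))ᵀ = 1 := by
  rw [← Matrix.transpose_mul, ← cm_mul, ← Units.val_mul, inv_mul_cancel, Units.val_one, cm_one, Matrix.transpose_one]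

theorem dot_levi (hF : Fintype.card F = q ^ 2) (A : GL (Fin k) F) (x y : Fin k → F) :
    (⇑(cj hF) ∘ ((A : Matrix (Fin k) (Fin k) F) *ᵥ x)) ⬝ᵥ
      ((cm hF ((A⁻¹ : GL (Fin k) F) : Matrix (Fin k) (Fin k) F))ᵀ *ᵥ y) = (⇑(cj hF) ∘ x) ⬝ᵥ y := by
  rw [cj_mulVec, Matrix.dotProduct_mulVec, ← Matrix.mulVec_transpose, Matrix.mulVec_mulVec, Matrix.transpose_transpose]
  have h1 : cm hF ((A⁻¹ : GL (Fin k) F) : Matrix (Fin k) (Fin k) F) * cm hF (A : Matrix (Fin k) (Fin k) F) = 1 := by
    rw [← cm_mul, ← Units.val_mul, inv_mul_cancel, Units.val_one, cm_one]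
  rw [h1, Matrix.one_mulVec]

theorem iso_levi (hF : Fintype.card F = q ^ 2) (A : GL (Fin k) F) : Iso (hypForm hF k) (levi hF A) := by
  intro x y
  rw [hypForm_dot, hypForm_dot, levi_apply, levi_apply]
  simp only
  rw [dot_levi]
  congr 1
  -- the other half, by conjugation
  have h1 : (cm hF (cm hF ((A⁻¹ : GL (Fin k) F) : Matrix (Fin k) (Fin k) F))ᵀ)ᵀ = ((A⁻¹ : GL (Fin k) F) :
      Matrix (Fin k) (Fin k) F) := by
    ext i j
    change cj hF (cj hF _) = _
    rw [cj_cj]
  rw [cj_mulVec, Matrix.dotProduct_mulVec, ← Matrix.mulVec_transpose, Matrix.mulVec_mulVec]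
  have h2 : (A : Matrix (Fin k) (Fin k) F)ᵀ * cm hF (cm hF ((A⁻¹ : GL (Fin k) F) : Matrix (Fin k) (Fin k) F))ᵀ = 1 := by
    rw [← Matrix.transpose_transpose (cm hF (cm hF ((A⁻¹ : GL (Fin k) F) : Matrix (Fin k) (Fin k) F))ᵀ), h1,
      ← Matrix.transpose_mul, ← Units.val_mul, inv_mul_cancel, Units.val_one, Matrix.transpose_one]
  rw [h2, Matrix.one_mulVec]

/-- skew-Hermitian matrices -/
def skH (hF : Fintype.card F = q ^ 2) (k : ℕ) : AddSubgroup (Matrix (Fin k) (Fin k) F) where
  carrier := {S | (cm hF S)ᵀ = -S}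
  add_mem' := by
    intro a b ha hb
    have ha' : (cm hF a)ᵀ = -a := ha
    have hb' : (cm hF b)ᵀ = -b := hb
    change (cm hF (a + b))ᵀ = -(a + b)
    have h1 : cm hF (a + b) = cm hF a + cm hF b := by
      ext i j
      exact map_add (cj hF) _ _
    rw [h1, Matrix.transpose_add, ha', hb', neg_add]
  zero_mem' := by
    change (cm hF 0)ᵀ = -0
    ext i j
    change cj hF 0 = -0
    rw [map_zero, neg_zero]
  neg_mem' := by
    intro a ha
    have ha' : (cm hF a)ᵀ = -a := ha
    change (cm hF (-a))ᵀ = - -a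
    have h1 : cm hF (-a) = -cm hF a := by
      ext i j
      exact map_neg (cj hF) _
    rw [h1, Matrix.transpose_neg, ha']

/-- the unipotent element -/
def uni2 (S : Matrix (Fin k) (Fin k) F) : Module.End F ((Fin k → F) × (Fin k → F)) :=
  LinearMap.prod (LinearMap.fst F _ _ + (Matrix.mulVecLin S) ∘ₗ LinearMap.snd F _ _) (LinearMap.snd F _ _)

theorem uni2_apply (S : Matrix (Fin k) (Fin k) F) (x : (Fin k → F) × (Fin k → F)) :
    uni2 S x = (x.1 + S *ᵥ x.2, x.2) := rfl

theorem uni2_add (S T : Matrix (Fin k) (Fin k) F) : uni2 (S + T) = uni2 S * uni2 T := by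
  apply LinearMap.ext
  intro x
  rw [Module.End.mul_apply, uni2_apply, uni2_apply, uni2_apply, Matrix.add_mulVec]
  simp only [add_assoc, add_comm (S *ᵥ x.2)]

theorem uni2_zero : uni2 (0 : Matrix (Fin k) (Fin k) F) = 1 := by
  apply LinearMap.ext
  intro x
  rw [uni2_apply, Matrix.zero_mulVec, add_zero]
  rfl

theorem uni2_pow (S : Matrix (Fin k) (Fin k) F) (n : ℕ) : uni2 S ^ n = uni2 (n • S) := by
  induction n with
  | zero => rw [pow_zero, zero_smul, uni2_zero]
  | succ n ih => rw [pow_succ, ih, succ_nsmul, uni2_add]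

theorem iso_uni2 (hF : Fintype.card F = q ^ 2) {S : Matrix (Fin k) (Fin k) F} (hS : (cm hF S)ᵀ = -S) :
    Iso (hypForm hF k) (uni2 S) := by
  intro x y
  rw [hypForm_dot, hypForm_dot, uni2_apply, uni2_apply]
  simp only
  have h1 : ⇑(cj hF) ∘ (x.1 + S *ᵥ x.2) = ⇑(cj hF) ∘ x.1 + cm hF S *ᵥ (⇑(cj hF) ∘ x.2) := by
    rw [← cj_mulVec]
    funext i
    exact map_add (cj hF) _ _
  rw [h1, add_dotProduct, dotProduct_add]
  have h2 : (cm hF S *ᵥ (⇑(cj hF) ∘ x.2)) ⬝ᵥ y.2 = -((⇑(cj hF) ∘ x.2) ⬝ᵥ (S *ᵥ y.2)) := by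
    rw [dotProduct_comm, Matrix.dotProduct_mulVec, ← Matrix.mulVec_transpose, hS, Matrix.neg_mulVec, neg_dotProduct,
      dotProduct_comm]
  rw [h2]
  abel

theorem det_uni2 {p : ℕ} [CharP F p] (hp : p.Prime) {S : Matrix (Fin k) (Fin k) F} :
    LinearMap.det (uni2 S) = 1 := by
  have h1 : uni2 S ^ p = 1 := by
    rw [uni2_pow, ← Nat.cast_smul_eq_nsmul F, CharP.cast_eq_zero, zero_smul, uni2_zero]
  have h2 : LinearMap.det (uni2 S) ^ p = 1 := by rw [← map_pow, h1, map_one]
  have := Fact.mk hp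
  have h3 : (LinearMap.det (uni2 S) - 1) ^ p = 0 := by
    rw [sub_pow_char, h2, one_pow, sub_self]
  exact sub_eq_zero.1 (pow_eq_zero_iff hp.ne_zero |>.1 h3)

/-- the conjugation action -/
theorem levi_uni2 (hF : Fintype.card F = q ^ 2) (A : GL (Fin k) F) (S : Matrix (Fin k) (Fin k) F) :
    levi hF A * uni2 S = uni2 ((A : Matrix (Fin k) (Fin k) F) * S * (cm hF (A : Matrix (Fin k) (Fin k) F))ᵀ) *
      levi hF A := by
  apply LinearMap.ext
  intro x
  rw [Module.End.mul_apply, Module.End.mul_apply, uni2_apply, levi_apply, levi_apply, uni2_apply]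
  simp only [Matrix.mulVec_add, Matrix.mulVec_mulVec]
  rw [Matrix.mul_assoc, Matrix.mul_assoc, cm_inv, Matrix.mul_one]

theorem act_skH (hF : Fintype.card F = q ^ 2) (A : GL (Fin k) F) {S : Matrix (Fin k) (Fin k) F}
    (hS : (cm hF S)ᵀ = -S) : (cm hF ((A : Matrix (Fin k) (Fin k) F) * S * (cm hF (A : Matrix (Fin k) (Fin k) F))ᵀ))ᵀ =
      -((A : Matrix (Fin k) (Fin k) F) * S * (cm hF (A : Matrix (Fin k) (Fin k) F))ᵀ) := by
  have h1 : (cm hF (cm hF (A : Matrix (Fin k) (Fin k) F))ᵀ)ᵀ = (A : Matrix (Fin k) (Fin k) F) := by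
    ext i j
    change cj hF (cj hF _) = _
    rw [cj_cj]
  rw [cm_mul, cm_mul, Matrix.transpose_mul, Matrix.transpose_mul, h1, hS, ← Matrix.mul_assoc, Matrix.mul_neg,
    Matrix.neg_mul]

/-- a skew-Hermitian matrix moved by a non-scalar matrix -/
theorem exists_skH (hF : Fintype.card F = q ^ 2) {A : GL (Fin k) F}
    (hA : ¬ ∃ c : F, (A : Matrix (Fin k) (Fin k) F) = c • 1) :
    ∃ S : Matrix (Fin k) (Fin k) F, (cm hF S)ᵀ = -S ∧
      (A : Matrix (Fin k) (Fin k) F) * S * (cm hF (A : Matrix (Fin k) (Fin k) F))ᵀ ≠ S := by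
  by_contra hcon
  push Not at hcon
  set M : Matrix (Fin k) (Fin k) F := (A : Matrix (Fin k) (Fin k) F) with hM
  set D : Matrix (Fin k) (Fin k) F := (cm hF M)ᵀ with hD
  obtain ⟨g, hg⟩ : ∃ g : F, g ^ q ≠ g := by
    by_contra h
    push Not at h
    apply cj_ne_id hF
    ext x
    exact h x
  -- all elementary matrices are fixed
  have key : ∀ i j : Fin k, M * single i j 1 * D = single i j 1 := by
    intro i j
    have hc : ∀ c : F, M * (single i j c - single j i (c ^ q)) * D = single i j c - single j i (c ^ q) := by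
      intro c
      apply hcon
      ext a b
      change cj hF ((single i j c - single j i (c ^ q)) b a) = (-(single i j c - single j i (c ^ q))) a b
      rw [Matrix.sub_apply, Matrix.neg_apply, Matrix.sub_apply, map_sub, neg_sub]
      rw [Matrix.single_apply, Matrix.single_apply, Matrix.single_apply, Matrix.single_apply]
      have e1 : cj hF (if i = b ∧ j = a then c else 0) = if j = a ∧ i = b then c ^ q else 0 := by
        by_cases h : i = b ∧ j = a
        · rw [if_pos h, if_pos h.symm, cj_apply]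
        · rw [if_neg h, if_neg (fun h' => h h'.symm), map_zero]
      have e2 : cj hF (if j = b ∧ i = a then c ^ q else 0) = if i = a ∧ j = b then c else 0 := by
        by_cases h : j = b ∧ i = a
        · rw [if_pos h, if_pos h.symm, cj_apply, pow_q_pow_q hF]
        · rw [if_neg h, if_neg (fun h' => h h'.symm), map_zero]
      rw [e1, e2]
    have hs : ∀ (a b : Fin k) (c : F), single a b c = c • single a b (1 : F) := by
      intro a b c
      rw [Matrix.smul_single, smul_eq_mul, mul_one]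
    have h1 := hc 1
    have h2 := hc g
    rw [one_pow] at h1
    rw [hs i j g, hs j i (g ^ q), Matrix.mul_sub, Matrix.sub_mul, Matrix.mul_smul, Matrix.mul_smul, Matrix.smul_mul,
      Matrix.smul_mul] at h2
    rw [Matrix.mul_sub, Matrix.sub_mul] at h1
    have h3 : (g - g ^ q) • (M * single i j 1 * D) = (g - g ^ q) • single i j (1 : F) := by
      have h4 : (g - g ^ q) • (M * single i j 1 * D) = (g • (M * single i j 1 * D) - g ^ q • (M * single j i 1 * D)) -
          g ^ q • (M * single i j 1 * D - M * single j i 1 * D) := by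
        rw [smul_sub, sub_smul]
        abel
      rw [h4, h2, h1, smul_sub, sub_smul]
      abel
    have h5 : g - g ^ q ≠ 0 := sub_ne_zero.2 (Ne.symm hg)
    exact smul_right_injective _ h5 h3
  -- hence `M D = 1` and `M` commutes with them
  have hMD : M * D = 1 := by
    have h1 : (1 : Matrix (Fin k) (Fin k) F) = ∑ i, single i i (1 : F) := by
      ext a b
      rw [Matrix.sum_apply]
      simp only [Matrix.single_apply]
      by_cases hab : a = b
      · subst hab
        rw [Matrix.one_apply_eq, Finset.sum_eq_single a (fun i _ hi => if_neg (fun h => hi h.1))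
          (fun h => absurd (Finset.mem_univ a) h), if_pos ⟨rfl, rfl⟩]
      · rw [Matrix.one_apply_ne hab, Finset.sum_eq_zero (fun i _ => if_neg (fun h => hab (h.1.symm.trans h.2)))]
    have h2 : M * 1 * D = 1 := by
      conv_lhs => rw [h1]
      rw [Finset.mul_sum, Finset.sum_mul]
      conv_rhs => rw [h1]
      exact Finset.sum_congr rfl fun i _ => key i i
    rwa [Matrix.mul_one] at h2
  have hDM : D * M = 1 := mul_eq_one_comm.1 hMD
  have hcomm : ∀ i j : Fin k, M * single i j 1 = single i j 1 * M := by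
    intro i j
    have h1 : M * single i j 1 * D * M = single i j 1 * M := by rw [key i j]
    rwa [Matrix.mul_assoc, hDM, Matrix.mul_one] at h1
  apply hA
  rcases Nat.eq_zero_or_pos k with rfl | hk
  · exact ⟨0, by ext i; exact i.elim0⟩
  refine ⟨M ⟨0, hk⟩ ⟨0, hk⟩, ?_⟩
  ext a b
  rw [Matrix.smul_apply, smul_eq_mul]
  have h1 := congrFun (congrFun (hcomm b ⟨0, hk⟩) a) ⟨0, hk⟩
  rw [Matrix.mul_single_apply_same, mul_one] at h1
  rw [h1]
  by_cases hab : a = b
  · subst hab
    rw [Matrix.single_mul_apply_same, one_mul, Matrix.one_apply_eq, mul_one]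
  · rw [Matrix.single_mul_apply_of_ne _ _ _ _ _ hab, Matrix.one_apply_ne hab, mul_zero]

theorem movA_su_even (hF : Fintype.card F = q ^ 2) {p : ℕ} [CharP F p] (hp : p.Prime) {e r : ℕ} (hr : r.Prime)
    (he1 : 1 ≤ e) (he : e ≤ k) (h : r ∣ Fintype.card F ^ e - 1) (h1 : ¬ r ∣ q ^ 2 - 1) :
    MovA (SU (k + k) F q) p r := by
  obtain ⟨A, hA⟩ := exists_gl (F := F) hr he1 he h
  obtain ⟨ι, hι⟩ := exists_coord (isHerm_hyp (k := k) hF) (n := k + k)
    (by rw [Module.finrank_prod, Module.finrank_fin_fun])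
  have hns : ¬ ∃ c : F, (A : Matrix (Fin k) (Fin k) F) = c • 1 := by
    rintro ⟨c, hc⟩
    apply h1
    rw [← hA, ← hF]
    apply orderOf_dvd_of_pow_eq_one
    apply Units.ext
    have hk : 0 < k := by omega
    have hc0 : c ≠ 0 := by
      rintro rfl
      rw [zero_smul] at hc
      have h2 : (A : Matrix (Fin k) (Fin k) F) * ((A⁻¹ : GL (Fin k) F) : Matrix (Fin k) (Fin k) F) = 1 := by
        rw [← Units.val_mul, mul_inv_cancel, Units.val_one]
      rw [hc, Matrix.zero_mul] at h2
      have h3 := congrFun (congrFun h2 ⟨0, hk⟩) ⟨0, hk⟩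
      rw [Matrix.one_apply_eq] at h3
      exact zero_ne_one h3
    rw [Units.val_pow_eq_pow_val, hc, Units.val_one, smul_pow, one_pow, FiniteField.pow_card_sub_one_eq_one c hc0,
      one_smul]
  obtain ⟨S, hS, hne⟩ := exists_skH hF hns
  -- the elements
  have hdA : LinearMap.det (levi hF A) = 1 := by
    have h2 : LinearMap.det (levi hF A) ^ r = 1 := by
      rw [← map_pow, levi_pow, ← hA, pow_orderOf_eq_one, levi_one, map_one]
    have h3 : LinearMap.det (levi hF A) ^ (q + 1) = 1 := det_norm (isHerm_hyp hF) (iso_levi hF A)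
    have h4 : Nat.Coprime r (q + 1) := by
      rw [hr.coprime_iff_not_dvd]
      intro hd
      apply h1
      refine hd.trans ⟨q - 1, ?_⟩
      have := Nat.sq_sub_sq q 1
      rwa [one_pow] at this
    have h5 := Nat.eq_one_of_dvd_coprimes h4 (orderOf_dvd_of_pow_eq_one h2) (orderOf_dvd_of_pow_eq_one h3)
    exact orderOf_eq_one_iff.1 h5
  let X : isoM (hypForm hF k) := ⟨levi hF A, iso_levi hF A, hdA⟩
  have hXr : X ^ r = 1 := by
    apply Subtype.ext
    change levi hF A ^ r = 1
    rw [levi_pow, ← hA, pow_orderOf_eq_one, levi_one]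
  let U : Multiplicative (skH hF k) →* isoM (hypForm hF k) :=
    { toFun := fun T => ⟨uni2 ((Multiplicative.toAdd T : skH hF k) : Matrix (Fin k) (Fin k) F),
        iso_uni2 hF (Multiplicative.toAdd T : skH hF k).2, det_uni2 hp⟩
      map_one' := Subtype.ext uni2_zero
      map_mul' := fun a b => Subtype.ext (uni2_add _ _) }
  have hUX : ∀ T : skH hF k, ∃ T' : skH hF k, X * U (Multiplicative.ofAdd T) = U (Multiplicative.ofAdd T') * X ∧
      (T' : Matrix (Fin k) (Fin k) F) = (A : Matrix (Fin k) (Fin k) F) * T * (cm hF (A : Matrix (Fin k) (Fin k) F))ᵀ := by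
    intro T
    refine ⟨⟨_, act_skH hF A T.2⟩, ?_, rfl⟩
    apply Subtype.ext
    exact levi_uni2 hF A T
  set φ : isoM (hypForm hF k) →* SU (k + k) F q := suHom ι hι with hφ
  have hφinj : Function.Injective φ := by
    intro a b hab
    apply Subtype.ext
    exact Cfsg.Agent.H389.QU.toSU_inj ι hι (hS := a.2.1) (hT := b.2.1) (hS1 := a.2.2) (hT1 := b.2.2) hab
  have hX1 : φ X ≠ 1 := by
    intro h
    have h2 : X = 1 := hφinj (by rw [h, map_one])
    have h3 : levi hF A = 1 := congrArg Subtype.val h2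
    apply hns
    refine ⟨1, ?_⟩
    rw [one_smul]
    apply Matrix.ext_of_mulVec_single
    intro i
    have h4 := congrArg Prod.fst (LinearMap.congr_fun h3 (Pi.single i 1, 0))
    rw [levi_apply] at h4
    rw [Matrix.one_mulVec]
    exact h4
  have := Fact.mk hr
  refine ⟨(φ.comp U).range, φ X, ?_, orderOf_eq_prime (by rw [← map_pow, hXr, map_one]) hX1, ?_, ?_, ?_⟩
  · rintro ⟨_, T, rfl⟩
    refine ⟨1, Subtype.ext ?_⟩
    change (φ.comp U T) ^ p ^ 1 = 1
    rw [pow_one, ← map_pow]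
    have h2 : T ^ p = 1 := by
      change p • (Multiplicative.toAdd T) = 0
      apply Subtype.ext
      change p • ((Multiplicative.toAdd T : skH hF k) : Matrix (Fin k) (Fin k) F) = 0
      rw [← Nat.cast_smul_eq_nsmul F, CharP.cast_eq_zero, zero_smul]
    rw [h2, map_one]
  · rintro _ ⟨T, rfl⟩
    obtain ⟨T', hT', -⟩ := hUX (Multiplicative.toAdd T)
    refine ⟨Multiplicative.ofAdd T', ?_⟩
    change φ (U (Multiplicative.ofAdd T')) = φ X * φ (U T) * (φ X)⁻¹
    rw [eq_mul_inv_iff_mul_eq, ← map_mul, ← map_mul]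
    exact congrArg φ hT'.symm
  · refine ⟨φ (U (Multiplicative.ofAdd ⟨S, hS⟩)), ⟨_, rfl⟩, fun hc => ?_⟩
    obtain ⟨T', hT', hT2⟩ := hUX ⟨S, hS⟩
    rw [← map_mul, ← map_mul] at hc
    have h2 := hφinj hc
    rw [hT'] at h2
    have h3 : (U (Multiplicative.ofAdd T') : isoM (hypForm hF k)) = U (Multiplicative.ofAdd ⟨S, hS⟩) := by
      have h4 := congrArg φ h2
      rw [map_mul, map_mul] at h4
      exact hφinj (mul_right_cancel h4)
    apply hne
    rw [← hT2]
    have h5 : uni2 (T' : Matrix (Fin k) (Fin k) F) = uni2 S := congrArg Subtype.val h3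
    apply Matrix.ext_of_mulVec_single
    intro i
    have h6 := congrArg Prod.fst (LinearMap.congr_fun h5 (0, Pi.single i 1))
    rw [uni2_apply, uni2_apply] at h6
    simpa using h6
  · rintro _ ⟨b, rfl⟩ _ ⟨c, rfl⟩
    rw [← map_mul, ← map_mul, mul_comm]

/-- **the unitary groups** -/
theorem movA_psu (hF : Fintype.card F = q ^ 2) {n p : ℕ} [CharP F p] (hp : p.Prime) {e r : ℕ} (hr : r.Prime) (hn : 3 ≤ n)
    (he1 : 1 ≤ e) (he : 2 * e ≤ n) (h : r ∣ Fintype.card F ^ e - 1) (h1 : ¬ r ∣ q ^ 2 - 1) :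
    MovA (PSU n F q) p r := by
  obtain ⟨f, hf⟩ := Cfsg.Agent.H389.QU.exists_emb (m := e + e) (n := n) hF (by omega)
  have h2 : MovA (SU n F q) p r := (movA_su_even hF hp hr he1 le_rfl h h1).map f hf
  have hfin : Finite (SU n F q) := inferInstance
  refine MovA.quot _ ?_ hp hr h2
  rw [Cfsg.Agent.S0279.result hF n hn]
  intro hd
  have h3 : p ∣ q + 1 := hd.trans (Nat.gcd_dvd_right _ _)
  have h4 : p ∣ q := by
    have h5 : p ∣ Fintype.card F := by
      rw [← CharP.cast_eq_zero_iff F p]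
      exact FiniteField.cast_card_eq_zero F
    rw [hF] at h5
    exact hp.dvd_of_dvd_pow h5
  have h5 := (Nat.dvd_add_right h4).1 h3
  exact hp.one_lt.ne' (Nat.dvd_one.1 h5)

end hyp

end Cfsg.Agent.R2.Spec.F1
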