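import Mathlib

/-!
# Arithmetic of `(q ^ 2 + 1) / 2` (helper23)
-/

set_option autoImplicit false

namespace Cfsg.Agent.R2.Spec.F1

variable {z : ℕ}

theorem ord_four (hz : z.Prime) {a : ZMod z} (h : orderOf a = 4) : a ^ 2 + 1 = 0 := by
  have := Fact.mk hz
  have h1 : a ^ 4 = 1 := by rw [← h]; exact pow_orderOf_eq_one a
  have h2 : a ^ 2 ≠ 1 := pow_ne_one_of_lt_orderOf (by norm_num) (by rw [h]; norm_num)
  have h3 : (a ^ 2 - 1) * (a ^ 2 + 1) = 0 := by linear_combination h1
  exact (mul_eq_zero.1 h3).resolve_left (sub_ne_zero.2 h2)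

theorem ord_three (hz : z.Prime) {a : ZMod z} (h : orderOf a = 3) : a ^ 2 + a + 1 = 0 := by
  have := Fact.mk hz
  have h1 : a ^ 3 = 1 := by rw [← h]; exact pow_orderOf_eq_one a
  have h2 : a ≠ 1 := by
    rintro rfl
    rw [orderOf_one] at h
    omega
  have h3 : (a - 1) * (a ^ 2 + a + 1) = 0 := by linear_combination h1
  exact (mul_eq_zero.1 h3).resolve_left (sub_ne_zero.2 h2)

theorem ord_six (hz : z.Prime) {a : ZMod z} (h : orderOf a = 6) : a ^ 2 - a + 1 = 0 := by
  have := Fact.mk hz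
  have h1 : a ^ 6 = 1 := by rw [← h]; exact pow_orderOf_eq_one a
  have h2 : a ^ 3 ≠ 1 := pow_ne_one_of_lt_orderOf (by norm_num) (by rw [h]; norm_num)
  have h4 : a ^ 2 ≠ 1 := pow_ne_one_of_lt_orderOf (by norm_num) (by rw [h]; norm_num)
  have h3 : (a ^ 3 - 1) * ((a + 1) * (a ^ 2 - a + 1)) = 0 := by linear_combination h1
  have h5 := (mul_eq_zero.1 h3).resolve_left (sub_ne_zero.2 h2)
  refine (mul_eq_zero.1 h5).resolve_left fun h6 => h4 ?_
  linear_combination (a - 1) * h6

/-- **The order of `q` modulo a prime `z ≡ 1` modulo `(q ^ 2 + 1) / 2`.** -/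
theorem class_of_mod {q N : ℕ} (hq : 3 ≤ q) (hN : 2 * N = q ^ 2 + 1) (hz : z.Prime) (hzN : N ∣ z - 1)
    (hzq : ¬ z ∣ q) : orderOf ((q : ℕ) : ZMod z) ≠ 0 ∧ orderOf ((q : ℕ) : ZMod z) ≠ 1 ∧ orderOf ((q : ℕ) : ZMod z) ≠ 2 ∧
      orderOf ((q : ℕ) : ZMod z) ≠ 3 ∧ orderOf ((q : ℕ) : ZMod z) ≠ 4 ∧ orderOf ((q : ℕ) : ZMod z) ≠ 6 := by
  have := Fact.mk hz
  have hz1 := hz.one_lt
  have hzle : N + 1 ≤ z := by
    have := Nat.le_of_dvd (by omega) hzN
    omega
  have hqodd : q % 2 = 1 := by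
    rcases Nat.mod_two_eq_zero_or_one q with h | h
    · exfalso
      have h1 : q ^ 2 % 2 = 0 := by rw [Nat.pow_mod, h]
      omega
    · exact h
  have hN5 : 5 ≤ N := by nlinarith
  have hcop : Nat.Coprime N q := by
    have h1 : Nat.Coprime (2 * N) q := by
      rw [hN, Nat.coprime_comm, pow_two]
      simp
    exact h1.coprime_mul_left
  have key2 : ¬ z ∣ (q - 1) * (q + 1) := by
    intro hd
    rcases hz.dvd_mul.1 hd with h | h
    · have h1 := Nat.le_of_dvd (by omega) h
      have h2 : z ≤ q + 1 := by omega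
      nlinarith
    · have := Nat.le_of_dvd (by omega) h
      nlinarith
  have hsq : ((q : ℕ) : ZMod z) ^ 2 ≠ 1 := by
    intro h1
    apply key2
    rw [← ZMod.natCast_eq_zero_iff]
    have h2 : (q - 1) * (q + 1) + 1 = q ^ 2 := by
      obtain ⟨m, rfl⟩ : ∃ m, q = m + 1 := ⟨q - 1, by omega⟩
      simp only [Nat.add_sub_cancel]
      ring
    have h3 := congrArg (fun k : ℕ => (k : ZMod z)) h2
    push_cast at h3
    push_cast
    linear_combination h3 + h1
  have hq0 : ((q : ℕ) : ZMod z) ≠ 0 := fun h0 => hzq ((ZMod.natCast_eq_zero_iff q z).1 h0)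
  refine ⟨?_, ?_, ?_, ?_, ?_, ?_⟩
  · intro h0
    have h1 : ((q : ℕ) : ZMod z) ^ (z - 1) = 1 := ZMod.pow_card_sub_one_eq_one hq0
    have h2 := orderOf_dvd_of_pow_eq_one h1
    rw [h0] at h2
    have := Nat.eq_zero_of_zero_dvd h2
    omega
  · intro h1
    apply hsq
    rw [orderOf_eq_one_iff.1 h1, one_pow]
  · intro h1
    apply hsq
    rw [← h1]
    exact pow_orderOf_eq_one _
  · intro h1
    have h2 := ord_three hz h1
    have h3 : z ∣ q ^ 2 + q + 1 := by
      rw [← ZMod.natCast_eq_zero_iff]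
      push_cast
      exact h2
    obtain ⟨c, hc⟩ := h3
    have hc3 : c < 3 := by
      by_contra hcon
      have h4 : z * 3 ≤ z * c := Nat.mul_le_mul_left z (by omega)
      nlinarith
    have hodd : (q ^ 2 + q + 1) % 2 = 1 := by
      rw [Nat.add_mod, Nat.add_mod (q ^ 2), Nat.pow_mod, hqodd]
    have hc1 : c = 1 := by
      rcases (show c = 0 ∨ c = 1 ∨ c = 2 by omega) with rfl | rfl | rfl
      · omega
      · rfl
      · omega
    rw [hc1, mul_one] at hc
    have h5 : N ∣ q * (q + 1) := by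
      have : z - 1 = q * (q + 1) := by
        rw [← hc]
        have : q * (q + 1) = q ^ 2 + q := by ring
        omega
      rwa [this] at hzN
    have h6 := Nat.le_of_dvd (by omega) (hcop.dvd_of_dvd_mul_left h5)
    nlinarith
  · intro h1
    have h2 := ord_four hz h1
    have h3 : z ∣ 2 * N := by
      rw [← ZMod.natCast_eq_zero_iff, hN]
      push_cast
      exact h2
    rcases hz.dvd_mul.1 h3 with h4 | h4
    · have := Nat.le_of_dvd (by norm_num) h4
      omega
    · have := Nat.le_of_dvd (by omega) h4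
      omega
  · intro h1
    have h2 := ord_six hz h1
    obtain ⟨m, rfl⟩ : ∃ m, q = m + 1 := ⟨q - 1, by omega⟩
    have h3 : z ∣ m ^ 2 + m + 1 := by
      rw [← ZMod.natCast_eq_zero_iff]
      push_cast at h2 ⊢
      linear_combination h2
    obtain ⟨c, hc⟩ := h3
    have hc3 : c < 2 := by
      by_contra hcon
      have h4 : z * 2 ≤ z * c := Nat.mul_le_mul_left z (by omega)
      nlinarith
    have hc1 : c = 1 := by
      rcases (show c = 0 ∨ c = 1 by omega) with rfl | rfl
      · omega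
      · rfl
    rw [hc1, mul_one] at hc
    have h5 : N ∣ (m + 1) * m := by
      have : z - 1 = (m + 1) * m := by
        rw [← hc]
        have : (m + 1) * m = m ^ 2 + m := by ring
        omega
      rwa [this] at hzN
    have h6 := Nat.le_of_dvd (by omega) (hcop.dvd_of_dvd_mul_left h5)
    nlinarith

end Cfsg.Agent.R2.Spec.F1
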