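import Cfsg.Agent.R2.Spec.F1.CEven
import Cfsg.Agent.R2.Spec.F1.NumFour

/-!
# `PSp_2n(q)`, `Ω_2n+1(q)`, `n ≥ 6` even, `q` odd: the classes `n - 1`, `2n - 2` are big in `S` (helper23)

* `Frm.irr_v` : irregular primes are adjacent to the characteristic;
* `LS.n4_not_dvd` : `(q ^ 2 + 1) / 2` does not divide `f'`;
* `LS.nl` : **the primes of the classes `n - 1`, `2n - 2` have `rk t' < 2 wt`.**
-/

set_option autoImplicit false
set_option linter.unusedSectionVars false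
set_option linter.unusedVariables false

namespace Cfsg.Agent.R2.Spec.F1

open Subgroup Cfsg
open Cfsg.Agent.H426.LieFam Cfsg.Agent.R2.Spec Cfsg.Agent.R2.Spec.P1
open Cfsg.Agent.H420.QR

universe u w

section S

variable {G : Type u} [Group G] [Finite G] {K : Subgroup G} [K.Normal] {S : Subgroup (G ⧸ K)} [S.Normal] {t : Fam}
  {v f : ℕ}

/-- **Irregular primes are adjacent to the characteristic.** -/
theorem Frm.irr_v (h : Frm G K S t v f) (ht : BigS t) {z : ℕ} (hz : z.Prime) (hz2 : z ≠ 2) (hzv : z ≠ v)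
    (hz3 : cls t (v ^ f) z ≤ 2) : ∃ g : S, orderOf g = z * v := by
  obtain ⟨hr3, hr4, hr4', hc1, hc0⟩ := rk_of_bigS h ht
  have hv2 := wS_char (t := t) h.prime h.f_ne
  have hzq := h.nd hz hzv
  apply adj_wS h.cla h.is hz h.prime hzv
  by_cases hL : ∃ n, t = .psl n ∨ t = .psu n
  · have h1 := wS_le_two h.cla hz3
    have h2 := hr4' hL
    have h3 := hc0 hL
    omega
  · push Not at hL
    have h1 := wS_le_one h.cla (fun n => (hL n).1) (fun n => (hL n).2) hz2 hzq hz3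
    rcases Nat.lt_or_ge (cS t) 1 with h5 | h5
    · omega
    · have := hr4 (by omega)
      omega

theorem exists_dvd_order {M : Type*} [Group M] {n d : ℕ} (hn : n ≠ 0) (hd : d ∣ n) (h : ∃ g : M, orderOf g = n) :
    ∃ g : M, orderOf g = d := by
  obtain ⟨g, hg⟩ := h
  obtain ⟨c, rfl⟩ := hd
  have hc : c ≠ 0 := by rintro rfl; exact hn (mul_zero d)
  refine ⟨g ^ c, ?_⟩
  rw [orderOf_pow' g hc, hg, Nat.gcd_mul_left_left]
  exact Nat.mul_div_cancel _ (Nat.pos_of_ne_zero hc)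

/-- the classes of two nonadjacent primes -/
theorem Frm.na_of (h : Frm G K S t v f) {x y : ℕ} (hx : x.Prime) (hy : y.Prime) (hxy : x ≠ y)
    (hx3 : 3 ≤ cls t (v ^ f) x) (hy3 : 3 ≤ cls t (v ^ f) y) (hxS : x ∣ Nat.card S) (hyS : y ∣ Nat.card S) :
    (∃ g : S, orderOf g = x * y) ↔ ¬ na t (cls t (v ^ f) x) (cls t (v ^ f) y) := by
  obtain ⟨hx5, hxq, -⟩ := cls_facts hx hx3
  obtain ⟨hy5, hyq, -⟩ := cls_facts hy hy3
  have hF := adjFacts h.cla h.prime h.is
  exact hF.adj x y hx hy (by omega) (by omega) hxy (fun hd => hxq (hd.trans (dvd_pow_self v h.f_ne)))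
    (fun hd => hyq (hd.trans (dvd_pow_self v h.f_ne))) hx3 hy3 (h.mem_cls hx (by omega) hxS hx3)
    (h.mem_cls hy (by omega) hyS hy3)

end S

section L

variable {t : Fam} {p f : ℕ} {L : Type w} [Group L] [Finite L] {G : Type u} [Group G] [Finite G]
variable {K : Subgroup G} [K.Normal] {S : Subgroup (G ⧸ K)} [S.Normal]
variable {t' : Fam} {v f' : ℕ}

theorem LS.q_odd (h : LS t p f L G) (hp2 : p ≠ 2) : (p ^ f) % 2 = 1 := by
  have h1 : p % 2 = 1 := (h.prime.eq_two_or_odd).resolve_left hp2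
  rw [Nat.pow_mod, h1, one_pow]
  rfl

theorem LS.two_mul_n4 (h : LS t p f L G) (hp2 : p ≠ 2) : 2 * (((p ^ f) ^ 2 + 1) / 2) = (p ^ f) ^ 2 + 1 := by
  have h1 := h.q_odd hp2
  have h2 : (p ^ f) ^ 2 % 2 = 1 := by rw [Nat.pow_mod, h1]
  omega

theorem LS.n4_mod (h : LS t p f L G) (hp2 : p ≠ 2) : (((p ^ f) ^ 2 + 1) / 2) % 2 = 1 := by
  have h1 := h.q_odd hp2
  have h2 := h.two_mul_n4 hp2
  obtain ⟨m, hm⟩ : ∃ m, p ^ f = 2 * m + 1 := ⟨p ^ f / 2, by omega⟩
  have h3 : (p ^ f) ^ 2 = 4 * (m * m + m) + 1 := by rw [hm]; ring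
  omega

/-- **`(q ^ 2 + 1) / 2` does not divide `f'`.** -/
theorem LS.n4_not_dvd (h : LS t p f L G) (hR : Red G K S) (hF : Frm G K S t' v f') (hp2 : p ≠ 2) (ht : CE t) :
    ¬ ((p ^ f) ^ 2 + 1) / 2 ∣ f' := by
  intro hd
  have hS := h.bigS_CE hR hF hp2 ht
  have hq3 := h.q_three hp2
  have h2N := h.two_mul_n4 hp2
  have hNodd := h.n4_mod hp2
  obtain ⟨q, hq⟩ : ∃ q, q = p ^ f := ⟨_, rfl⟩
  obtain ⟨N, hN⟩ : ∃ N, N = ((p ^ f) ^ 2 + 1) / 2 := ⟨_, rfl⟩
  rw [← hN] at hd h2N hNodd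
  rw [← hq] at hq3 h2N
  have hN5 : 5 ≤ N := by nlinarith
  have hf0 := hF.f_ne
  have hf5 : 5 ≤ f' := hN5.trans (Nat.le_of_dvd (by omega) hd)
  obtain ⟨z, hz, hzc⟩ := exists_cls (t := .psl 0) (q := v) (i := f') hF.prime.two_le (by omega) fun _ => by
    constructor
    · rintro rfl
      have := Nat.le_of_dvd (by norm_num) hd
      rcases (show N = 5 ∨ N = 6 by omega) with h1 | h1 <;> rw [h1] at hd hNodd <;> omega
    · omega
  have hfz := Fact.mk hz
  have hz5 : 5 ≤ z := (cls_facts hz (by rw [hzc]; omega)).1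
  have hzv' : ¬ z ∣ v := (cls_facts hz (by rw [hzc]; omega)).2.1
  have hzv : z ≠ v := fun e => hzv' (by rw [e])
  have hord : orderOf ((v : ℕ) : ZMod z) = f' := by
    rw [← hzc, cls]
    simp [sg]
  have hv0 : ((v : ℕ) : ZMod z) ≠ 0 := fun h0 => hzv' ((ZMod.natCast_eq_zero_iff v z).1 h0)
  have hfz1 : f' ∣ z - 1 := by
    rw [← hord]
    exact orderOf_dvd_of_pow_eq_one (ZMod.pow_card_sub_one_eq_one hv0)
  have hcz : cls t' (v ^ f') z ≤ 2 := by
    apply Nat.le_of_dvd (by norm_num)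
    rw [cls]
    apply orderOf_dvd_of_pow_eq_one
    have h1 := congrArg (fun k : ℤ => (k : ZMod z)) (sg_sq t' (v ^ f'))
    push_cast at h1
    rw [h1, ← hord, pow_orderOf_eq_one, one_pow]
  -- `z` divides `|S|`
  obtain ⟨g, hg⟩ := hF.irr_v hS hz (by omega) hzv hcz
  have hzS : z ∣ Nat.card S := by
    have h1 := orderOf_dvd_natCard g
    rw [hg] at h1
    exact (Dvd.intro _ rfl).trans h1
  have hzG : z ∣ Nat.card G := by
    rw [card_eq_mul (K := K) (S := S)]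
    exact hzS.mul_right _
  have hzL := (h.dvd_iff hz).1 hzG
  have hzN : N ∣ z - 1 := hd.trans hfz1
  have hzle : N + 1 ≤ z := by
    have := Nat.le_of_dvd (by omega) hzN
    omega
  have hzp : ¬ z ∣ p := by
    intro h1
    have h2 := Nat.le_of_dvd h.prime.pos h1
    have h3 : p ≤ q := by
      rw [hq]
      exact Nat.le_self_pow (by have := h.fpos; omega) p
    nlinarith
  have hzq : ¬ z ∣ q := fun h1 => hzp (by rw [hq] at h1; exact hz.dvd_of_dvd_pow h1)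
  obtain ⟨e0, e1, e2, e3, e4, e6⟩ := class_of_mod hq3 h2N hz hzN hzq
  obtain ⟨l, hl⟩ : ∃ l, l = cls t (p ^ f) z := ⟨_, rfl⟩
  have hl' := hl
  rw [ht.cls_eq, ← hq] at hl'
  rw [← hl'] at e0 e1 e2 e3 e4 e6
  have hl3 : 3 ≤ l := by omega
  have hmem : mem t l := by
    rw [hl]
    exact (h.adj.dvd z hz (by omega) hzp (by rw [← hl]; exact hl3)).1 hzL
  have h4 : 4 ≤ eta l := by
    rcases eta_cases l with ⟨g1, g2⟩ | ⟨g1, g2⟩
    · rw [Nat.odd_iff] at g1
      omega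
    · rw [Nat.even_iff] at g1
      omega
  have := h.irr_J hR hF hp2 ht (z := z) (l := l) ⟨hz, hl.symm, hl3, hmem⟩ hzv h4
  omega

theorem dvd_tn_cls {t : Fam} (ht : CE t) {q r i : ℕ} (hq : 1 ≤ q) (hr : In t q i r) : r ∣ tnum t q i := by
  rw [ht.tn, ← hr.cls_eq, ht.cls_eq]
  refine Cfsg.Agent.H72.AdjOrth.dvd_tn hq hr.prime ?_
  exact (cls_facts hr.prime (by rw [hr.cls_eq]; exact hr.reg)).2.1

/-- **The prime of class four adjacent to the classes `2n - 4`, `n - 3`.** -/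
theorem LS.adj_four (h : LS t p f L G) (hL : Fam.Is p f L t) (hR : Red G K S) (hF : Frm G K S t' v f') (hp2 : p ≠ 2)
    (ht : CE t) {r g : ℕ} (hr : r.Prime) (hrN : r ^ g ∣ ((p ^ f) ^ 2 + 1) / 2) (hrf : ¬ r ^ g ∣ f')
    (hrK : ¬ r ∣ Nat.card K) (hrd : ¬ r ∣ dg t' (v ^ f')) (hr5 : 5 ≤ r) {j x : ℕ} (hj : j ∈ JJ (rk t))
    (hje : eta j + 2 ≤ rk t) (hx : In t (p ^ f) j x) (hxr : x ≠ r) : ∃ y : S, orderOf y = r * x := by
  have hNodd := h.n4_mod hp2
  have h2N := h.two_mul_n4 hp2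
  have hgood := h.good_J hR hF hp2 ht hj hx.prime hx.cls_eq
  have hg0 : g ≠ 0 := by
    rintro rfl
    rw [pow_zero] at hrf
    exact hrf (one_dvd _)
  have hr2 : r ≠ 2 := by omega
  have hodd : Odd (r ^ g) := (hr.odd_of_ne_two hr2).pow
  have hco : Nat.Coprime (r ^ g) x := Nat.Coprime.pow_left g ((Nat.coprime_primes hr hx.prime).2 hxr.symm)
  have e4 : tnum t (p ^ f) 4 = (p ^ f) ^ 2 + 1 := by
    rw [ht.tn, Cfsg.Agent.H72.AdjOrth.tn, if_pos (by decide)]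
  have ht' : (∃ n, t = .psp n) ∨ ∃ n, t = .oodd n := by
    obtain ⟨n, h1 | h1, -⟩ := ht
    · exact Or.inl ⟨n, h1⟩
    · exact Or.inr ⟨n, h1⟩
  obtain ⟨y, hy⟩ := two_tor ht' hL (i := 4) (j := j) (M := r ^ g) (N := x) (by norm_num)
    (by have := hx.reg; omega) (by
      have : eta 4 = 2 := rfl
      omega) hodd (hx.prime.odd_of_ne_two hx.ne_two) (by
      rw [e4, ← h2N]
      exact Dvd.dvd.mul_left hrN 2) (dvd_tn_cls ht (by have := h.q_pos; omega) hx)
  rw [hco.lcm_eq_mul] at hy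
  obtain ⟨y', hy'⟩ := (h.ord _).2 ⟨y, hy⟩
  have hxK : ¬ x ∣ Nat.card K := fun hd => hgood.1 (hd.mul_right _)
  have hxi : ¬ x ∣ S.index := fun hd => hgood.1 (Dvd.dvd.mul_left hd _)
  have hcop : Nat.Coprime (orderOf y') (Nat.card K) := by
    rw [hy']
    exact Nat.Coprime.mul_left (Nat.Coprime.pow_left g ((Nat.Prime.coprime_iff_not_dvd hr).2 hrK))
      ((Nat.Prime.coprime_iff_not_dvd hx.prime).2 hxK)
  obtain ⟨a, E, haE, ha, ⟨y'', hE⟩⟩ := order_fac (S := S) hcop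
  rw [hy'] at haE
  have hxa : Nat.Coprime a x := by
    rw [Nat.coprime_comm, Nat.Prime.coprime_iff_not_dvd hx.prime]
    exact fun hd => hxi (hd.trans ha)
  have har : a ∣ r ^ g := hxa.dvd_of_dvd_mul_right (by rw [haE]; exact Dvd.intro _ rfl)
  obtain ⟨k, hk, rfl⟩ := (Nat.dvd_prime_pow hr).1 har
  have hkf := hF.index_pow hr hr5 hrd ha
  have hkg : k < g := by
    by_contra hcon
    have : k = g := by omega
    rw [this] at hkf
    exact hrf hkf
  have hE' : r * x ∣ E := by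
    have h1 : r ^ k * E = r ^ k * (r ^ (g - k) * x) := by
      rw [← haE, ← mul_assoc, ← pow_add, Nat.add_sub_cancel' hk]
    have h2 := Nat.eq_of_mul_eq_mul_left (pow_pos hr.pos k) h1
    rw [h2]
    exact Nat.mul_dvd_mul_right (dvd_pow_self r (by omega)) x
  refine exists_dvd_order ?_ hE' ⟨y'', hE⟩
  rintro rfl
  rw [mul_zero] at haE
  exact (Nat.mul_ne_zero (pow_ne_zero _ hr.ne_zero) hx.prime.ne_zero) haE

/-- **The classes `n - 1`, `2n - 2` are big in `S`.** -/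
theorem LS.nl (h : LS t p f L G) (hL : Fam.Is p f L t) (hR : Red G K S) (hF : Frm G K S t' v f') (hp2 : p ≠ 2)
    (ht : CE t) {i w : ℕ} (hi : i = rk t - 1 ∨ i = 2 * rk t - 2) (hw : w.Prime) (hwi : cls t (p ^ f) w = i) :
    3 ≤ cls t' (v ^ f') w ∧ rk t' < 2 * wt t' (cls t' (v ^ f') w) := by
  have hS := h.bigS_CE hR hF hp2 ht
  have hq3 := h.q_three hp2
  obtain ⟨hn, hn2⟩ := ht.rk6
  have hiJ : i ∈ JJ (rk t) := by
    rw [mem_JJ]
    omega
  have hwI := ht.in_J hiJ hw hwi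
  have hwv := h.ne_v_J hR hF hp2 ht hiJ hw hwi
  obtain ⟨hwG, hwS⟩ := h.good_J hR hF hp2 ht hiJ hw hwi
  have hetai : eta i + 1 = rk t := by
    rcases eta_cases i with ⟨g1, g2⟩ | ⟨g1, g2⟩
    · rw [Nat.odd_iff] at g1
      omega
    · rw [Nat.even_iff] at g1
      omega
  have hreg := h.irr_J hR hF hp2 ht hwI hwv (by omega)
  refine ⟨hreg, ?_⟩
  by_contra hlow
  -- the prime of class four
  have hnd := h.n4_not_dvd hR hF hp2 ht
  obtain ⟨r, g, hr, hrN, hrf⟩ : ∃ r g : ℕ, r.Prime ∧ r ^ g ∣ ((p ^ f) ^ 2 + 1) / 2 ∧ ¬ r ^ g ∣ f' := by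
    by_contra hcon
    push Not at hcon
    exact hnd ((Nat.dvd_iff_prime_pow_dvd_dvd _ _).2 fun r k hr hk => hcon r k hr hk)
  have hg0 : g ≠ 0 := by
    rintro rfl
    rw [pow_zero] at hrf
    exact hrf (one_dvd _)
  have h2N := h.two_mul_n4 hp2
  have hNodd := h.n4_mod hp2
  have hrN1 : r ∣ ((p ^ f) ^ 2 + 1) / 2 := (dvd_pow_self r hg0).trans hrN
  have hr2 : r ≠ 2 := by
    rintro rfl
    omega
  have hfr := Fact.mk hr
  have hq1 : ((p ^ f : ℕ) : ZMod r) ^ 2 = -1 := by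
    have h1 : r ∣ (p ^ f) ^ 2 + 1 := by
      rw [← h2N]
      exact Dvd.dvd.mul_left hrN1 2
    have h3 := (ZMod.natCast_eq_zero_iff _ _).2 h1
    push_cast at h3 ⊢
    linear_combination h3
  have h20 : (2 : ZMod r) ≠ 0 := by
    intro h0
    have h1 : ((2 : ℕ) : ZMod r) = 0 := by push_cast; exact h0
    exact hr2 ((Nat.prime_dvd_prime_iff_eq hr Nat.prime_two).1 ((ZMod.natCast_eq_zero_iff _ _).1 h1))
  have hr4 : cls t (p ^ f) r = 4 := by
    rw [ht.cls_eq]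
    have := orderOf_eq_prime_pow (x := ((p ^ f : ℕ) : ZMod r)) (p := 2) (n := 1) (by
      rw [pow_one, hq1]
      intro h3
      apply h20
      linear_combination -h3) (by
      rw [show (2 : ℕ) ^ (1 + 1) = 2 * 2 by norm_num, pow_mul, hq1]
      ring)
    rw [this]
    rfl
  have hrI : In t (p ^ f) 4 r := ⟨hr, hr4, by norm_num, ht.mem_iff.2 (by
    have : eta 4 = 2 := rfl
    omega)⟩
  have hr5 := hrI.five
  have hna4 : na t i 4 := by
    rw [ht.na_iff]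
    have e4 : eta 4 = 2 := rfl
    refine ⟨by omega, ?_, ?_⟩
    · rintro ⟨c, hc, hc'⟩
      rcases Nat.lt_or_ge c 1 with hc1 | hc1
      · omega
      · have := Nat.mul_le_mul_left i hc1
        omega
    · rintro ⟨c, hc, hc'⟩
      omega
  have hwr := hwI.ne hrI (na_ne hna4)
  have hwrS : ¬ ∃ y : S, orderOf y = w * r := h.not_adj_S hwI hrI hna4
  have hwrS' : ¬ ∃ y : S, orderOf y = r * w := by rwa [mul_comm]
  have hw2 := hwI.ne_two
  -- `r ≠ v`
  have hrv : r ≠ v := by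
    intro e
    rw [e] at hwrS'
    rcases hF.vcase hw hw2 hwv hwS hwrS' with ⟨-, h1⟩ | ⟨h1, -⟩
    · exact hlow (hF.nap_big hS h1)
    · omega
  have hrK : ¬ r ∣ Nat.card K := by
    intro hd
    have := h.kprime_cls hR hF hS (by omega) hq3 hr hrv hd
    omega
  have hrd : ¬ r ∣ dg t' (v ^ f') := by
    intro hd
    obtain ⟨h1, h2, n, hn'⟩ := hF.dcase hr hr5 hd hw hwr hwrS'
    apply hlow
    have h4 := (rk_of_bigS hF hS).2.2.1 ⟨n, hn'⟩
    rcases hn' with rfl | rfl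
    · change n < 2 * cls (.psl n) (v ^ f') w
      change n < cls (.psl n) (v ^ f') w + 2 at h2
      change 4 ≤ n at h4
      omega
    · change n < 2 * cls (.psu n) (v ^ f') w
      change n < cls (.psu n) (v ^ f') w + 2 at h2
      change 4 ≤ n at h4
      omega
  -- the other classes
  have hb : 2 * rk t - 4 ∈ JJ (rk t) := by
    rw [mem_JJ]; omega
  have hc : rk t - 3 ∈ JJ (rk t) := by
    rw [mem_JJ]; omega
  obtain ⟨x, hx⟩ := h.exists_J hp2 ht hb
  obtain ⟨y, hy⟩ := h.exists_J hp2 ht hc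
  have etab : eta (2 * rk t - 4) + 2 = rk t := by
    rcases eta_cases (2 * rk t - 4) with ⟨g1, g2⟩ | ⟨g1, g2⟩
    · rw [Nat.odd_iff] at g1
      omega
    · rw [Nat.even_iff] at g1
      omega
  have etac : eta (rk t - 3) + 3 = rk t := by
    rcases eta_cases (rk t - 3) with ⟨g1, g2⟩ | ⟨g1, g2⟩
    · rw [Nat.odd_iff] at g1
      omega
    · rw [Nat.even_iff] at g1
      omega
  have hxr : x ≠ r := hx.ne hrI (by omega)
  have hyr : y ≠ r := hy.ne hrI (by omega)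
  have hrx := h.adj_four hL hR hF hp2 ht hr hrN hrf hrK hrd hr5 hb (by omega) hx hxr
  have hry := h.adj_four hL hR hF hp2 ht hr hrN hrf hrK hrd hr5 hc (by omega) hy hyr
  have hrS : r ∣ Nat.card S := by
    obtain ⟨a, ha⟩ := hrx
    have h1 := orderOf_dvd_natCard a
    rw [ha] at h1
    exact (Dvd.intro _ rfl).trans h1
  -- `r` is regular in `S`
  have hrreg : 3 ≤ cls t' (v ^ f') r := by
    by_contra hcon
    exact hlow (hF.nap_big hS (hF.irr_nap hS hr hr2 hrv (by omega) hw hw2 hwr.symm hwrS').2.2)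
  have hxv := h.ne_v_J hR hF hp2 ht hb hx.prime hx.cls_eq
  obtain ⟨-, hxS⟩ := h.good_J hR hF hp2 ht hb hx.prime hx.cls_eq
  have hyv := h.ne_v_J hR hF hp2 ht hc hy.prime hy.cls_eq
  obtain ⟨-, hyS⟩ := h.good_J hR hF hp2 ht hc hy.prime hy.cls_eq
  have hxy : x ≠ y := hx.ne hy (by omega)
  have hwx : w ≠ x := hwI.ne hx (by omega)
  have hwy : w ≠ y := hwI.ne hy (by omega)
  -- `x`, `y` are regular in `S`
  have hxreg : 3 ≤ cls t' (v ^ f') x := h.irr_J hR hF hp2 ht hx hxv (by omega)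
  have hyreg : 3 ≤ cls t' (v ^ f') y := by
    by_contra hcon
    have h1 := hF.irr_nap hS hy.prime hy.ne_two hyv (by omega) hw hw2 hwy.symm (by
      have := h.not_adj_S (S := S) hy hwI (ht.coq _ hc _ hiJ (by omega))
      exact this)
    exact hlow (hF.nap_big hS h1.2.2)
  have nwx : ¬ ∃ a : S, orderOf a = w * x := h.not_adj_S hwI hx (ht.coq _ hiJ _ hb (by omega))
  have nwy : ¬ ∃ a : S, orderOf a = w * y := h.not_adj_S hwI hy (ht.coq _ hiJ _ hc (by omega))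
  have nxy : ¬ ∃ a : S, orderOf a = x * y := h.not_adj_S hx hy (ht.coq _ hb _ hc (by omega))
  rw [hF.na_of hw hx.prime hwx hreg hxreg hwS hxS, not_not] at nwx
  rw [hF.na_of hw hy.prime hwy hreg hyreg hwS hyS, not_not] at nwy
  rw [hF.na_of hx.prime hy.prime hxy hxreg hyreg hxS hyS, not_not] at nxy
  rw [hF.na_of hw hr hwr hreg hrreg hwS hrS, not_not] at hwrS
  rw [hF.na_of hr hx.prime hxr.symm hrreg hxreg hrS hxS] at hrx
  rw [hF.na_of hr hy.prime hyr.symm hrreg hyreg hrS hyS] at hry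
  obtain ⟨k1, k2, -, k4, -⟩ := rk_of_bigS hF hS
  rcases low_comb hF.cla (by
      rcases Nat.lt_or_ge (cS t') 1 with h5 | h5
      · exact Or.inr ⟨k1, by omega⟩
      · exact Or.inl (k2 (by omega))) (by omega) hxreg hyreg hrreg
    (hF.mem_cls hx.prime hx.ne_two hxS hxreg) (hF.mem_cls hy.prime hy.ne_two hyS hyreg)
    (hF.mem_cls hr hr2 hrS hrreg) nwx nwy nxy hwrS with h1 | h1
  · exact hrx h1
  · exact hry h1

end L

end Cfsg.Agent.R2.Spec.F1
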