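import Cfsg.Agent.R2.Spec.F1.IsoV

/-!
# The primes of the isolated classes are regular in `S` (helper23)

* `LS.reg_of_five` : the primes of a coclique of five good classes are regular in `S`;
* `LS.good_of_irr` : if a prime `z` of the class `j` is irregular in `S` then the primes of the classes nonadjacent to `j`
  are good as soon as there is a killer;
* `LS.iso_reg` : `RegT t`, isolated classes.
-/

set_option autoImplicit false
set_option linter.unusedSectionVars false
set_option linter.unusedVariables false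

namespace Cfsg.Agent.R2.Spec.F1

open Subgroup Cfsg
open Cfsg.Agent.H426.LieFam Cfsg.Agent.R2.Spec Cfsg.Agent.R2.Spec.P1
open Cfsg.Agent.H420.QR

universe u w

variable {t : Fam} {p f : ℕ} {L : Type w} [Group L] [Finite L] {G : Type u} [Group G] [Finite G]
variable {K : Subgroup G} [K.Normal] {S : Subgroup (G ⧸ K)} [S.Normal]
variable {t' : Fam} {v f' : ℕ}

/-- **A coclique of five good classes.** -/
theorem LS.reg_of_five (h : LS t p f L G) (hF : Frm G K S t' v f') (hS : BigS t') (hq : 3 ≤ p ^ f) {I : Finset ℕ}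
    (hreg : ∀ j ∈ I, 3 ≤ j ∧ mem t j) (hna : ∀ j ∈ I, ∀ k ∈ I, j ≠ k → na t j k)
    (hgood : ∀ j ∈ I, ∀ x : ℕ, x.Prime → cls t (p ^ f) x = j → x ∣ Nat.card S) (h5 : 5 ≤ I.card) {i z : ℕ} (hi : i ∈ I)
    (hz : In t (p ^ f) i z) (hzv : z ≠ v) : 3 ≤ cls t' (v ^ f') z := by
  classical
  by_contra hcon
  have hex : ∀ j ∈ I.erase i, ∃ r, In t (p ^ f) j r := fun j hj =>
    exists_in h hq (hreg j (Finset.mem_of_mem_erase hj)).1 (hreg j (Finset.mem_of_mem_erase hj)).2
  choose! x hx using hex
  have hcard : (I.erase i).card = I.card - 1 := Finset.card_erase_of_mem hi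
  have hinj : Set.InjOn x ((I.erase i : Finset ℕ) : Set ℕ) := by
    intro j hj k hk hjk
    by_contra hne
    exact (hx j hj).ne (hx k hk) hne hjk
  have hcard' : ((I.erase i).image x).card = (I.erase i).card := Finset.card_image_of_injOn hinj
  have hin : ∀ j ∈ I.erase i, na t i j := fun j hj =>
    hna i hi j (Finset.mem_of_mem_erase hj) (Finset.ne_of_mem_erase hj).symm
  have h1 := hF.irr_few hS hz.prime hz.ne_two hzv (by omega) (X := (I.erase i).image x) (by
    intro y hy
    obtain ⟨j, hj, rfl⟩ := Finset.mem_image.1 hy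
    exact ⟨(hx j hj).prime, (hx j hj).five, hz.ne (hx j hj) (na_ne (hin j hj)),
      hgood j (Finset.mem_of_mem_erase hj) _ (hx j hj).prime (hx j hj).cls_eq⟩) (by
    intro y hy
    obtain ⟨j, hj, rfl⟩ := Finset.mem_image.1 hy
    exact h.not_adj_S hz (hx j hj) (hin j hj)) (by
    intro y hy y' hy' hne
    obtain ⟨j, hj, rfl⟩ := Finset.mem_image.1 hy
    obtain ⟨k, hk, rfl⟩ := Finset.mem_image.1 hy'
    have hjk : j ≠ k := fun hjk => hne (by rw [hjk])
    exact h.not_adj_S (hx j hj) (hx k hk)
      (hna j (Finset.mem_of_mem_erase hj) k (Finset.mem_of_mem_erase hk) hjk))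
  omega

/-- **Goodness next to an irregular prime.** -/
theorem LS.good_of_irr (h : LS t p f L G) (hR : Red G K S) (hF : Frm G K S t' v f') (hS : BigS t') (hn : 5 ≤ rk t)
    (hq : 3 ≤ p ^ f) {j z : ℕ} (hz : In t (p ^ f) j z) (hzv : z ≠ v) (hirr : cls t' (v ^ f') z ≤ 2)
    {l r : ℕ} (hr : In t (p ^ f) l r) (hlj : na t l j) {I : ℕ → Prop} (hk : Killer I l)
    (hI : ∀ c, I c → c ≠ l → 3 ≤ c ∧ mem t c ∧ na t l c ∧ ∃ k y, In t (p ^ f) k y ∧ na t l k ∧ na t c k) :
    ¬ r ∣ Nat.card K * S.index ∧ r ∣ Nat.card S := by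
  have hrG := hr.dvd h
  suffices hnb : ¬ r ∣ Nat.card K * S.index by
    refine ⟨hnb, ?_⟩
    rw [card_eq_mul (K := K) (S := S)] at hrG
    exact (hr.prime.dvd_mul.1 hrG).resolve_right hnb
  intro hbad
  have hrz := hr.ne hz (na_ne hlj)
  have hna : ¬ ∃ g : G, orderOf g = r * z := fun hg => (h.adj_iff hr hz hrz).1 hg hlj
  have hrv : r ≠ v := by
    rintro rfl
    obtain ⟨g, hg⟩ := hF.irr_v hS hz.prime hz.ne_two hzv hirr
    exact hna (by
      rw [mul_comm]
      exact exists_of_S ⟨g, hg⟩)
  have hrK : ¬ r ∣ Nat.card K := by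
    intro hd
    have h1 := h.kprime_cls hR hF hS hn hq hr.prime hrv hd
    rw [hr.cls_eq] at h1
    have := hr.reg
    omega
  have hrd : ¬ r ∣ dg t' (v ^ f') := by
    intro hd
    have := (hF.dcase hr.prime hr.five hd hz.prime hrz.symm (h.not_adj_S hr hz hlj)).1
    omega
  refine killer_false hr.prime hr.five (X := sg t (p ^ f)) hr.cls_eq hr.reg ?_ hk
  intro c hc hcl
  obtain ⟨h1, h2, h3, h4⟩ := hI c hc hcl
  exact h.hc hR hF hr hbad hrK hrd h1 h2 h3 h4

/-- **A path of classes nonadjacent to an irregular prime.** -/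
theorem LS.irr_path (h : LS t p f L G) (hF : Frm G K S t' v f') (hS : BigS t') (hq : 3 ≤ p ^ f)
    {j z : ℕ} (hz : In t (p ^ f) j z) (hzv : z ≠ v) (hirr : cls t' (v ^ f') z ≤ 2) {a b c : ℕ}
    (ha3 : 3 ≤ a) (hb3 : 3 ≤ b) (hc3 : 3 ≤ c) (ham : mem t a) (hbm : mem t b) (hcm : mem t c)
    (hja : na t j a) (hjb : na t j b) (hjc : na t j c)
    (hab : na t a b) (hac : ¬ na t a c) (hbc : ¬ na t b c)
    (hgood : ∀ l, l = a ∨ l = b ∨ l = c → ∀ x : ℕ, x.Prime → cls t (p ^ f) x = l →
      ¬ x ∣ Nat.card K * S.index ∧ x ∣ Nat.card S) : False := by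
  obtain ⟨x, hx⟩ := exists_in h hq ha3 ham
  obtain ⟨y, hy⟩ := exists_in h hq hb3 hbm
  obtain ⟨o, ho⟩ := exists_in h hq hc3 hcm
  have gx := hgood a (Or.inl rfl) x hx.prime hx.cls_eq
  have gy := hgood b (Or.inr (Or.inl rfl)) y hy.prime hy.cls_eq
  have go := hgood c (Or.inr (Or.inr rfl)) o ho.prime ho.cls_eq
  have key : ∀ {l e : ℕ}, In t (p ^ f) l e → na t j l → e ≠ v ∧ 3 ≤ cls t' (v ^ f') e ∧ nap t' (cls t' (v ^ f') e) :=
    fun {l e} he hjl => hF.irr_nap hS hz.prime hz.ne_two hzv hirr he.prime he.ne_two (hz.ne he (na_ne hjl))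
      (h.not_adj_S hz he hjl)
  obtain ⟨x0, x1, x2⟩ := key hx hja
  obtain ⟨y0, y1, y2⟩ := key hy hjb
  obtain ⟨o0, o1, o2⟩ := key ho hjc
  have hcaNe : a ≠ c := by
    rintro rfl
    exact hbc (na_symm hab)
  have hcbNe : b ≠ c := by
    rintro rfl
    exact hac hab
  have hxo := hx.ne ho hcaNe
  have hyo := hy.ne ho hcbNe
  have e1 := hF.same_top hS hx.prime ho.prime hxo gx.2 go.2 x1 o1 (hF.nap_big hS x2) (hF.nap_big hS o2)
    (adj_S_of_good hx.prime ho.prime gx.1 go.1 ((h.adj_iff hx ho hxo).2 hac))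
  have e2 := hF.same_top hS hy.prime ho.prime hyo gy.2 go.2 y1 o1 (hF.nap_big hS y2) (hF.nap_big hS o2)
    (adj_S_of_good hy.prime ho.prime gy.1 go.1 ((h.adj_iff hy ho hyo).2 hbc))
  exact h.not_adj_S hx hy hab (adj_same' hF.cla hF.prime hF.is hx.prime hy.prime hx.ne_two hy.ne_two
    (hx.ne hy (na_ne hab)) x0 y0 gx.2 gy.2 (e1.trans e2.symm))

/-- the types for which the isolated classes are regular in `S` -/
def RegT (t : Fam) : Prop := Five t ∨ SmallT t ∨ t = .psl 8 ∨ t = .psu 8

theorem rk_five {t : Fam} (h : RegT t) : 5 ≤ rk t := by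
  rcases h with h | h | rfl | rfl
  · cases t with
    | psl n => exact (show 5 ≤ n from le_trans (by norm_num) (show 9 ≤ n from h))
    | psu n => exact (show 5 ≤ n from le_trans (by norm_num) (show 9 ≤ n from h))
    | psp n => exact (show 5 ≤ n from le_trans (by norm_num) (show 7 ≤ n from h))
    | oodd n => exact (show 5 ≤ n from le_trans (by norm_num) (show 7 ≤ n from h))
    | oplus n => exact (show 5 ≤ n from le_trans (by norm_num) (show 7 ≤ n from h))
    | ominus n => exact (show 5 ≤ n from le_trans (by norm_num) (show 7 ≤ n from h))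
    | _ => exact h.elim
  · cases t with
    | psp n =>
      change 5 ≤ n
      rcases h with h | h <;> omega
    | oodd n =>
      change 5 ≤ n
      rcases h with h | h <;> omega
    | ominus n =>
      change 5 ≤ n
      have : n = 6 := h
      omega
    | _ => exact h.elim
  · exact (show 5 ≤ 8 by norm_num)
  · exact (show 5 ≤ 8 by norm_num)

theorem small_isoRk {t : Fam} (h : RegT t) : IsoRk t := by
  rcases h with h | h | rfl | rfl
  · cases t with
    | psl n => exact (show 7 ≤ n from le_trans (by norm_num) (show 9 ≤ n from h))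
    | psu n => exact (show 7 ≤ n from le_trans (by norm_num) (show 9 ≤ n from h))
    | psp n => exact (show 5 ≤ n from le_trans (by norm_num) (show 7 ≤ n from h))
    | oodd n => exact (show 5 ≤ n from le_trans (by norm_num) (show 7 ≤ n from h))
    | oplus n => exact (show 5 ≤ n from le_trans (by norm_num) (show 7 ≤ n from h))
    | ominus n => exact (show 5 ≤ n from le_trans (by norm_num) (show 7 ≤ n from h))
    | _ => exact h.elim
  · cases t with
    | psp n =>
      change 5 ≤ n
      rcases h with h | h <;> omega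
    | oodd n =>
      change 5 ≤ n
      rcases h with h | h <;> omega
    | ominus n =>
      change 5 ≤ n
      have : n = 6 := h
      omega
    | _ => exact h.elim
  · exact (show 7 ≤ 8 by norm_num)
  · exact (show 7 ≤ 8 by norm_num)

/-- rank eight, linear and unitary -/
theorem LS.reg_eight (h : LS t p f L G) (hR : Red G K S) (hF : Frm G K S t' v f') (hS : BigS t') (hq : 3 ≤ p ^ f)
    (ht : t = .psl 8 ∨ t = .psu 8) {i z : ℕ} (hz : In t (p ^ f) i z) (hzv : z ≠ v) (hi : nap t i) :
    3 ≤ cls t' (v ^ f') z := by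
  by_contra hcon
  have hirr : cls t' (v ^ f') z ≤ 2 := by omega
  have hi78 : i = 7 ∨ i = 8 := by
    have h1 := hz.mem
    rcases ht with rfl | rfl
    · change i ≤ 8 at h1
      change 8 < i + 2 at hi
      omega
    · change i ≤ 8 at h1
      change 8 < i + 2 at hi
      omega
  have hB : ∀ {a b : ℕ}, 0 < a → 0 < b → naB (.psl 8) a b = true → na t a b := by
    intro a b ha hb hab
    rcases ht with rfl | rfl
    · exact na_of_naB ha hb hab
    · exact na_of_naB ha hb hab
  have hM : ∀ {a : ℕ}, a ≤ 8 → mem t a := by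
    intro a ha
    rcases ht with rfl | rfl
    · exact ha
    · exact ha
  have hN : ∀ {a b : ℕ}, na t a b → 8 < a + b := by
    intro a b hab
    rcases ht with rfl | rfl
    · exact hab.1
    · exact hab.1
  obtain ⟨y7, hy7⟩ := exists_in h hq (i := 7) (by norm_num) (hM (by norm_num))
  have h5n : 5 ≤ rk t := by
    rcases ht with rfl | rfl
    · exact (show 5 ≤ 8 by norm_num)
    · exact (show 5 ≤ 8 by norm_num)
  have hg : ∀ l, l = 5 ∨ l = 6 ∨ l = 3 → ∀ x : ℕ, x.Prime → cls t (p ^ f) x = l →
      ¬ x ∣ Nat.card K * S.index ∧ x ∣ Nat.card S := by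
    intro l hl x hx hxl
    have hxI : In t (p ^ f) l x := ⟨hx, hxl, by omega, hM (by omega)⟩
    have nl8 : na t l 8 := by
      rcases hl with rfl | rfl | rfl <;> exact hB (by norm_num) (by norm_num) (by decide)
    have nl7 : na t l 7 := by
      rcases hl with rfl | rfl | rfl <;> exact hB (by norm_num) (by norm_num) (by decide)
    refine h.good_of_irr hR hF hS h5n hq hz hzv hirr hxI ?_ (I := fun c => c = 8) ?_ ?_
    · rcases hi78 with rfl | rfl
      · exact nl7
      · exact nl8
    · left
      refine ⟨2, by norm_num, by norm_num, by omega, ?_⟩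
      rcases hl with rfl | rfl | rfl <;> decide
    · rintro c rfl hcl
      exact ⟨by norm_num, hM le_rfl, nl8, 7, y7, hy7, nl7, hB (by norm_num) (by norm_num) (by decide)⟩
  have nj : ∀ {l}, l = 5 ∨ l = 6 ∨ l = 3 → na t i l := by
    intro l hl
    rcases hi78 with rfl | rfl <;> rcases hl with rfl | rfl | rfl <;>
      exact hB (by norm_num) (by norm_num) (by decide)
  exact h.irr_path hF hS hq hz hzv hirr (a := 5) (b := 6) (c := 3) (by norm_num) (by norm_num) (by norm_num)
    (hM (by norm_num)) (hM (by norm_num)) (hM (by norm_num)) (nj (Or.inl rfl)) (nj (Or.inr (Or.inl rfl)))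
    (nj (Or.inr (Or.inr rfl))) (hB (by norm_num) (by norm_num) (by decide))
    (fun h1 => by have := hN h1; omega) (fun h1 => by
      rcases ht with rfl | rfl
      · exact h1.2.2 (by norm_num)
      · exact h1.2.2 (by norm_num)) hg

/-- **The isolated classes are regular in `S`.** -/
theorem LS.iso_reg (h : LS t p f L G) (hR : Red G K S) (hF : Frm G K S t' v f') (hS : BigS t') (hp2 : p ≠ 2)
    (ht : RegT t) {i z : ℕ} (hz : In t (p ^ f) i z) (hzv : z ≠ v) (hi : nap t i) : 3 ≤ cls t' (v ^ f') z := by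
  have hq3 := h.q_three hp2
  by_cases h5 : Five t
  · have hqf : FldOk t (p ^ f) := by
      cases t with
      | psl n => exact fun hq2 => by omega
      | psu n => exact fun hq2 => by omega
      | _ => trivial
    exact h.reg_of_five hF hS hq3 (I := BigF t) (fun j hj => ⟨(mem_BigF.1 hj).1, (mem_BigF.1 hj).2.1⟩)
      (fun j hj k hk hjk => na_of_big h.cla (mem_BigF.1 hj) (mem_BigF.1 hk) hjk)
      (fun j hj x hx hxj => (h.good_big hR hF h5 hqf (mem_BigF.1 hj) hx hxj).2) (card_BigF h5)
      (mem_BigF.2 (big_of_nap h5 hz.reg hz.mem hi)) hz hzv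
  · by_cases h8 : t = .psl 8 ∨ t = .psu 8
    · exact h.reg_eight hR hF hS hq3 h8 hz hzv hi
    · have hST : SmallT t := by
        rcases ht with h1 | h1 | h1 | h1
        · exact absurd h1 h5
        · exact h1
        · exact absurd (Or.inl h1) h8
        · exact absurd (Or.inr h1) h8
      rcases iso_small (small_isoRk ht) h5 hz.reg hz.mem hi with ⟨-, h7⟩ | h7
      · obtain ⟨c1, c2⟩ := smallT_coq hST
        obtain ⟨d1, d2⟩ := coqB_of c1
        exact h.reg_of_five hF hS hq3 (I := (smallI t).toFinset) d1 d2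
          (fun j hj x hx hxj => (h.good_small hR hF hq3 (List.mem_toFinset.1 hj) hx hxj).2) c2
          (List.mem_toFinset.2 h7) hz hzv
      · exfalso
        cases t with
        | psp n =>
          rcases hST with rfl | rfl
          · exact absurd h7 List.not_mem_nil
          · exact absurd h7 List.not_mem_nil
        | oodd n =>
          rcases hST with rfl | rfl
          · exact absurd h7 List.not_mem_nil
          · exact absurd h7 List.not_mem_nil
        | ominus n =>
          have : n = 6 := hST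
          subst this
          exact absurd h7 List.not_mem_nil
        | _ => exact hST.elim

end Cfsg.Agent.R2.Spec.F1
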