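import Cfsg.Agent.H228.GoodK

/-!
# The Hall–Higman argument for kernels of primes, all characteristics (helper23)

* `comm_gen'` : `ShultGen.comm_gen` where the subgroup only has to act as an abelian group;
* `shult_fix'` : `GoodK.shult_fix` with the alternative hypotheses `P` acts on `U` as an abelian group, or
  `(w - 1) ^ 2 ∤ |P|`.
-/

set_option autoImplicit false
set_option linter.unusedSectionVars false

namespace Cfsg.Agent.R2.Spec.F1

open Subgroup

universe u v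

/-- `comm_gen` with an abelian action -/
theorem comm_gen' {F : Type*} [Field F] {G : Type u} [Group G]
    [Finite G] {V : Type v} [AddCommGroup V] [Module F V] [FiniteDimensional F V]
    (ρ : Representation F G V) (K : Subgroup G) (x : G) {r : ℕ} (hr : r.Prime) (hr2 : r ≠ 2)
    (hxr : x ^ r = 1) (hxK : ∀ k ∈ K, x * k * x⁻¹ ∈ K) (hsol : Group.IsSolvable K)
    (hodd : ((∀ a ∈ K, ∀ b ∈ K, ρ (a * b) = ρ (b * a)) ∨ ¬ (r - 1) ^ 2 ∣ Nat.card K)) (hrK : ¬ r ∣ Nat.card K)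
    (hKF : (Nat.card K : F) ≠ 0)
    (hrF : (r : F) ≠ 0) (hfix : ∀ v, ρ x v = v → v = 0) : ∀ k ∈ K, ρ (x * k) = ρ (k * x) := by
  rcases hodd with hab | hcard
  · -- pass to the quotient by the kernel
    obtain ⟨N, hN⟩ : ∃ N : Subgroup G, N = MonoidHom.ker ρ := ⟨_, rfl⟩
    have hNn : N.Normal := hN ▸ inferInstance
    obtain ⟨ρ', hρ'⟩ : ∃ ρ' : Representation F (G ⧸ N) V, ∀ g : G, ρ' (QuotientGroup.mk' N g) = ρ g :=
      ⟨QuotientGroup.lift N ρ (fun g hg => by rw [hN] at hg; exact hg), fun g => rfl⟩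
    obtain ⟨K', hK'⟩ : ∃ K' : Subgroup (G ⧸ N), K' = K.map (QuotientGroup.mk' N) := ⟨_, rfl⟩
    have hcard' : Nat.card K' ∣ Nat.card K := hK' ▸ Subgroup.card_map_dvd _ _
    have hsol' : Group.IsSolvable K' := by
      rw [hK']
      have := hsol
      exact Group.isSolvable_of_surjective (f := (QuotientGroup.mk' N).subgroupMap K)
        ((QuotientGroup.mk' N).subgroupMap_surjective K)
    have h1 : (QuotientGroup.mk' N x) ^ r = 1 := by rw [← map_pow, hxr, map_one]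
    have h2 : ∀ k ∈ K', QuotientGroup.mk' N x * k * (QuotientGroup.mk' N x)⁻¹ ∈ K' := by
      rw [hK']
      rintro _ ⟨k, hk, rfl⟩
      exact ⟨x * k * x⁻¹, hxK k hk, by rw [map_mul, map_mul, map_inv]⟩
    have h3 : ∀ a ∈ K', ∀ b ∈ K', a * b = b * a := by
      rw [hK']
      rintro _ ⟨a, ha, rfl⟩ _ ⟨b, hb, rfl⟩
      rw [← map_mul, ← map_mul]
      change ((a * b : G) : G ⧸ N) = ((b * a : G) : G ⧸ N)
      rw [QuotientGroup.eq, hN, MonoidHom.mem_ker, map_mul, ← hab a ha b hb, ← map_mul, inv_mul_cancel, map_one]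
    have h4 : ¬ r ∣ Nat.card K' := fun hd => hrK (hd.trans hcard')
    have h5 : (Nat.card K' : F) ≠ 0 := by
      intro h0
      apply hKF
      obtain ⟨c, hc⟩ := hcard'
      rw [hc, Nat.cast_mul, h0, zero_mul]
    have h6 : ∀ v, ρ' (QuotientGroup.mk' N x) v = v → v = 0 := by
      intro v hv
      rw [hρ'] at hv
      exact hfix v hv
    have h := Cfsg.Agent.H271.ShultGen.comm_gen ρ' K' (QuotientGroup.mk' N x) hr hr2 h1 h2 hsol' (Or.inl h3) h4 h5 hrF h6
    intro k hk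
    have h7 := h (QuotientGroup.mk' N k) (hK' ▸ ⟨k, hk, rfl⟩)
    rw [← map_mul, ← map_mul, hρ', hρ'] at h7
    exact h7
  · exact Cfsg.Agent.H271.ShultGen.comm_gen ρ K x hr hr2 hxr hxK hsol (Or.inr hcard) hrK hKF hrF hfix

theorem shult_fix' {X : Type u} [Group X] [Finite X] {r w : ℕ} (hr : r.Prime) (hw : w.Prime) (hw2 : w ≠ 2)
    (hwr : w ≠ r) (U P : Subgroup X) (y : X) (hUab : ∀ a ∈ U, ∀ b ∈ U, a * b = b * a) (hUexp : ∀ u ∈ U, u ^ r = 1)
    (hPU : ∀ p ∈ P, ∀ u ∈ U, p * u * p⁻¹ ∈ U) (hyU : ∀ u ∈ U, y * u * y⁻¹ ∈ U) (hyP : ∀ p ∈ P, y * p * y⁻¹ ∈ P)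
    (hyw : y ^ w = 1) (hsol : Group.IsSolvable P)
    (hodd : (∀ a ∈ P, ∀ b ∈ P, ∀ u ∈ U, (a * b) * u * (a * b)⁻¹ = (b * a) * u * (b * a)⁻¹) ∨
      ¬ (w - 1) ^ 2 ∣ Nat.card P) (hwP : ¬ w ∣ Nat.card P)
    (hrP : ¬ r ∣ Nat.card P) (hfix : ∀ u ∈ U, y * u = u * y → u = 1) :
    ∀ p ∈ P, ∀ u ∈ U, (y * p * y⁻¹ * p⁻¹) * u = u * (y * p * y⁻¹ * p⁻¹) := by
  classical
  have := Fact.mk hr
  -- the stabilizer of `U`
  have hconj : ∀ g : X, (∀ u ∈ U, g * u * g⁻¹ ∈ U) → g ∈ normalizer (U : Set X) := by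
    intro g hg
    rw [mem_normalizer_iff]
    have h1 : (U.map (MulAut.conj g).toMonoidHom : Subgroup X) = U := by
      refine Subgroup.eq_of_le_of_card_ge ?_ ?_
      · rintro _ ⟨u, hu, rfl⟩
        exact hg u hu
      · rw [Subgroup.card_map_of_injective (MulAut.conj g).injective]
    intro u
    constructor
    · exact hg u
    · intro h
      rw [← h1] at h
      obtain ⟨t, ht, ht'⟩ := h
      have : t = u := by
        have h2 : g * t * g⁻¹ = g * u * g⁻¹ := ht'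
        simpa using h2
      rwa [← this]
  let H : Subgroup X := normalizer (U : Set X)
  obtain ⟨E, _, _, _, e, ρ, he, hρ⟩ := Cfsg.Agent.H718.exists_conjRep r H U hUab hUexp (fun h hh u hu =>
    (mem_normalizer_iff.1 hh u).1 hu)
  have hPH : P ≤ H := fun p hp => hconj p (hPU p hp)
  have hyH : y ∈ H := hconj y hyU
  have hcP : Nat.card (P.subgroupOf H) = Nat.card P := Nat.card_congr (Subgroup.subgroupOfEquivOfLe hPH).toEquiv
  have hne : ∀ n : ℕ, ¬ r ∣ n → (n : ZMod r) ≠ 0 := by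
    intro n hn h
    exact hn ((ZMod.natCast_eq_zero_iff _ _).1 h)
  have he1 : e 0 = 1 := by
    have := he 0 0
    rw [add_zero] at this
    exact left_eq_mul.1 this
  have hmain := comm_gen' ρ (P.subgroupOf H) ⟨y, hyH⟩ hw hw2 (Subtype.ext hyw)
    (fun k hk => hyP _ hk) (by
      have := hsol
      exact Group.isSolvable_of_isSolvable_injective (f := (Subgroup.subgroupOfEquivOfLe hPH).toMonoidHom)
        (Subgroup.subgroupOfEquivOfLe hPH).injective)
    (by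
      rcases hodd with hodd | hodd
      · left
        rintro ⟨a, ha⟩ haP ⟨b, hb⟩ hbP
        apply LinearMap.ext
        intro s
        apply e.injective
        apply Subtype.ext
        have h1 := hρ (⟨a, ha⟩ * ⟨b, hb⟩) s
        have h2 := hρ (⟨b, hb⟩ * ⟨a, ha⟩) s
        rw [h1, h2]
        exact hodd a haP b hbP _ (e s).2
      · right
        rwa [hcP]) (by rw [hcP]; exact hwP) (by rw [hcP]; exact hne _ hrP)
    (hne _ (fun h => hwr ((Nat.prime_dvd_prime_iff_eq hr hw).1 h).symm)) (by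
      intro s hs
      have h1 := hρ ⟨y, hyH⟩ s
      rw [hs] at h1
      have h2 : y * ((e s : U) : X) = ((e s : U) : X) * y := by
        have h3 : ((e s : U) : X) = y * (e s : U) * y⁻¹ := h1
        calc y * ((e s : U) : X) = (y * (e s : U) * y⁻¹) * y := by group
          _ = ((e s : U) : X) * y := by rw [← h3]
      have h3 := hfix _ (e s).2 h2
      apply e.injective
      rw [he1]
      exact Subtype.ext h3)
  intro p hp u hu
  have h1 := hmain ⟨p, hPH hp⟩ hp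
  -- the commutator acts trivially
  have hd : y * p * y⁻¹ * p⁻¹ ∈ H := H.mul_mem (H.mul_mem (H.mul_mem hyH (hPH hp)) (H.inv_mem hyH)) (H.inv_mem (hPH hp))
  have h2 : ρ ⟨y * p * y⁻¹ * p⁻¹, hd⟩ = 1 := by
    have e1 : (⟨y * p * y⁻¹ * p⁻¹, hd⟩ : H) = (⟨y, hyH⟩ * ⟨p, hPH hp⟩) * (⟨p, hPH hp⟩ * ⟨y, hyH⟩)⁻¹ := by
      apply Subtype.ext
      change y * p * y⁻¹ * p⁻¹ = (y * p) * (p * y)⁻¹
      group
    rw [e1, map_mul, h1, ← map_mul, mul_inv_cancel, map_one]
  have h3 := hρ ⟨y * p * y⁻¹ * p⁻¹, hd⟩ (e.symm ⟨u, hu⟩)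
  rw [h2, Module.End.one_apply, Equiv.apply_symm_apply] at h3
  have h4 : u = (y * p * y⁻¹ * p⁻¹) * u * (y * p * y⁻¹ * p⁻¹)⁻¹ := h3
  calc (y * p * y⁻¹ * p⁻¹) * u = ((y * p * y⁻¹ * p⁻¹) * u * (y * p * y⁻¹ * p⁻¹)⁻¹) * (y * p * y⁻¹ * p⁻¹) := by group
    _ = u * (y * p * y⁻¹ * p⁻¹) := by rw [← h4]

end Cfsg.Agent.R2.Spec.F1
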