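import Cfsg.Agent.R2.Spec.F1.DuelEx

/-!
# Tame primes (helper23)

A prime `s` regular in `S`, `s ∤ f'`, which is regular in `L` or equal to `p`, is good; for two such primes adjacency in
`L` and in `S` is the same.
-/

set_option autoImplicit false
set_option linter.unusedSectionVars false
set_option linter.unusedVariables false

namespace Cfsg.Agent.R2.Spec.F1

open Subgroup Cfsg
open Cfsg.Agent.H426.LieFam Cfsg.Agent.R2.Spec Cfsg.Agent.R2.Spec.P1
open Cfsg.Agent.H420.QR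

universe u w

section S

variable {G : Type u} [Group G] [Finite G] {K : Subgroup G} [K.Normal] {S : Subgroup (G ⧸ K)} [S.Normal] {t : Fam}
  {v f : ℕ}

/-- the diagonal primes are irregular -/
theorem not_dvd_dg {t : Fam} {q s : ℕ} (hq : 1 ≤ q) (hs : s.Prime) (h3 : 3 ≤ cls t q s) : ¬ s ∣ dg t q := by
  intro hd
  have hs1 := hs.one_lt
  have key : dg t q = 1 → False := by
    intro h1
    rw [h1] at hd
    exact hs1.ne' (Nat.dvd_one.1 hd)
  cases t with
  | psl n =>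
    have h1 : s ∣ q - 1 := hd.trans (Nat.gcd_dvd_right _ _)
    rw [cls_psl] at h3
    have := (Cfsg.Agent.H72.AdjPSL.ee_eq_one_iff hq).2 h1
    omega
  | psu n =>
    have h1 : s ∣ q + 1 := hd.trans (Nat.gcd_dvd_right _ _)
    rw [cls_psu] at h3
    have := Cfsg.Agent.H72.AdjPSU.nu_eq_one h1
    omega
  | _ => exact key rfl

/-- **A regular prime not dividing `f` does not divide the index.** -/
theorem Frm.index_tame (h : Frm G K S t v f) {s : ℕ} (hs : s.Prime) (h3 : 3 ≤ cls t (v ^ f) s) (hsf : ¬ s ∣ f) :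
    ¬ s ∣ S.index := by
  intro hd
  have h5 := (cls_facts hs h3).1
  have := h.index_pow hs h5 (not_dvd_dg (Nat.one_le_pow _ _ h.prime.pos) hs h3) (k := 1) (by rwa [pow_one])
  rw [pow_one] at this
  exact hsf this

theorem Frm.ne_v_of_reg (h : Frm G K S t v f) {s : ℕ} (hs : s.Prime) (h3 : 3 ≤ cls t (v ^ f) s) : s ≠ v := by
  rintro rfl
  exact (cls_facts hs h3).2.1 (dvd_pow_self s h.f_ne)

/-- adjacency of good primes -/
theorem good_adj {a b : ℕ} (ha : a.Prime) (hb : b.Prime) (hga : ¬ a ∣ Nat.card K * S.index)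
    (hgb : ¬ b ∣ Nat.card K * S.index) : (∃ g : G, orderOf g = a * b) ↔ ∃ g : S, orderOf g = a * b :=
  ⟨adj_S_of_good ha hb hga hgb, exists_of_S⟩

end S

section L

variable {t : Fam} {p f : ℕ} {L : Type w} [Group L] [Finite L] {G : Type u} [Group G] [Finite G]
variable {K : Subgroup G} [K.Normal] {S : Subgroup (G ⧸ K)} [S.Normal]
variable {t' : Fam} {v f' : ℕ}

/-- **Tame primes are good.** -/
theorem LS.tame (h : LS t p f L G) (hR : Red G K S) (hF : Frm G K S t' v f') (hS : BigS t') (hn : 5 ≤ rk t)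
    (hq : 3 ≤ p ^ f) {s : ℕ} (hs : s.Prime) (h3 : 3 ≤ cls t' (v ^ f') s) (hsf : ¬ s ∣ f')
    (hc : 3 ≤ cls t (p ^ f) s) : ¬ s ∣ Nat.card K * S.index := by
  intro hd
  rcases hs.dvd_mul.1 hd with h1 | h1
  · have := h.kprime_cls hR hF hS hn hq hs (hF.ne_v_of_reg hs h3) h1
    omega
  · exact hF.index_tame hs h3 hsf h1

/-- **`p` is good** if it is regular in `S` and does not divide `f'`. -/
theorem LS.tame_p (h : LS t p f L G) (hR : Red G K S) (hF : Frm G K S t' v f') (hS : BigS t') (hn : 5 ≤ rk t)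
    (hq : 3 ≤ p ^ f) (hex : ∀ n, (t = .psp n ∨ t = .oodd n) → n % 2 = 1) (h3 : 3 ≤ cls t' (v ^ f') p)
    (hsf : ¬ p ∣ f') : ¬ p ∣ Nat.card K * S.index := by
  intro hd
  rcases h.prime.dvd_mul.1 hd with h1 | h1
  · exact h.p_not_dvd_K hR hF hS hn hq (hF.ne_v_of_reg h.prime h3) hex h1
  · exact hF.index_tame h.prime h3 hsf h1

/-- **Adjacency of good primes, regular in `L` and in `S`.** -/
theorem LS.tame_adj (h : LS t p f L G) (hF : Frm G K S t' v f') {i j r s : ℕ} (hr : In t (p ^ f) i r)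
    (hs : In t (p ^ f) j s) (hrs : r ≠ s) (hgr : ¬ r ∣ Nat.card K * S.index) (hgs : ¬ s ∣ Nat.card K * S.index)
    (hrS : r ∣ Nat.card S) (hsS : s ∣ Nat.card S) (hr3 : 3 ≤ cls t' (v ^ f') r) (hs3 : 3 ≤ cls t' (v ^ f') s) :
    na t i j ↔ na t' (cls t' (v ^ f') r) (cls t' (v ^ f') s) := by
  have h1 := h.adj_iff hr hs hrs
  rw [good_adj hr.prime hs.prime hgr hgs, hF.na_of hr.prime hs.prime hrs hr3 hs3 hrS hsS] at h1
  exact (not_iff_not.1 h1).symm

/-- adjacency to `p` -/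
theorem LS.tame_adjp (h : LS t p f L G) (hF : Frm G K S t' v f') {i r : ℕ} (hr : In t (p ^ f) i r)
    (hgr : ¬ r ∣ Nat.card K * S.index) (hgp : ¬ p ∣ Nat.card K * S.index)
    (hrS : r ∣ Nat.card S) (hpS : p ∣ Nat.card S) (hr3 : 3 ≤ cls t' (v ^ f') r) (hp3 : 3 ≤ cls t' (v ^ f') p) :
    nap t i ↔ na t' (cls t' (v ^ f') r) (cls t' (v ^ f') p) := by
  have hrp : r ≠ p := fun e => hr.not_dvd h.fpos (by rw [e])
  have h1 := h.adjp_iff hr
  rw [good_adj hr.prime h.prime hgr hgp, hF.na_of hr.prime h.prime hrp hr3 hp3 hrS hpS] at h1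
  exact (not_iff_not.1 h1).symm

/-- adjacency of a good prime regular in `L` to the characteristic of `S`, `v` good -/
theorem LS.tame_adjv (h : LS t p f L G) (hF : Frm G K S t' v f') {i j r : ℕ} (hr : In t (p ^ f) i r)
    (hv : In t (p ^ f) j v) (hrv : r ≠ v) (hgr : ¬ r ∣ Nat.card K * S.index) (hgv : ¬ v ∣ Nat.card K * S.index)
    (hrS : r ∣ Nat.card S) (hr3 : 3 ≤ cls t' (v ^ f') r) : na t i j ↔ nap t' (cls t' (v ^ f') r) := by
  have h1 := h.adj_iff hr hv hrv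
  have hr5 := (cls_facts hr.prime hr3).1
  have hrq := (cls_facts hr.prime hr3).2.1
  rw [good_adj hr.prime hF.prime hgr hgv] at h1
  have h2 := (adjFacts hF.cla hF.prime hF.is).adjp r hr.prime (by omega)
    (fun hd => hrq (hd.trans (dvd_pow_self v hF.f_ne))) hr3 (hF.mem_cls hr.prime (by omega) hrS hr3)
  rw [h2] at h1
  exact (not_iff_not.1 h1).symm

/-- a prime not dividing `q (q ^ 2 - 1)` is regular -/
theorem reg_of_not_dvd {t : Fam} {q s : ℕ} (hq : 1 ≤ q) (hs : s.Prime) (hsq : ¬ s ∣ q) (h : ¬ s ∣ q ^ 2 - 1) :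
    3 ≤ cls t q s := by
  by_contra hcon
  exact h (dvd_sq_of_cls (t := t) hq hs hsq (by omega))

/-- **Cocliques of tame primes.** `X` : primes of `S`, regular in `S`, not dividing `f'`, pairwise nonadjacent in `S`,
each of them regular in `L` (for `p` see `LS.tame_p`): their classes in `L` are a coclique. -/
theorem LS.tame_coq (h : LS t p f L G) (hR : Red G K S) (hF : Frm G K S t' v f') (hS : BigS t') (hn : 5 ≤ rk t)
    (hq : 3 ≤ p ^ f) {X : Finset ℕ} (hX : ∀ s ∈ X, s.Prime ∧ s ∣ Nat.card S ∧ 3 ≤ cls t' (v ^ f') s ∧ ¬ s ∣ f' ∧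
      3 ≤ cls t (p ^ f) s) (hXX : ∀ r ∈ X, ∀ s ∈ X, r ≠ s → ¬ ∃ g : S, orderOf g = r * s) :
    (X.image (cls t (p ^ f))).card = X.card ∧ (∀ j ∈ X.image (cls t (p ^ f)), 3 ≤ j ∧ mem t j) ∧
      ∀ j ∈ X.image (cls t (p ^ f)), ∀ k ∈ X.image (cls t (p ^ f)), j ≠ k → na t j k := by
  have hin : ∀ s ∈ X, In t (p ^ f) (cls t (p ^ f) s) s := by
    intro s hs
    obtain ⟨h1, h2, h3, h4, h5⟩ := hX s hs
    refine ⟨h1, rfl, h5, ?_⟩
    obtain ⟨k1, k2, -⟩ := cls_facts h1 h5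
    have hsp : ¬ s ∣ p := fun hd => k2 (hd.trans (dvd_pow_self p (by have := h.fpos; omega)))
    refine (h.adj.dvd s h1 (by omega) hsp h5).1 ((h.dvd_iff h1).1 ?_)
    rw [card_eq_mul (K := K) (S := S)]
    exact h2.mul_right _
  have hgood : ∀ s ∈ X, ¬ s ∣ Nat.card K * S.index := by
    intro s hs
    obtain ⟨h1, h2, h3, h4, h5⟩ := hX s hs
    exact h.tame hR hF hS hn hq h1 h3 h4 h5
  have hnaL : ∀ r ∈ X, ∀ s ∈ X, r ≠ s → na t (cls t (p ^ f) r) (cls t (p ^ f) s) := by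
    intro r hr s hs hrs
    by_contra hcon
    have h1 := (h.adj_iff (hin r hr) (hin s hs) hrs).2 hcon
    exact hXX r hr s hs hrs (adj_S_of_good (hX r hr).1 (hX s hs).1 (hgood r hr) (hgood s hs) h1)
  refine ⟨?_, ?_, ?_⟩
  · apply Finset.card_image_of_injOn
    intro r hr s hs hrs
    by_contra hne
    exact na_ne (hnaL r hr s hs hne) hrs
  · intro j hj
    obtain ⟨s, hs, rfl⟩ := Finset.mem_image.1 hj
    exact ⟨(hin s hs).reg, (hin s hs).mem⟩
  · intro j hj k hk hjk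
    obtain ⟨r, hr, rfl⟩ := Finset.mem_image.1 hj
    obtain ⟨s, hs, rfl⟩ := Finset.mem_image.1 hk
    exact hnaL r hr s hs fun e => hjk (by rw [e])

end L

end Cfsg.Agent.R2.Spec.F1
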