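import Cfsg.Agent.R2.Spec.F1.KPr

/-!
# The primes of the radical have class at most two (helper23)

* `top_two` : a regular class which is not big is nonadjacent to two big classes;
* `LS.cls_le_two` : `Five t`, a prime `s ≠ v` of `|K|` has `cls t (p ^ f) s ≤ 2` (or is `p`, whose `cls` is 0);
* `LS.p_not_dvd_K` : `p ∤ |K|` if `p ≠ v` and `t` has two isolated classes.
-/

set_option autoImplicit false
set_option linter.unusedSectionVars false
set_option linter.unusedVariables false

namespace Cfsg.Agent.R2.Spec.F1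

open Subgroup Cfsg
open Cfsg.Agent.H426.LieFam Cfsg.Agent.R2.Spec Cfsg.Agent.R2.Spec.P1
open Cfsg.Agent.H420.QR

universe u w

theorem not_both_dvd {k a b : ℕ} (hk : 3 ≤ k) (ha : k ∣ a) (hb : k ∣ b) (hab : a < b) (hb2 : b ≤ a + 2) : False := by
  have h1 := (Nat.dvd_sub hb ha)
  have h2 := Nat.le_of_dvd (by omega) h1
  omega

theorem oddMul_parity {k i : ℕ} (h : OddMul k i) : i % 2 = k % 2 := by
  obtain ⟨c, hc, rfl⟩ := h
  rw [Nat.mul_mod, hc]
  omega

theorem oddMul_diff {k a b : ℕ} (ha : OddMul k a) (hb : OddMul k b) (hab : a < b) : 2 * k ≤ b - a := by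
  obtain ⟨c, hc, rfl⟩ := ha
  obtain ⟨d, hd, rfl⟩ := hb
  have h1 : c < d := Nat.lt_of_mul_lt_mul_left hab
  have h2 : c + 2 ≤ d := by omega
  have h3 := Nat.mul_le_mul_left k h2
  rw [Nat.mul_add] at h3
  omega

/-- the sum condition and the multiples, symplectic and odd orthogonal groups -/
theorem na_psp {n k j : ℕ} (hk : Big (.psp n) k → False) (hkm : eta k ≤ n) (hj : Big (.psp n) j) (hs : n < eta k + eta j)
    (h : ¬ OddMul k j) : na (.psp n) k j ∧ na (.oodd n) k j := by
  have hne : j ≠ k := by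
    rintro rfl
    exact hk hj
  have h1 : n < 2 * eta j := hj.2.2
  exact ⟨⟨hs, h, not_oddMul h1 hkm hne⟩, ⟨hs, h, not_oddMul h1 hkm hne⟩⟩

theorem na_oplus {n k j : ℕ} (hk : Big (.oplus n) k → False) (hkm : eta k ≤ n) (hj : Big (.oplus n) j)
    (hs : n < eta k + eta j ∨ (n = eta k + eta j ∧ (k + j) % 2 = 1)) (hjn : j = n → n % 2 = 1)
    (h : ¬ OddMul k j) : na (.oplus n) k j := by
  have hne : j ≠ k := by
    rintro rfl
    exact hk hj
  have h1 : n < 2 * eta j := hj.2.2
  refine ⟨hs, h, not_oddMul h1 hkm hne, ?_, ?_⟩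
  · rintro ⟨h2, h3, h4⟩
    rw [eta_odd h4] at h1
    omega
  · rintro ⟨h2, h3, h4⟩
    have := hjn h2
    omega

theorem na_ominus {n k j : ℕ} (hk : Big (.ominus n) k → False) (hkm : eta k ≤ n) (hj : Big (.ominus n) j)
    (hs : n < eta k + eta j ∨ (n = eta k + eta j ∧ (k + j) % 2 = 0)) (h : ¬ OddMul k j) : na (.ominus n) k j := by
  have hne : j ≠ k := by
    rintro rfl
    exact hk hj
  have h1 : n < 2 * eta j := hj.2.2
  exact ⟨hs, h, not_oddMul h1 hkm hne⟩

theorem top_lin {n k : ℕ} (hn : 5 ≤ n) (h3 : 3 ≤ k) (hk : 2 * k ≤ n) : ∃ i j, (3 ≤ i ∧ i ≤ n ∧ n < 2 * i) ∧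
    (3 ≤ j ∧ j ≤ n ∧ n < 2 * j) ∧ i ≠ j ∧ (n < k + i ∧ ¬ k ∣ i ∧ ¬ i ∣ k) ∧ (n < k + j ∧ ¬ k ∣ j ∧ ¬ j ∣ k) := by
  have hn6 : 6 ≤ n := by omega
  have key : ∀ {j}, n < 2 * j → ¬ j ∣ k := fun h => not_dvd_of_lt' (by omega) (by omega)
  by_cases h0 : k ∣ n
  · have h1 : ¬ k ∣ n - 1 := fun h => not_both_dvd h3 h h0 (by omega) (by omega)
    have h2 : ¬ k ∣ n - 2 := fun h => not_both_dvd h3 h h0 (by omega) (by omega)
    exact ⟨n - 1, n - 2, by omega, by omega, by omega, ⟨by omega, h1, key (by omega)⟩, by omega, h2, key (by omega)⟩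
  · by_cases h1 : k ∣ n - 1
    · have h2 : ¬ k ∣ n - 2 := fun h => not_both_dvd h3 h h1 (by omega) (by omega)
      exact ⟨n, n - 2, by omega, by omega, by omega, ⟨by omega, h0, key (by omega)⟩, by omega, h2, key (by omega)⟩
    · exact ⟨n, n - 1, by omega, by omega, by omega, ⟨by omega, h0, key (by omega)⟩, by omega, h1, key (by omega)⟩

/-- the weight of a regular class -/
theorem two_le_eta {k : ℕ} (h3 : 3 ≤ k) : 2 ≤ eta k ∧ (eta k = 2 → k = 4) ∧ (k % 2 = 1 → eta k = k) ∧
    (k % 2 = 0 → 2 * eta k = k) := by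
  rcases eta_cases k with ⟨⟨m, hm⟩, h2⟩ | ⟨⟨m, hm⟩, h2⟩ <;> omega

theorem top_psp {n k : ℕ} (hn : 5 ≤ n) (h3 : 3 ≤ k) (hkm : eta k ≤ n) (hk : Big (.psp n) k → False) :
    ∃ i j, Big (.psp n) i ∧ Big (.psp n) j ∧ i ≠ j ∧ (na (.psp n) k i ∧ na (.oodd n) k i) ∧
      (na (.psp n) k j ∧ na (.oodd n) k j) := by
  obtain ⟨he, he4, ho, hee⟩ := two_le_eta h3
  have keye : ∀ j, n < 2 * j → j ≤ n → Big (.psp n) (2 * j) := fun j h1 h2 =>
    ⟨by omega, by
      change eta (2 * j) ≤ n
      rw [eta_two_mul']; exact h2, by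
      change n < 2 * eta _
      rw [eta_two_mul']; exact h1⟩
  have keyo : ∀ j, j % 2 = 1 → n < 2 * j → j ≤ n → Big (.psp n) j := fun j hj h1 h2 =>
    ⟨by omega, by
      change eta j ≤ n
      rw [eta_odd hj]; exact h2, by
      change n < 2 * eta _
      rw [eta_odd hj]; exact h1⟩
  have B1 := keye n (by omega) le_rfl
  have B2 := keye (n - 1) (by omega) (by omega)
  have e1 := eta_two_mul' n
  have e2 := eta_two_mul' (n - 1)
  obtain ⟨o, ho1, ho2⟩ : ∃ o, o % 2 = 1 ∧ (o = n ∨ o + 1 = n) := by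
    rcases Nat.mod_two_eq_zero_or_one n with h | h
    · exact ⟨n - 1, by omega, by omega⟩
    · exact ⟨n, h, by omega⟩
  have B3 := keyo o ho1 (by omega) (by omega)
  have e3 := eta_odd ho1
  by_cases h1 : OddMul k (2 * n)
  · have h2 : ¬ OddMul k (2 * (n - 1)) := fun h => by
      have := oddMul_diff h h1 (by omega)
      omega
    have h4 : ¬ OddMul k o := fun h => by
      have := oddMul_parity h
      have := oddMul_parity h1
      omega
    exact ⟨_, _, B2, B3, by omega, na_psp hk hkm B2 (by omega) h2, na_psp hk hkm B3 (by omega) h4⟩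
  · by_cases h2 : OddMul k (2 * (n - 1))
    · have h4 : ¬ OddMul k o := fun h => by
        have := oddMul_parity h
        have := oddMul_parity h2
        omega
      exact ⟨_, _, B1, B3, by omega, na_psp hk hkm B1 (by omega) h1, na_psp hk hkm B3 (by omega) h4⟩
    · exact ⟨_, _, B1, B2, by omega, na_psp hk hkm B1 (by omega) h1, na_psp hk hkm B2 (by omega) h2⟩

theorem big_oodd {n i : ℕ} : Big (.oodd n) i ↔ Big (.psp n) i := Iff.rfl

theorem top_oplus {n k : ℕ} (hn : 5 ≤ n) (h3 : 3 ≤ k) (hkm : mem (.oplus n) k) (hk : Big (.oplus n) k → False) :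
    ∃ i j, Big (.oplus n) i ∧ Big (.oplus n) j ∧ i ≠ j ∧ na (.oplus n) k i ∧ na (.oplus n) k j := by
  obtain ⟨he, he4, ho, hee⟩ := two_le_eta h3
  have hkm' : eta k ≤ n := by
    rcases hkm with h | ⟨h, h1⟩
    · omega
    · rw [h, eta_odd h1]
  have keye : ∀ j, n < 2 * j → j + 1 ≤ n → Big (.oplus n) (2 * j) := fun j h1 h2 =>
    ⟨by omega, Or.inl (by rw [eta_two_mul']; exact h2), by
      change n < 2 * eta _
      rw [eta_two_mul']; exact h1⟩
  have keyo : ∀ j, j % 2 = 1 → n < 2 * j → j + 1 ≤ n ∨ (j = n ∧ n % 2 = 1) → Big (.oplus n) j := fun j hj h1 h2 =>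
    ⟨by omega, by
      rcases h2 with h2 | h2
      · exact Or.inl (by rw [eta_odd hj]; exact h2)
      · exact Or.inr h2, by
      change n < 2 * eta _
      rw [eta_odd hj]; exact h1⟩
  have B2 := keye (n - 1) (by omega) (by omega)
  have B4 := keye (n - 2) (by omega) (by omega)
  have e2 := eta_two_mul' (n - 1)
  have e4 := eta_two_mul' (n - 2)
  have D : ¬ (OddMul k (2 * (n - 1)) ∧ OddMul k (2 * (n - 2))) := fun ⟨h, h'⟩ => by
    have := oddMul_diff h' h (by omega)
    omega
  rcases Nat.mod_two_eq_zero_or_one n with hpar | hpar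
  · -- `n` even
    have ho1 : (n - 1) % 2 = 1 := by omega
    have B3 := keyo (n - 1) ho1 (by omega) (Or.inl (by omega))
    have e3 := eta_odd ho1
    by_cases hk4 : k = 4
    · have h1 : ¬ OddMul k (n - 1) := fun h => by
        have := oddMul_parity h
        omega
      have h2 : ¬ OddMul k (2 * (n - 1)) := by
        rintro ⟨c, hc, hc'⟩
        rw [hk4] at hc'
        omega
      exact ⟨_, _, B3, B2, by omega, na_oplus hk hkm' B3 (Or.inl (by omega)) (by omega) h1,
        na_oplus hk hkm' B2 (Or.inl (by omega)) (by omega) h2⟩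
    · have he3 : 3 ≤ eta k := by
        rcases Nat.lt_or_ge 2 (eta k) with h | h
        · exact h
        · exact absurd (he4 (by omega)) hk4
      by_cases h1 : OddMul k (n - 1)
      · have h2 : ¬ OddMul k (2 * (n - 1)) := fun h => by
          have := oddMul_parity h
          have := oddMul_parity h1
          omega
        have h4 : ¬ OddMul k (2 * (n - 2)) := fun h => by
          have := oddMul_parity h
          have := oddMul_parity h1
          omega
        exact ⟨_, _, B2, B4, by omega, na_oplus hk hkm' B2 (Or.inl (by omega)) (by omega) h2,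
          na_oplus hk hkm' B4 (Or.inl (by omega)) (by omega) h4⟩
      · by_cases h2 : OddMul k (2 * (n - 1))
        · have h4 : ¬ OddMul k (2 * (n - 2)) := fun h => D ⟨h2, h⟩
          exact ⟨_, _, B3, B4, by omega, na_oplus hk hkm' B3 (Or.inl (by omega)) (by omega) h1,
            na_oplus hk hkm' B4 (Or.inl (by omega)) (by omega) h4⟩
        · exact ⟨_, _, B3, B2, by omega, na_oplus hk hkm' B3 (Or.inl (by omega)) (by omega) h1,
            na_oplus hk hkm' B2 (Or.inl (by omega)) (by omega) h2⟩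
  · -- `n` odd
    have B1 := keyo n hpar (by omega) (Or.inr ⟨rfl, hpar⟩)
    have e1 := eta_odd hpar
    by_cases hk4 : k = 4
    · have ho1 : (n - 2) % 2 = 1 := by omega
      have B3 := keyo (n - 2) ho1 (by omega) (Or.inl (by omega))
      have e3 := eta_odd ho1
      have e5 : eta k = 2 := by rw [hk4]; rfl
      have h1 : ¬ OddMul k n := fun h => by
        have := oddMul_parity h
        omega
      have h2 : ¬ OddMul k (n - 2) := fun h => by
        have := oddMul_parity h
        omega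
      exact ⟨_, _, B1, B3, by omega, na_oplus hk hkm' B1 (Or.inl (by omega)) (fun _ => hpar) h1,
        na_oplus hk hkm' B3 (Or.inr ⟨by omega, by omega⟩) (by omega) h2⟩
    · have he3 : 3 ≤ eta k := by
        rcases Nat.lt_or_ge 2 (eta k) with h | h
        · exact h
        · exact absurd (he4 (by omega)) hk4
      by_cases h1 : OddMul k n
      · have h2 : ¬ OddMul k (2 * (n - 1)) := fun h => by
          have := oddMul_parity h
          have := oddMul_parity h1
          omega
        have h4 : ¬ OddMul k (2 * (n - 2)) := fun h => by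
          have := oddMul_parity h
          have := oddMul_parity h1
          omega
        exact ⟨_, _, B2, B4, by omega, na_oplus hk hkm' B2 (Or.inl (by omega)) (by omega) h2,
          na_oplus hk hkm' B4 (Or.inl (by omega)) (by omega) h4⟩
      · by_cases h2 : OddMul k (2 * (n - 1))
        · have h4 : ¬ OddMul k (2 * (n - 2)) := fun h => D ⟨h2, h⟩
          exact ⟨_, _, B1, B4, by omega, na_oplus hk hkm' B1 (Or.inl (by omega)) (fun _ => hpar) h1,
            na_oplus hk hkm' B4 (Or.inl (by omega)) (by omega) h4⟩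
        · exact ⟨_, _, B1, B2, by omega, na_oplus hk hkm' B1 (Or.inl (by omega)) (fun _ => hpar) h1,
            na_oplus hk hkm' B2 (Or.inl (by omega)) (by omega) h2⟩

theorem top_ominus {n k : ℕ} (hn : 5 ≤ n) (h3 : 3 ≤ k) (hkm : mem (.ominus n) k) (hk : Big (.ominus n) k → False) :
    ∃ i j, Big (.ominus n) i ∧ Big (.ominus n) j ∧ i ≠ j ∧ na (.ominus n) k i ∧ na (.ominus n) k j := by
  obtain ⟨he, he4, ho, hee⟩ := two_le_eta h3
  have hkm' : eta k ≤ n := by
    rcases hkm with h | h
    · omega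
    · rw [h, eta_two_mul']
  have keye : ∀ j, n < 2 * j → j ≤ n → Big (.ominus n) (2 * j) := fun j h1 h2 =>
    ⟨by omega, by
      change eta (2 * j) + 1 ≤ n ∨ 2 * j = 2 * n
      rw [eta_two_mul']; omega, by
      change n < 2 * eta _
      rw [eta_two_mul']; exact h1⟩
  have keyo : ∀ j, j % 2 = 1 → n < 2 * j → j + 1 ≤ n → Big (.ominus n) j := fun j hj h1 h2 =>
    ⟨by omega, Or.inl (by rw [eta_odd hj]; exact h2), by
      change n < 2 * eta _
      rw [eta_odd hj]; exact h1⟩
  have B1 := keye n (by omega) le_rfl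
  have B2 := keye (n - 1) (by omega) (by omega)
  have e1 := eta_two_mul' n
  have e2 := eta_two_mul' (n - 1)
  have D : ¬ (OddMul k (2 * (n - 1)) ∧ OddMul k (2 * n)) := fun ⟨h, h'⟩ => by
    have := oddMul_diff h h' (by omega)
    omega
  rcases Nat.mod_two_eq_zero_or_one n with hpar | hpar
  · -- `n` even
    have ho1 : (n - 1) % 2 = 1 := by omega
    have B3 := keyo (n - 1) ho1 (by omega) (by omega)
    have e3 := eta_odd ho1
    by_cases h1 : OddMul k (n - 1)
    · have h2 : ¬ OddMul k (2 * (n - 1)) := fun h => by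
        have := oddMul_parity h
        have := oddMul_parity h1
        omega
      have h4 : ¬ OddMul k (2 * n) := fun h => by
        have := oddMul_parity h
        have := oddMul_parity h1
        omega
      exact ⟨_, _, B2, B1, by omega, na_ominus hk hkm' B2 (Or.inl (by omega)) h2,
        na_ominus hk hkm' B1 (Or.inl (by omega)) h4⟩
    · by_cases h2 : OddMul k (2 * (n - 1))
      · have h4 : ¬ OddMul k (2 * n) := fun h => D ⟨h2, h⟩
        exact ⟨_, _, B3, B1, by omega, na_ominus hk hkm' B3 (Or.inl (by omega)) h1,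
          na_ominus hk hkm' B1 (Or.inl (by omega)) h4⟩
      · exact ⟨_, _, B3, B2, by omega, na_ominus hk hkm' B3 (Or.inl (by omega)) h1,
          na_ominus hk hkm' B2 (Or.inl (by omega)) h2⟩
  · -- `n` odd
    have B4 := keye (n - 2) (by omega) (by omega)
    have e4 := eta_two_mul' (n - 2)
    have hs : n < eta k + eta (2 * (n - 2)) ∨ (n = eta k + eta (2 * (n - 2)) ∧ (k + 2 * (n - 2)) % 2 = 0) := by
      rcases Nat.lt_or_ge 2 (eta k) with h | h
      · left; omega
      · have := he4 (by omega)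
        right; omega
    by_cases h1 : OddMul k (2 * n)
    · have h2 : ¬ OddMul k (2 * (n - 1)) := fun h => D ⟨h, h1⟩
      have h4 : ¬ OddMul k (2 * (n - 2)) := fun h => by
        have := oddMul_diff h h1 (by omega)
        omega
      exact ⟨_, _, B2, B4, by omega, na_ominus hk hkm' B2 (Or.inl (by omega)) h2, na_ominus hk hkm' B4 hs h4⟩
    · by_cases h2 : OddMul k (2 * (n - 1))
      · have h4 : ¬ OddMul k (2 * (n - 2)) := fun h => by
          have := oddMul_diff h h2 (by omega)
          omega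
        exact ⟨_, _, B1, B4, by omega, na_ominus hk hkm' B1 (Or.inl (by omega)) h1, na_ominus hk hkm' B4 hs h4⟩
      · exact ⟨_, _, B1, B2, by omega, na_ominus hk hkm' B1 (Or.inl (by omega)) h1,
          na_ominus hk hkm' B2 (Or.inl (by omega)) h2⟩

/-- **A regular class which is not big is nonadjacent to two big classes** (rank at least 5). -/
theorem top_two {t : Fam} (ht : Classical t) (hn : 5 ≤ rk t) {k : ℕ} (h3 : 3 ≤ k) (hkm : mem t k) (hk : ¬ Big t k) :
    ∃ i j, Big t i ∧ Big t j ∧ i ≠ j ∧ na t k i ∧ na t k j := by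
  cases t with
  | psl n =>
    have h1 : 2 * k ≤ n := by
      by_contra hcon
      exact hk ⟨h3, hkm, by change n < 2 * k; omega⟩
    obtain ⟨i, j, hi, hj, hij, hki, hkj⟩ := top_lin (n := n) hn h3 h1
    exact ⟨i, j, hi, hj, hij, hki, hkj⟩
  | psu n =>
    have h1 : 2 * k ≤ n := by
      by_contra hcon
      exact hk ⟨h3, hkm, by change n < 2 * k; omega⟩
    obtain ⟨i, j, hi, hj, hij, hki, hkj⟩ := top_lin (n := n) hn h3 h1
    exact ⟨i, j, hi, hj, hij, hki, hkj⟩
  | psp n =>
    obtain ⟨i, j, hi, hj, hij, hki, hkj⟩ := top_psp hn h3 hkm hk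
    exact ⟨i, j, hi, hj, hij, hki.1, hkj.1⟩
  | oodd n =>
    obtain ⟨i, j, hi, hj, hij, hki, hkj⟩ := top_psp hn h3 hkm hk
    exact ⟨i, j, hi, hj, hij, hki.2, hkj.2⟩
  | oplus n => exact top_oplus hn h3 hkm hk
  | ominus n => exact top_ominus hn h3 hkm hk
  | _ => exact ht.elim

variable {t : Fam} {p f : ℕ} {L : Type w} [Group L] [Finite L] {G : Type u} [Group G] [Finite G]
variable {K : Subgroup G} [K.Normal] {S : Subgroup (G ⧸ K)} [S.Normal]
variable {t' : Fam} {v f' : ℕ}

theorem exists_big_cls (h : LS t p f L G) (h5 : Five t) (hq : FldOk t (p ^ f)) {i : ℕ} (hi : Big t i) :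
    ∃ r : ℕ, In t (p ^ f) i r := by
  obtain ⟨h3, hm, hb⟩ := hi
  have hex : p ^ f = 2 → i ≠ 6 ∧ i ≠ 3 := by
    intro hq2
    rw [hq2] at hq
    constructor
    · rintro rfl
      cases t with
      | psl n =>
        change n < 2 * 6 at hb
        have : 12 ≤ n := hq rfl
        omega
      | psu n =>
        change n < 2 * 6 at hb
        have : 12 ≤ n := hq rfl
        omega
      | psp n =>
        change n < 2 * 3 at hb
        change 7 ≤ n at h5
        omega
      | oodd n =>
        change n < 2 * 3 at hb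
        change 7 ≤ n at h5
        omega
      | oplus n =>
        change n < 2 * 3 at hb
        change 7 ≤ n at h5
        omega
      | ominus n =>
        change n < 2 * 3 at hb
        change 7 ≤ n at h5
        omega
      | _ => exact h5.elim
    · rintro rfl
      cases t with
      | psl n =>
        change n < 2 * 3 at hb
        change 9 ≤ n at h5
        omega
      | psu n =>
        change n < 2 * 3 at hb
        change 9 ≤ n at h5
        omega
      | psp n =>
        change n < 2 * 3 at hb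
        change 7 ≤ n at h5
        omega
      | oodd n =>
        change n < 2 * 3 at hb
        change 7 ≤ n at h5
        omega
      | oplus n =>
        change n < 2 * 3 at hb
        change 7 ≤ n at h5
        omega
      | ominus n =>
        change n < 2 * 3 at hb
        change 7 ≤ n at h5
        omega
      | _ => exact h5.elim
  obtain ⟨r, hr, hc⟩ := exists_cls (t := t) h.q_pos h3 hex
  exact ⟨r, hr, hc, h3, hm⟩

/-- **`S` is not small.** -/
theorem LS.bigS_five (h : LS t p f L G) (hR : Red G K S) (hF : Frm G K S t' v f') (h5 : Five t)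
    (hq : FldOk t (p ^ f)) : BigS t' :=
  h.bigS hR hF (I := BigF t) (fun j hj => ⟨(mem_BigF.1 hj).1, (mem_BigF.1 hj).2.1⟩)
    (fun j hj k hk hjk => na_of_big h.cla (mem_BigF.1 hj) (mem_BigF.1 hk) hjk)
    (fun j hj => by
      obtain ⟨r, hr⟩ := exists_big_cls h h5 hq (mem_BigF.1 hj)
      exact ⟨r, hr.prime, hr.cls_eq⟩) (card_BigF h5)

/-- **The primes of the big classes are different from the characteristic of `S`.** -/
theorem LS.big_ne_v (h : LS t p f L G) (hR : Red G K S) (hF : Frm G K S t' v f') (h5 : Five t)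
    (hq : FldOk t (p ^ f)) {i : ℕ} (hi : Big t i) {r : ℕ} (hr : r.Prime) (hri : cls t (p ^ f) r = i) : r ≠ v :=
  h.ne_v_of_five hR hF (I := BigF t) (fun j hj => ⟨(mem_BigF.1 hj).1, (mem_BigF.1 hj).2.1⟩)
    (fun j hj k hk hjk => na_of_big h.cla (mem_BigF.1 hj) (mem_BigF.1 hk) hjk)
    (fun j hj => by
      obtain ⟨r, hr⟩ := exists_big_cls h h5 hq (mem_BigF.1 hj)
      exact ⟨r, hr.prime, hr.cls_eq⟩) (card_BigF h5) (mem_BigF.2 hi) hr hri

/-- **The primes of the radical have class at most two.** -/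
theorem LS.cls_le_two (h : LS t p f L G) (hR : Red G K S) (hF : Frm G K S t' v f') (h5 : Five t)
    (hq : FldOk t (p ^ f)) {s : ℕ} (hs : s.Prime) (hsv : s ≠ v) (hsK : s ∣ Nat.card K) : cls t (p ^ f) s ≤ 2 := by
  by_contra hcon
  have h3 : 3 ≤ cls t (p ^ f) s := by omega
  obtain ⟨hs5, hsq, -⟩ := cls_facts hs h3
  have hsp : ¬ s ∣ p := fun hd => hsq (hd.trans (dvd_pow_self p (by have := h.fpos; omega)))
  have hsG : s ∣ Nat.card G := by
    rw [card_eq_mul (K := K) (S := S)]
    exact Dvd.dvd.mul_left (hsK.mul_right _) _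
  have hm : mem t (cls t (p ^ f) s) :=
    (h.adj.dvd s hs (by omega) hsp h3).1 ((h.dvd_iff hs).1 hsG)
  have hn5 : 5 ≤ rk t := by
    cases t with
    | psl n => exact (show 5 ≤ n from le_trans (by norm_num) (show 9 ≤ n from h5))
    | psu n => exact (show 5 ≤ n from le_trans (by norm_num) (show 9 ≤ n from h5))
    | psp n => exact (show 5 ≤ n from le_trans (by norm_num) (show 7 ≤ n from h5))
    | oodd n => exact (show 5 ≤ n from le_trans (by norm_num) (show 7 ≤ n from h5))
    | oplus n => exact (show 5 ≤ n from le_trans (by norm_num) (show 7 ≤ n from h5))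
    | ominus n => exact (show 5 ≤ n from le_trans (by norm_num) (show 7 ≤ n from h5))
    | _ => exact h5.elim
  have hsI : In t (p ^ f) (cls t (p ^ f) s) s := ⟨hs, rfl, h3, hm⟩
  have hnb : ¬ Big t (cls t (p ^ f) s) := fun hb => (h.good_big hR hF h5 hq hb hs rfl).1 (hsK.mul_right _)
  obtain ⟨i, j, hi, hj, hij, hki, hkj⟩ := top_two h.cla hn5 h3 hm hnb
  obtain ⟨x, hx⟩ := exists_big_cls h h5 hq hi
  obtain ⟨y, hy⟩ := exists_big_cls h h5 hq hj
  exact h.cls_kprime hR hF (h.bigS_five hR hF h5 hq) hsI hsv hx hy (na_of_big h.cla hi hj hij) hki hkj hsK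

end Cfsg.Agent.R2.Spec.F1
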