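import Cfsg.Agent.R2.Spec.P1.TopDef

/-!
# The numbers of two isolated classes are coprime (helper23)
-/

set_option autoImplicit false
set_option linter.unusedVariables false

namespace Cfsg.Agent.R2.Spec.F1

open Cfsg.Agent.H426.LieFam Cfsg.Agent.R2.Spec Cfsg.Agent.R2.Spec.P1

theorem geom_mod (Q : ℤ) (n : ℕ) : Q - 1 ∣ (∑ k ∈ Finset.range n, Q ^ k) - n := by
  have h1 : (∑ k ∈ Finset.range n, Q ^ k) - n = ∑ k ∈ Finset.range n, (Q ^ k - 1) := by
    rw [Finset.sum_sub_distrib, Finset.sum_const, Finset.card_range, nsmul_eq_mul, mul_one]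
  rw [h1]
  exact Finset.dvd_sum fun k _ => sub_one_dvd_pow_sub_one Q k

/-- **The linear and unitary families**, `Q = ± q`. -/
theorem cop_lin {Q M N : ℤ} {n d : ℕ} (hn : 1 ≤ n) (hd : (d : ℤ) = Int.gcd n (Q - 1)) (hd0 : d ≠ 0) (hQ : Q ≠ 1)
    (hM : M * d = ∑ k ∈ Finset.range n, Q ^ k) (hN : N * d = Q ^ (n - 1) - 1) {s : ℕ} (hs : s.Prime)
    (hsM : (s : ℤ) ∣ M) (hsN : (s : ℤ) ∣ N) : False := by
  have hd1 : (d : ℤ) ∣ n := by rw [hd]; exact Int.gcd_dvd_left _ _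
  obtain ⟨c, hc⟩ : (d : ℤ) ∣ Q - 1 := by rw [hd]; exact Int.gcd_dvd_right _ _
  have hd0' : (d : ℤ) ≠ 0 := by exact_mod_cast hd0
  obtain ⟨m, rfl⟩ : ∃ m, n = m + 1 := ⟨n - 1, by omega⟩
  rw [Nat.add_sub_cancel] at hN
  have h1 : M * d * (Q - 1) = Q ^ (m + 1) - 1 := by
    rw [hM]
    exact geom_sum_mul Q (m + 1)
  have h2 : c * d * M = Q * N + c := by
    apply mul_right_cancel₀ hd0'
    have h3 : M * d * (Q - 1) = Q * (N * d) + (Q - 1) := by
      rw [h1, hN]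
      ring
    rw [hc] at h3
    linear_combination h3
  have h4 : (s : ℤ) ∣ c := by
    have h5 : (s : ℤ) ∣ Q * N + c := by
      rw [← h2]
      exact Dvd.dvd.mul_left hsM _
    exact (dvd_add_right (Dvd.dvd.mul_left hsN Q)).1 h5
  have h5 : ((s * d : ℕ) : ℤ) ∣ Q - 1 := by
    rw [hc]
    push_cast
    rw [mul_comm]
    exact mul_dvd_mul_left _ h4
  have h6 : ((s * d : ℕ) : ℤ) ∣ ((m + 1 : ℕ) : ℤ) := by
    have h7 := h5.trans (geom_mod Q (m + 1))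
    have h8 : ((s * d : ℕ) : ℤ) ∣ ∑ k ∈ Finset.range (m + 1), Q ^ k := by
      rw [← hM]
      push_cast
      exact mul_dvd_mul_right hsM _
    exact (dvd_sub_right h8).1 h7
  have h7 : ((s * d : ℕ) : ℤ) ∣ (d : ℤ) := by
    rw [hd]
    exact Int.dvd_coe_gcd h6 h5
  have h8 : s * d ∣ 1 * d := by
    rw [one_mul]
    exact Int.natCast_dvd_natCast.1 h7
  exact hs.one_lt.ne' (Nat.dvd_one.1 (Nat.dvd_of_mul_dvd_mul_right (Nat.pos_of_ne_zero hd0) h8))

theorem coprime_of_prime {M N : ℕ} (h : ∀ s : ℕ, s.Prime → s ∣ M → s ∣ N → False) : Nat.Coprime M N := by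
  by_contra hcon
  obtain ⟨s, hs, h1, h2⟩ := Nat.Prime.not_coprime_iff_dvd.1 hcon
  exact h s hs h1 h2

theorem cop_psl {n q : ℕ} (hn : 2 ≤ n) (hq : 2 ≤ q) :
    Nat.Coprime ((q ^ n - 1) / ((q - 1) * Nat.gcd n (q - 1))) ((q ^ (n - 1) - 1) / Nat.gcd n (q - 1)) := by
  obtain ⟨d, hd⟩ : ∃ d, d = Nat.gcd n (q - 1) := ⟨_, rfl⟩
  have hd0 : d ≠ 0 := by rw [hd]; exact Nat.gcd_ne_zero_left (by omega)
  have hdn : d ∣ n := by rw [hd]; exact Nat.gcd_dvd_left _ _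
  have hdq : d ∣ q - 1 := by rw [hd]; exact Nat.gcd_dvd_right _ _
  rw [← hd]
  have hqn := Nat.one_le_pow n q (by omega)
  have hqn' := Nat.one_le_pow (n - 1) q (by omega)
  have hdq' : (d : ℤ) ∣ (q : ℤ) - 1 := by
    have := Int.natCast_dvd_natCast.2 hdq
    rwa [Nat.cast_sub (by omega), Nat.cast_one] at this
  -- `d` divides the geometric sum
  have hg := geom_mod (q : ℤ) n
  have h1 : (d : ℤ) ∣ ∑ k ∈ Finset.range n, (q : ℤ) ^ k :=
    (dvd_sub_left (Int.natCast_dvd_natCast.2 hdn)).1 (hdq'.trans hg)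
  obtain ⟨M, hM⟩ := h1
  have hgs := geom_sum_mul (q : ℤ) n
  have hMe : (q ^ n - 1) / ((q - 1) * d) = M.toNat := by
    have hM0 : 0 ≤ M := by
      have h2 : 0 ≤ (d : ℤ) * M := by
        rw [← hM]
        exact Finset.sum_nonneg fun k _ => by positivity
      exact nonneg_of_mul_nonneg_right h2 (by exact_mod_cast Nat.pos_of_ne_zero hd0)
    apply Nat.div_eq_of_eq_mul_right (Nat.mul_pos (by omega) (Nat.pos_of_ne_zero hd0))
    zify [hqn, (by omega : 1 ≤ q)]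
    rw [Int.toNat_of_nonneg hM0, ← hgs, hM]
    ring
  have hNd : d ∣ q ^ (n - 1) - 1 := by
    refine hdq.trans ?_
    have := Nat.sub_one_dvd_pow_sub_one q (n - 1)
    exact this
  obtain ⟨N, hN⟩ := hNd
  have hNe : (q ^ (n - 1) - 1) / d = N := by rw [hN]; exact Nat.mul_div_cancel_left _ (Nat.pos_of_ne_zero hd0)
  rw [hMe, hNe]
  refine coprime_of_prime fun s hs hsM hsN => ?_
  have hM0 : 0 ≤ M := by
    have h2 : 0 ≤ (d : ℤ) * M := by
      rw [← hM]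
      exact Finset.sum_nonneg fun k _ => by positivity
    exact nonneg_of_mul_nonneg_right h2 (by exact_mod_cast Nat.pos_of_ne_zero hd0)
  refine cop_lin (Q := (q : ℤ)) (M := M) (N := N) (n := n) (d := d) (by omega) ?_ hd0 (by omega) ?_ ?_ hs ?_ ?_
  · rw [hd, show ((q : ℤ) - 1) = ((q - 1 : ℕ) : ℤ) by rw [Nat.cast_sub (by omega), Nat.cast_one]]
    rw [Int.gcd_natCast_natCast]
  · rw [hM, mul_comm]
  · have h2 := congrArg (fun k : ℕ => (k : ℤ)) hN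
    push_cast [hqn'] at h2
    rw [h2]; ring
  · have := Int.natCast_dvd_natCast.2 hsM
    rwa [Int.toNat_of_nonneg hM0] at this
  · exact_mod_cast hsN

/-- the unitary family -/
theorem cop_psu {n q A B : ℕ} (hn : 2 ≤ n) (hq : 2 ≤ q) (hA : (A : ℤ) = (-1) ^ n * ((-(q : ℤ)) ^ n - 1))
    (hB : (B : ℤ) = (-1) ^ (n - 1) * ((-(q : ℤ)) ^ (n - 1) - 1)) :
    Nat.Coprime (A / ((q + 1) * Nat.gcd n (q + 1))) (B / Nat.gcd n (q + 1)) := by
  obtain ⟨d, hd⟩ : ∃ d, d = Nat.gcd n (q + 1) := ⟨_, rfl⟩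
  have hd0 : d ≠ 0 := by rw [hd]; exact Nat.gcd_ne_zero_left (by omega)
  have hdn : d ∣ n := by rw [hd]; exact Nat.gcd_dvd_left _ _
  have hdq : d ∣ q + 1 := by rw [hd]; exact Nat.gcd_dvd_right _ _
  rw [← hd]
  have hd' : (0 : ℤ) < d := by exact_mod_cast Nat.pos_of_ne_zero hd0
  have hdq' : (d : ℤ) ∣ -(q : ℤ) - 1 := by
    have h1 : (d : ℤ) ∣ (q : ℤ) + 1 := by exact_mod_cast hdq
    have h2 := (dvd_neg (a := (d : ℤ))).2 h1
    rwa [show -((q : ℤ) + 1) = -(q : ℤ) - 1 by ring] at h2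
  have hg := geom_mod (-(q : ℤ)) n
  have h1 : (d : ℤ) ∣ ∑ k ∈ Finset.range n, (-(q : ℤ)) ^ k :=
    (dvd_sub_left (Int.natCast_dvd_natCast.2 hdn)).1 (hdq'.trans hg)
  obtain ⟨M, hM⟩ := h1
  have hgs := geom_sum_mul (-(q : ℤ)) n
  have hsgn : ((-1 : ℤ) ^ n) * ((-1) ^ n) = 1 := by
    rw [← mul_pow]; norm_num
  have hA' : (A : ℤ) = ((-1) ^ n * (-1) * M) * ((q + 1) * d) := by
    rw [hA, ← hgs, hM]
    ring
  have hMA : ((A / ((q + 1) * d) : ℕ) : ℤ) = (-1) ^ n * (-1) * M := by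
    rw [Int.natCast_div]
    push_cast
    rw [hA', Int.mul_ediv_cancel]
    positivity
  have hNd : (d : ℤ) ∣ (-(q : ℤ)) ^ (n - 1) - 1 := hdq'.trans (sub_one_dvd_pow_sub_one _ _)
  obtain ⟨N, hN⟩ := hNd
  have hNB : ((B / d : ℕ) : ℤ) = (-1) ^ (n - 1) * N := by
    have hB' : (B : ℤ) = ((-1) ^ (n - 1) * N) * d := by
      rw [hB, hN]
      ring
    rw [Int.natCast_div, hB', Int.mul_ediv_cancel _ hd'.ne']
  refine coprime_of_prime fun s hs hsM hsN => ?_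
  have hu : ∀ k : ℕ, IsUnit ((-1 : ℤ) ^ k) := fun k => (isUnit_one.neg).pow k
  refine cop_lin (Q := -(q : ℤ)) (M := M) (N := N) (n := n) (d := d) (by omega) ?_ hd0 (by omega) ?_ ?_ hs ?_ ?_
  · rw [hd, show (-(q : ℤ) - 1) = -((q + 1 : ℕ) : ℤ) by push_cast; ring, Int.gcd_neg, Int.gcd_natCast_natCast]
  · rw [hM, mul_comm]
  · rw [hN, mul_comm]
  · have h2 := Int.natCast_dvd_natCast.2 hsM
    rw [hMA] at h2
    exact ((hu n).mul isUnit_one.neg).dvd_mul_left.1 h2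
  · have h2 := Int.natCast_dvd_natCast.2 hsN
    rw [hNB] at h2
    exact (hu (n - 1)).dvd_mul_left.1 h2

theorem cop_succ {A : ℕ} : Nat.Coprime A (A + 1) := by simp

theorem sq_mod_eight {q : ℕ} (h : q % 2 = 1) (m : ℕ) : q ^ (2 * m) % 8 = 1 := by
  have h2 : q % 8 = 1 ∨ q % 8 = 3 ∨ q % 8 = 5 ∨ q % 8 = 7 := by omega
  have h1 : q ^ 2 % 8 = 1 := by
    rcases h2 with h2 | h2 | h2 | h2 <;> rw [Nat.pow_mod, h2]
  rw [pow_mul, Nat.pow_mod, h1, one_pow]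
  rfl

theorem half_cop {q n : ℕ} (h : q % 2 = 1) (hn : n ≠ 0) : Nat.Coprime ((q ^ n - 1) / 2) ((q ^ n + 1) / 2) := by
  have h1 : q ^ n % 2 = 1 := by rw [Nat.pow_mod, h, one_pow]; rfl
  have h2 : (q ^ n + 1) / 2 = (q ^ n - 1) / 2 + 1 := by omega
  rw [h2]
  exact cop_succ

theorem gcd_four (x : ℕ) : Nat.gcd 4 x = 1 ∨ (Nat.gcd 4 x = 2 ∧ 2 ∣ x ∧ ¬ 4 ∣ x) ∨ (Nat.gcd 4 x = 4 ∧ 4 ∣ x) := by
  have h : x % 4 = 0 ∨ x % 4 = 1 ∨ x % 4 = 2 ∨ x % 4 = 3 := by omega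
  have h0 : Nat.gcd 4 x = Nat.gcd 4 (x % 4) := by
    rw [Nat.gcd_comm 4 x, Nat.gcd_comm 4 (x % 4)]
    conv_lhs => rw [← Nat.div_add_mod x 4]
    simp
  rw [h0]
  rcases h with h | h | h | h <;> rw [h]
  · right; right; exact ⟨rfl, by omega⟩
  · left; rfl
  · right; left; exact ⟨rfl, by omega, by omega⟩
  · left; rfl

/-- a common prime divisor of quotients -/
theorem dvd_of_div {s A c : ℕ} (hc : c ∣ A) (h : s ∣ A / c) : s * c ∣ A := by
  obtain ⟨k, hk⟩ := hc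
  rcases Nat.eq_zero_or_pos c with rfl | hc0
  · rw [zero_mul] at hk
    rw [hk]
    exact dvd_zero _
  · rw [hk, Nat.mul_div_cancel_left _ hc0] at h
    rw [hk, mul_comm c k]
    exact Nat.mul_dvd_mul_right h c

theorem cop_oplus {q n : ℕ} (h : q % 2 = 1) (hn : n % 2 = 1) :
    Nat.Coprime ((q ^ n - 1) / Nat.gcd 4 (q ^ n - 1)) ((q ^ (n - 1) + 1) * (q + 1) / Nat.gcd 4 (q ^ n - 1)) := by
  obtain ⟨m, rfl⟩ : ∃ m, n = 2 * m + 1 := ⟨n / 2, by omega⟩
  rw [Nat.add_sub_cancel]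
  have h8 := sq_mod_eight h m
  obtain ⟨V, hV⟩ : ∃ V, V = q ^ (2 * m) := ⟨_, rfl⟩
  have hqV : q ^ (2 * m + 1) = V * q := by rw [pow_succ, hV]
  rw [hqV, ← hV]
  rw [← hV] at h8
  have hV1 : 1 ≤ V := by omega
  have hq1 : 1 ≤ q := by omega
  have hVq : 1 ≤ V * q := Nat.mul_pos hV1 hq1
  obtain ⟨c, hc⟩ : ∃ c, c = Nat.gcd 4 (V * q - 1) := ⟨_, rfl⟩
  have hcd : c ∣ V * q - 1 := by rw [hc]; exact Nat.gcd_dvd_right _ _
  have h4 : 4 ∣ (V + 1) * (q + 1) := by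
    obtain ⟨a, ha⟩ : 2 ∣ V + 1 := by omega
    obtain ⟨b, hb⟩ : 2 ∣ q + 1 := by omega
    rw [ha, hb]
    exact ⟨a * b, by ring⟩
  have hcd' : c ∣ (V + 1) * (q + 1) := (by rw [hc]; exact Nat.gcd_dvd_left _ _ : c ∣ 4).trans h4
  rw [← hc]
  have hmod : (V * q) % 8 = q % 8 := by rw [Nat.mul_mod, h8, one_mul, Nat.mod_mod]
  refine coprime_of_prime fun s hs hsM hsN => ?_
  have h1 := dvd_of_div hcd hsM
  have h2 := dvd_of_div hcd' hsN
  by_cases hs2 : s = 2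
  · rw [hs2] at h1 h2
    rcases gcd_four (V * q - 1) with h5 | ⟨h5, h6, h7⟩ | ⟨h5, h6⟩
    · rw [← hc] at h5
      have : ¬ 2 ∣ c := by omega
      have h9 : 2 ∣ c := by rw [hc]; exact Nat.dvd_gcd (by norm_num) (by omega)
      exact this h9
    · rw [← hc] at h5
      rw [h5] at h1
      exact h7 (by omega)
    · rw [← hc] at h5
      rw [h5] at h1 h2
      have hq8 : q % 8 = 1 := by omega
      obtain ⟨a, ha⟩ : ∃ a, V = 8 * a + 1 := ⟨V / 8, by omega⟩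
      obtain ⟨b, hb⟩ : ∃ b, q = 8 * b + 1 := ⟨q / 8, by omega⟩
      rw [ha, hb] at h2
      have h9 : (8 * a + 1 + 1) * (8 * b + 1 + 1) = 8 * (8 * a * b + 2 * a + 2 * b) + 4 := by ring
      rw [h9] at h2
      omega
  · have hsA : s ∣ V * q - 1 := (Dvd.intro _ rfl).trans h1
    have hsB : s ∣ (V + 1) * (q + 1) := (Dvd.intro _ rfl).trans h2
    have hfs := Fact.mk hs
    have e1 : ((V : ℕ) : ZMod s) * q = 1 := by
      have := (ZMod.natCast_eq_zero_iff _ _).2 hsA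
      push_cast [hVq] at this
      linear_combination this
    have e3 : ((V : ZMod s) + 1) * (q + 1) = 0 := by
      have := (ZMod.natCast_eq_zero_iff _ _).2 hsB
      push_cast at this
      exact this
    have e4 : (q : ZMod s) + 1 = 0 := by
      rcases mul_eq_zero.1 e3 with e | e
      · linear_combination q * e - e1
      · exact e
    have e5 : ((V : ℕ) : ZMod s) = 1 := by
      have : (q : ZMod s) = -1 := by linear_combination e4
      rw [hV]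
      push_cast
      rw [this, pow_mul]
      norm_num
    have e6 : ((2 : ℕ) : ZMod s) = 0 := by
      have : (q : ZMod s) = -1 := by linear_combination e4
      rw [e5, this] at e1
      push_cast
      linear_combination -e1
    exact hs2 ((Nat.prime_dvd_prime_iff_eq hs Nat.prime_two).1 ((ZMod.natCast_eq_zero_iff _ _).1 e6))

theorem cop_ominus {q n : ℕ} (h : q % 2 = 1) (hn : 2 ≤ n) :
    Nat.Coprime ((q ^ n + 1) / Nat.gcd 4 (q ^ n + 1)) ((q ^ (n - 1) + 1) * (q - 1) / Nat.gcd 4 (q ^ n + 1)) := by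
  obtain ⟨m, rfl⟩ : ∃ m, n = m + 1 := ⟨n - 1, by omega⟩
  rw [Nat.add_sub_cancel]
  obtain ⟨V, hV⟩ : ∃ V, V = q ^ m := ⟨_, rfl⟩
  have hqV : q ^ (m + 1) = V * q := by rw [pow_succ, hV]
  rw [hqV, ← hV]
  have hVo : V % 2 = 1 := by rw [hV, Nat.pow_mod, h, one_pow]; rfl
  have hq1 : 1 ≤ q := by omega
  obtain ⟨c, hc⟩ : ∃ c, c = Nat.gcd 4 (V * q + 1) := ⟨_, rfl⟩
  have hcd : c ∣ V * q + 1 := by rw [hc]; exact Nat.gcd_dvd_right _ _
  have h4 : 4 ∣ (V + 1) * (q - 1) := by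
    obtain ⟨a, ha⟩ : 2 ∣ V + 1 := by omega
    obtain ⟨b, hb⟩ : 2 ∣ q - 1 := by omega
    rw [ha, hb]
    exact ⟨a * b, by ring⟩
  have hcd' : c ∣ (V + 1) * (q - 1) := (by rw [hc]; exact Nat.gcd_dvd_left _ _ : c ∣ 4).trans h4
  rw [← hc]
  refine coprime_of_prime fun s hs hsM hsN => ?_
  have h1 := dvd_of_div hcd hsM
  have h2 := dvd_of_div hcd' hsN
  by_cases hs2 : s = 2
  · rw [hs2] at h1 h2
    rcases gcd_four (V * q + 1) with h5 | ⟨h5, h6, h7⟩ | ⟨h5, h6⟩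
    · rw [← hc] at h5
      have h8 : (V * q) % 2 = 1 := by rw [Nat.mul_mod, hVo, h]
      have h9 : 2 ∣ c := by rw [hc]; exact Nat.dvd_gcd (by norm_num) (by omega)
      omega
    · rw [← hc] at h5
      rw [h5] at h1
      exact h7 (by omega)
    · rw [← hc] at h5
      rw [h5] at h1 h2
      rcases Nat.even_or_odd' m with ⟨k, hk | hk⟩
      · -- `m` even
        have h8 : V % 8 = 1 := by rw [hV, hk]; exact sq_mod_eight h k
        have hmod : (V * q) % 8 = q % 8 := by rw [Nat.mul_mod, h8, one_mul, Nat.mod_mod]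
        have hq8 : q % 8 = 7 := by omega
        obtain ⟨a, ha⟩ : ∃ a, V = 8 * a + 1 := ⟨V / 8, by omega⟩
        obtain ⟨b, hb⟩ : ∃ b, q = 8 * b + 7 := ⟨q / 8, by omega⟩
        rw [ha, hb, show 8 * b + 7 - 1 = 8 * b + 6 by omega] at h2
        have h9 : (8 * a + 1 + 1) * (8 * b + 6) = 8 * (8 * a * b + 6 * a + 2 * b + 1) + 4 := by ring
        rw [h9] at h2
        omega
      · have h8 : (V * q) % 8 = 1 := by
          rw [← hqV, hk, show 2 * k + 1 + 1 = 2 * (k + 1) by ring]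
          exact sq_mod_eight h (k + 1)
        omega
  · have hsA : s ∣ V * q + 1 := (Dvd.intro _ rfl).trans h1
    have hsB : s ∣ (V + 1) * (q - 1) := (Dvd.intro _ rfl).trans h2
    have hfs := Fact.mk hs
    have e1 : ((V : ℕ) : ZMod s) * q = -1 := by
      have := (ZMod.natCast_eq_zero_iff _ _).2 hsA
      push_cast at this
      linear_combination this
    have e3 : ((V : ZMod s) + 1) * (q - 1) = 0 := by
      have := (ZMod.natCast_eq_zero_iff _ _).2 hsB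
      push_cast [hq1] at this
      exact this
    have e4 : (q : ZMod s) = 1 := by
      rcases mul_eq_zero.1 e3 with e | e
      · linear_combination q * e - e1
      · linear_combination e
    have e5 : ((V : ℕ) : ZMod s) = 1 := by
      rw [hV]
      push_cast
      rw [e4, one_pow]
    have e6 : ((2 : ℕ) : ZMod s) = 0 := by
      rw [e5, e4] at e1
      push_cast
      linear_combination e1
    exact hs2 ((Nat.prime_dvd_prime_iff_eq hs Nat.prime_two).1 ((ZMod.natCast_eq_zero_iff _ _).1 e6))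

end Cfsg.Agent.R2.Spec.F1
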